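import Cfsg.Agent.BlockBasic.Basic
import Cfsg.Agent.CharBasic.Kernel
import Cfsg.Agent.CharInduce.Ops
import Cfsg.Agent.Cores.PCore

/-!
# Kazarin's theorem on a conjugacy class of prime power size

If `G` is the normal closure of `x` and the class of `x` has `p`-power size, then the commutator
subgroup of `G` is a `p`-group.  For a prime `r ≠ p`: every character of the principal `r`-block
of degree prime to `p` is linear (Burnside's argument, as `|cl x| χ(x)/χ(1)` is a unit at `r`),
and there is a number prime to `p` of linear ones, so weak block orthogonality forbids elements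
of order `r` in the commutator subgroup.
-/

set_option autoImplicit false
set_option linter.style.haveILetI false

open scoped ComplexConjugate commutatorElement

namespace Cfsg.Agent.H79.Kazarin

open Cfsg CharBasic BlockBasic

universe u

variable {G : Type u} [Group G]

theorem exists_linear_of_mem [Finite G] {x : G} (hgen : Subgroup.normalClosure {x} = ⊤)
    {p a : ℕ} (hp : p.Prime)
    (hidx : (Subgroup.centralizer ({x} : Set G)).index = p ^ a) {r : ℕ} (hr : r.Prime)
    (hrp : r ≠ p) {M : Ideal AlgInt} (hM : IsPModular r M) {χ : IrrCharacter G}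
    (hχ : χ ∈ principalBlock M G) (hdeg : ¬ p ∣ charDegree (χ : G → ℂ)) :
    (χ : G → ℂ) 1 = 1 := by
  cases nonempty_fintype G
  obtain ⟨n, ρ, hρ, he⟩ := χ.2
  haveI : ρ.IsIrreducible := hρ
  have hdn : charDegree (χ : G → ℂ) = n := by
    have h1 := apply_one_eq_charDegree χ
    rw [← he, Representation.char_one, Module.finrank_fin_fun] at h1
    rw [← he]
    exact_mod_cast h1.symm
  have hb := burnside_zero_or_scalar ρ x (by
    rw [Module.finrank_fin_fun, hidx]
    exact ((hp.coprime_iff_not_dvd.2 (hdn ▸ hdeg)).symm).pow_right a)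
  rcases hb with h0 | hn
  · exfalso
    have hsb := hχ x
    have hz : (χ : G → ℂ) x = 0 := by rw [← he]; exact h0
    have h1 : MemLocalIdeal M (((p ^ a : ℕ)) : ℂ) := by
      simpa [centralChar, hz, hidx] using hsb
    rw [memLocalIdeal_natCast_iff hM] at h1
    exact hrp ((Nat.prime_dvd_prime_iff_eq hr hp).1 (hr.dvd_of_dvd_pow h1))
  obtain ⟨Z, hZn, hZ⟩ := IsChar.exists_center (IsIrr.isCharacter χ.2)
  have hxZ : x ∈ Z := (hZ x).2 (by
    rw [← he, hn, Representation.char_one, Complex.norm_natCast])
  have hall : ∀ g, ‖(χ : G → ℂ) g‖ = ‖(χ : G → ℂ) 1‖ := fun g => (hZ g).1 (by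
    have : g ∈ Subgroup.normalClosure {x} := hgen ▸ Subgroup.mem_top g
    exact Subgroup.normalClosure_le_normal (Set.singleton_subset_iff.2 hxZ) this)
  have h1 := classInner_irr_self χ.2
  rw [classInner_def, inv_mul_eq_iff_eq_mul₀ (Nat.cast_ne_zero.2 Nat.card_pos.ne'), mul_one] at h1
  have h2 : ∀ g, (χ : G → ℂ) g * conj ((χ : G → ℂ) g) = (n : ℂ) ^ 2 := fun g => by
    rw [Complex.mul_conj', hall, ← he, Representation.char_one, Complex.norm_natCast,
      Module.finrank_fin_fun, Complex.ofReal_natCast]
  simp only [h2, Finset.sum_const, Finset.card_univ, nsmul_eq_mul, ← Nat.card_eq_fintype_card] at h1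
  have h3 : ((Nat.card G * n ^ 2 : ℕ) : ℂ) = ((Nat.card G * 1 : ℕ) : ℂ) := by
    push_cast; rw [h1]; ring
  have h4 : n ^ 2 = 1 := Nat.eq_of_mul_eq_mul_left Nat.card_pos (Nat.cast_injective h3)
  rw [← he, Representation.char_one, Module.finrank_fin_fun, (Nat.pow_eq_one.1 h4).resolve_right two_ne_zero,
    Nat.cast_one]

theorem relIndex_dvd_index [Finite G] (C L : Subgroup G) [L.Normal] :
    C.relIndex L ∣ C.index := by
  have h1 := Subgroup.relIndex_mul_index (inf_le_right : C ⊓ L ≤ L)
  have h2 := Subgroup.relIndex_mul_index (inf_le_left : C ⊓ L ≤ C)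
  rw [Subgroup.inf_relIndex_right] at h1
  rw [Subgroup.inf_relIndex_left] at h2
  obtain ⟨t, ht⟩ := Subgroup.relIndex_dvd_index_of_normal L C
  have hne : L.relIndex C ≠ 0 := Subgroup.index_ne_zero_of_finite
  refine ⟨t, Nat.eq_of_mul_eq_mul_left (Nat.pos_of_ne_zero hne) ?_⟩
  rw [ht] at h1
  rw [h2, ← h1]
  ring

/-- The linear characters of the principal block, as a group. -/
def blockHoms (M : Ideal AlgInt) (G : Type u) [Group G] [Finite G] {r : ℕ} (hM : IsPModular r M) :
    Subgroup (G →* ℂˣ) where
  carrier := {ψ | SameBlock M (fun _ : G => (1 : ℂ)) (fun g => (ψ g : ℂ))}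
  one_mem' := fun g => by simpa [centralChar] using memLocalIdeal_zero hM
  mul_mem' := by
    intro a b ha hb g
    have h1 := ha g
    have h2 := hb g
    simp only [centralChar, map_one, Units.val_one, mul_one, div_one, MonoidHom.mul_apply,
      Units.val_mul] at h1 h2 ⊢
    have hint : MemLocalRing M (a g : ℂ) := memLocalRing_of_isIntegral hM
      (isIntegral_apply ⟨_, @CharInduce.isIrrCharacter_hom G _ (Fintype.ofFinite G) a⟩ g)
    have := memLocalIdeal_add hM h1 (memLocalIdeal_mul hM hint h2)
    convert this using 1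
    ring
  inv_mem' := by
    intro a ha g
    have h1 := ha g⁻¹
    have hidx : (Subgroup.centralizer ({g⁻¹} : Set G)).index =
        (Subgroup.centralizer ({g} : Set G)).index := by
      congr 1
      ext h
      simp [Subgroup.mem_centralizer_singleton_iff]
      exact (Commute.inv_right_iff (a := h) (b := g))
    simp only [centralChar, hidx, map_one, Units.val_one, mul_one, div_one, map_inv] at h1 ⊢
    simpa using h1

/-- The heart of Kazarin's theorem. -/
theorem not_dvd_card_commutator [Finite G] {x : G} (hgen : Subgroup.normalClosure {x} = ⊤)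
    {p a : ℕ} (hp : p.Prime)
    (hidx : (Subgroup.centralizer ({x} : Set G)).index = p ^ a) {r : ℕ} (hr : r.Prime)
    (hrp : r ≠ p) : ¬ r ∣ Nat.card (commutator G) := by
  classical
  intro hrd
  cases nonempty_fintype G
  haveI := Fact.mk hr
  haveI := Fact.mk hp
  obtain ⟨⟨u, hu⟩, huord⟩ := exists_prime_orderOf_dvd_card' r hrd
  rw [← Subgroup.orderOf_coe] at huord
  change orderOf u = r at huord
  obtain ⟨M, hM⟩ := exists_isPModular hr
  set B := principalBlock M G with hB
  have horth := blockKernel_eq_zero_of_regular_of_singular hM (isPBlock_principalBlock (G := G) M)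
    (g := 1) (h := u) (by rw [orderOf_one, Nat.dvd_one]; exact hr.ne_one) (huord ▸ dvd_rfl)
  rw [blockKernel, finsum_mem_eq_sum_ite] at horth
  have hlin : ∀ ψ : G →* ℂˣ, (ψ u : ℂ) = 1 := fun ψ => by
    have : u ∈ ψ.ker := Abelianization.commutator_subset_ker ψ hu
    rw [MonoidHom.mem_ker.1 this, Units.val_one]
  set L : Finset (IrrCharacter G) :=
    Finset.univ.filter fun χ : IrrCharacter G => χ ∈ B ∧ (χ : G → ℂ) 1 = 1 with hL
  have hsplit : ∀ χ : IrrCharacter G,
      (if χ ∈ B then (χ : G → ℂ) 1 * conj ((χ : G → ℂ) u) else 0) =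
        (if χ ∈ L then 1 else 0) + (p : ℂ) * (if χ ∈ B ∧ χ ∉ L then
          ((charDegree (χ : G → ℂ) / p : ℕ) : ℂ) * conj ((χ : G → ℂ) u) else 0) := by
    intro χ
    by_cases hχ : χ ∈ B
    · by_cases h1 : (χ : G → ℂ) 1 = 1
      · have hmem : χ ∈ L := by simp [hL, hχ, h1]
        obtain ⟨ψ, hψ⟩ := CharInduce.IsChar.exists_hom_of_degree_one (IsIrr.isCharacter χ.2) h1
        simp [hχ, hmem, h1, hψ u, hlin]
      · have hmem : χ ∉ L := by simp [hL, h1]
        have hd : p ∣ charDegree (χ : G → ℂ) :=
          by_contra fun h => h1 (exists_linear_of_mem hgen hp hidx hr hrp hM hχ h)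
        rw [if_pos hχ, if_neg hmem, if_pos ⟨hχ, hmem⟩, apply_one_eq_charDegree, zero_add,
          ← mul_assoc, ← Nat.cast_mul, Nat.mul_div_cancel' hd]
    · have hmem : χ ∉ L := by simp [hL, hχ]
      simp [hχ, hmem]
  replace horth : ∑ χ : IrrCharacter G, ((if χ ∈ L then (1 : ℂ) else 0) + (p : ℂ) *
      (if χ ∈ B ∧ χ ∉ L then
        ((charDegree (χ : G → ℂ) / p : ℕ) : ℂ) * conj ((χ : G → ℂ) u) else 0)) = 0 := by
    refine Eq.trans ?_ horth
    refine Finset.sum_congr rfl fun χ _ => (hsplit χ).symm.trans ?_
    by_cases hχ : χ ∈ B <;> simp [hχ, ← hB]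
  simp only [Finset.sum_add_distrib, ← Finset.mul_sum, Finset.sum_boole,
    Finset.filter_mem_eq_inter, Finset.univ_inter] at horth
  have hdvd : p ∣ L.card := by
    have hint : IsIntegral ℤ (((L.card : ℤ) : ℂ) / ((p : ℤ) : ℂ)) := by
      have e : ((L.card : ℤ) : ℂ) / ((p : ℤ) : ℂ) = -∑ χ : IrrCharacter G, (if χ ∈ B ∧ χ ∉ L then
          ((charDegree (χ : G → ℂ) / p : ℕ) : ℂ) * conj ((χ : G → ℂ) u) else 0) := by
        have hp0 : (p : ℂ) ≠ 0 := Nat.cast_ne_zero.2 hp.ne_zero
        push_cast
        rw [div_eq_iff hp0]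
        linear_combination horth
      rw [e]
      refine (IsIntegral.sum _ fun χ _ => ?_).neg
      split_ifs
      · exact ((map_natCast (algebraMap ℤ ℂ) (charDegree (χ : G → ℂ) / p)) ▸
          isIntegral_algebraMap).mul (isIntegral_conj_apply χ u)
      · exact isIntegral_zero
    exact_mod_cast dvd_of_isIntegral_div (by exact_mod_cast hp.ne_zero) hint
  set S := blockHoms M G hM with hS
  have hbij : Function.Bijective (fun ψ : S => (⟨⟨fun g => ((ψ : G →* ℂˣ) g : ℂ),
      CharInduce.isIrrCharacter_hom _⟩, by
        simp only [hL, Finset.mem_filter, Finset.mem_univ, true_and]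
        exact ⟨ψ.2, by simp⟩⟩ : L)) := by
    constructor
    · intro ψ φ h
      exact Subtype.ext (MonoidHom.ext fun g => Units.ext
        (congrFun (congrArg (fun c : L => ((c : IrrCharacter G) : G → ℂ)) h) g))
    · rintro ⟨χ, hχ⟩
      simp only [hL, Finset.mem_filter, Finset.mem_univ, true_and] at hχ
      obtain ⟨ψ, hψ⟩ := CharInduce.IsChar.exists_hom_of_degree_one (IsIrr.isCharacter χ.2) hχ.2
      have hfun : (χ : G → ℂ) = fun g => (ψ g : ℂ) := funext hψ
      exact ⟨⟨ψ, by show SameBlock M _ _; rw [← hfun]; exact hχ.1⟩,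
        Subtype.ext (Subtype.ext hfun.symm)⟩
  haveI : Finite S := Finite.of_injective _ hbij.1
  have hScard : p ∣ Nat.card S := by
    rwa [Nat.card_eq_of_bijective _ hbij, Nat.card_eq_fintype_card, Fintype.card_coe]
  obtain ⟨⟨ψ, hψS⟩, hψo⟩ := exists_prime_orderOf_dvd_card' p hScard
  rw [← Subgroup.orderOf_coe] at hψo
  change orderOf ψ = p at hψo
  have hψ1 : ψ x ≠ 1 := by
    intro h
    have : ψ.ker = ⊤ := top_le_iff.1 (hgen ▸
      Subgroup.normalClosure_le_normal (Set.singleton_subset_iff.2 h))
    have : ψ = 1 := MonoidHom.ext fun g => MonoidHom.mem_ker.1 (this ▸ Subgroup.mem_top g)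
    rw [this, orderOf_one] at hψo
    exact hp.ne_one hψo.symm
  set ζ : ℂ := (ψ x : ℂ) with hζ
  have hζp : ζ ^ p = 1 := by
    have := congrArg (fun f : G →* ℂˣ => (f x : ℂ)) (hψo ▸ pow_orderOf_eq_one ψ)
    simpa [hζ, MonoidHom.pow_apply] using this
  have hζ1 : ζ ≠ 1 := fun h => hψ1 (Units.ext h)
  have hmem : MemLocalIdeal M (ζ - 1) := by
    have h1 := hψS x
    simp only [centralChar, hidx, map_one, Units.val_one, mul_one, div_one] at h1
    have hinv : MemLocalRing M (((p ^ a : ℕ) : ℂ)⁻¹) := memLocalRing_natCast_inv hM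
      (fun h => hrp ((Nat.prime_dvd_prime_iff_eq hr hp).1 (hr.dvd_of_dvd_pow h)))
    have := memLocalIdeal_neg (memLocalIdeal_mul hM hinv h1)
    convert this using 1
    have hne : (((p ^ a : ℕ)) : ℂ) ≠ 0 := by exact_mod_cast (pow_ne_zero a hp.ne_zero)
    rw [← hζ]
    field_simp
    ring
  have hζint : MemLocalRing M ζ := memLocalRing_of_isIntegral hM
    (isIntegral_apply ⟨_, CharInduce.isIrrCharacter_hom ψ⟩ x)
  have hpow : ∀ i : ℕ, MemLocalIdeal M (ζ ^ i - 1) := by
    intro i
    induction i with
    | zero => simpa using memLocalIdeal_zero hM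
    | succ i ih =>
      have := memLocalIdeal_add hM hmem (memLocalIdeal_mul hM hζint ih)
      convert this using 1
      ring
  have hsum : ∑ i ∈ Finset.range p, ζ ^ i = 0 := by
    rw [geom_sum_eq hζ1, hζp, sub_self, zero_div]
  have hpM : MemLocalIdeal M (p : ℂ) := by
    have := memLocalIdeal_neg (memLocalIdeal_sum hM (Finset.range p) _ fun i _ => hpow i)
    convert this using 1
    rw [Finset.sum_sub_distrib, hsum]
    simp
  exact hrp ((Nat.prime_dvd_prime_iff_eq hr hp).1 ((memLocalIdeal_natCast_iff hM p).1 hpM))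

theorem isPGroup_commutator [Finite G] {x : G} (hgen : Subgroup.normalClosure {x} = ⊤) {p a : ℕ}
    (hp : p.Prime) (hidx : (Subgroup.centralizer ({x} : Set G)).index = p ^ a) :
    IsPGroup p (commutator G) := by
  refine IsPGroup.of_card (n := (Nat.card (commutator G)).factorization p) ?_
  refine Nat.eq_pow_of_factorization_eq_single Nat.card_pos.ne' ?_ |>.trans rfl
  ext q
  by_cases hq : q = p
  · subst hq; simp
  · rw [Finsupp.single_eq_of_ne hq]
    by_cases hqp : q.Prime
    · exact Nat.factorization_eq_zero_of_not_dvd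
        (not_dvd_card_commutator hgen hp hidx hqp hq)
    · exact Nat.factorization_eq_zero_of_not_prime _ hqp

/-- Kazarin: any two conjugates of an element with class of `p`-power size commute modulo
`O_p(G)`. -/
theorem commutatorElement_mem_pCore :
    ∀ (m : ℕ) (G : Type u) [Group G] [Finite G], Nat.card G ≤ m → ∀ (x : G) (p a : ℕ), p.Prime →
      (Subgroup.centralizer ({x} : Set G)).index = p ^ a →
      ∀ y ∈ Subgroup.normalClosure ({x} : Set G), ∀ z ∈ Subgroup.normalClosure ({x} : Set G),
        ⁅y, z⁆ ∈ pCore p G := by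
  intro m
  induction m with
  | zero => intro G _ _ hm; exact absurd hm (by simp [Nat.card_pos.ne'])
  | succ m ih =>
    intro G _ _ hm x p a hp hidx y hy z hz
    haveI := Fact.mk hp
    by_cases htop : Subgroup.normalClosure ({x} : Set G) = ⊤
    · exact Cores.le_pCore (isPGroup_commutator htop hp hidx)
        (Subgroup.commutator_mem_commutator (Subgroup.mem_top y) (Subgroup.mem_top z))
    set L := Subgroup.normalClosure ({x} : Set G) with hL
    haveI : L.Normal := Subgroup.normalClosure_normal
    have hLlt : Nat.card L ≤ m := by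
      have : Nat.card L < Nat.card G := lt_of_le_of_ne (Subgroup.card_le_card_group L)
        fun he => htop (Subgroup.eq_top_of_card_eq L he)
      omega
    set π := QuotientGroup.mk' (pCore p L) with hπ
    have hconj : ∀ g : G, g * x * g⁻¹ ∈ L := fun g =>
      Subgroup.normalClosure_normal.conj_mem x
        (Subgroup.subset_normalClosure (Set.mem_singleton x)) g
    let c : G → L := fun g => ⟨g * x * g⁻¹, hconj g⟩
    have hcidx : ∀ g, ∃ b, (Subgroup.centralizer ({c g} : Set L)).index = p ^ b := by
      intro g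
      have he : Subgroup.centralizer ({c g} : Set L) =
          (Subgroup.centralizer ({g * x * g⁻¹} : Set G)).subgroupOf L := by
        ext h
        simp [Subgroup.mem_subgroupOf, Subgroup.mem_centralizer_singleton_iff, c, Subtype.ext_iff]
      have hd : (Subgroup.centralizer ({c g} : Set L)).index ∣ p ^ a := by
        rw [he, ← Subgroup.relIndex, ← hidx]
        have hi : (Subgroup.centralizer ({g * x * g⁻¹} : Set G)).index =
            (Subgroup.centralizer ({x} : Set G)).index := by
          have hmap : Subgroup.centralizer ({g * x * g⁻¹} : Set G) =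
              (Subgroup.centralizer ({x} : Set G)).map (MulAut.conj g).toMonoidHom := by
            ext h
            rw [Subgroup.mem_map_equiv, Subgroup.mem_centralizer_singleton_iff,
              Subgroup.mem_centralizer_singleton_iff]
            simp only [MulAut.conj_symm_apply]
            constructor <;> intro hh
            · calc g⁻¹ * h * g * x = g⁻¹ * (h * (g * x * g⁻¹)) * g := by group
                _ = g⁻¹ * (g * x * g⁻¹ * h) * g := by rw [hh]
                _ = x * (g⁻¹ * h * g) := by group
            · calc h * (g * x * g⁻¹) = g * (g⁻¹ * h * g * x) * g⁻¹ := by group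
                _ = g * (x * (g⁻¹ * h * g)) * g⁻¹ := by rw [hh]
                _ = g * x * g⁻¹ * h := by group
          rw [hmap]
          exact Subgroup.index_map_equiv _ (MulAut.conj g)
        rw [← hi]
        exact relIndex_dvd_index _ L
      obtain ⟨b, -, hb⟩ := (Nat.dvd_prime_pow hp).1 hd
      exact ⟨b, hb⟩
    have hbar : pCore p (L ⧸ pCore p L) = ⊥ := Cores.pCore_quotient_pCore
    have hcomm : ∀ g h : G, Commute (π (c g)) (π (c h)) := by
      intro g h
      set A := (Subgroup.normalClosure ({c h} : Set L)).map π with hA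
      haveI : A.Normal :=
        Subgroup.Normal.map Subgroup.normalClosure_normal π (QuotientGroup.mk'_surjective _)
      have hAc : ∀ s ∈ A, ∀ t ∈ A, s * t = t * s := by
        rintro _ ⟨s, hs, rfl⟩ _ ⟨t, ht, rfl⟩
        obtain ⟨b, hb⟩ := hcidx h
        have := ih L hLlt (c h) p b hp hb s hs t ht
        rw [← QuotientGroup.ker_mk' (pCore p L), MonoidHom.mem_ker, map_commutatorElement,
          commutatorElement_eq_one_iff_mul_comm] at this
        exact this
      have hAp : ¬ p ∣ Nat.card A := by
        intro hd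
        obtain ⟨⟨s, hs⟩, hso⟩ := exists_prime_orderOf_dvd_card' p hd
        rw [← Subgroup.orderOf_coe] at hso
        change orderOf s = p at hso
        haveI : IsMulCommutative A := ⟨⟨fun u v => Subtype.ext (hAc u u.2 v v.2)⟩⟩
        obtain ⟨P⟩ : Nonempty (Sylow p A) := inferInstance
        have hPn : (P : Subgroup A).Normal := ⟨fun u hu v => by
          have e : v * u * v⁻¹ = u := by
            rw [Subtype.ext_iff]; simp [hAc v v.2 u u.2]
          rw [e]; exact hu⟩
        have : (P : Subgroup A).Characteristic := P.characteristic_of_normal hPn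
        have hPL : ((P : Subgroup A).map A.subtype).Normal := inferInstance
        have hle := Cores.le_pCore (P.2.map A.subtype)
        rw [hbar, le_bot_iff, Subgroup.map_eq_bot_iff_of_injective _ A.subtype_injective] at hle
        exact P.ne_bot_of_dvd_card hd hle
      obtain ⟨b, hb⟩ := hcidx g
      set C := Subgroup.centralizer ({π (c g)} : Set (L ⧸ pCore p L)) with hC
      have hCd : C.index ∣ p ^ b := by
        have hle : (Subgroup.centralizer ({c g} : Set L)).map π ≤ C := by
          rintro _ ⟨t, ht, rfl⟩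
          rw [SetLike.mem_coe, Subgroup.mem_centralizer_singleton_iff] at ht
          rw [hC, Subgroup.mem_centralizer_singleton_iff, ← map_mul, ht, map_mul]
        refine (Subgroup.index_dvd_of_le hle).trans ?_
        rw [← hb]
        exact Subgroup.index_map_dvd _ (QuotientGroup.mk'_surjective _)
      have h1 : C.relIndex A = 1 := by
        have ha : C.relIndex A ∣ Nat.card A := Subgroup.index_dvd_card _
        have hb' : C.relIndex A ∣ p ^ b :=
          (relIndex_dvd_index C A).trans hCd
        obtain ⟨i, -, hi⟩ := (Nat.dvd_prime_pow hp).1 hb'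
        rcases i with _ | i
        · simpa using hi
        · exact absurd ((hi ▸ dvd_pow_self p i.succ_ne_zero).trans ha) hAp
      have hmem : π (c h) ∈ C := Subgroup.relIndex_eq_one.1 h1
        ⟨c h, Subgroup.subset_normalClosure (Set.mem_singleton _), rfl⟩
      rw [hC, Subgroup.mem_centralizer_singleton_iff] at hmem
      exact hmem.symm
    have hgen : L ≤ (Subgroup.closure (Set.range c)).map L.subtype := by
      rw [MonoidHom.map_closure]
      show Subgroup.closure (Group.conjugatesOfSet {x}) ≤ _
      refine Subgroup.closure_mono fun t ht => ?_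
      obtain ⟨u, hu, hcj⟩ := Group.mem_conjugatesOfSet_iff.1 ht
      obtain rfl : u = x := hu
      obtain ⟨g, rfl⟩ := isConj_iff.1 hcj
      exact ⟨c g, ⟨g, rfl⟩, rfl⟩
    obtain ⟨y', hy', rfl⟩ := hgen hy
    obtain ⟨z', hz', rfl⟩ := hgen hz
    have hyz : Commute (π y') (π z') := by
      have hy'' : π y' ∈ (Subgroup.closure (Set.range c)).map π := ⟨y', hy', rfl⟩
      have hz'' : π z' ∈ (Subgroup.closure (Set.range c)).map π := ⟨z', hz', rfl⟩
      rw [MonoidHom.map_closure] at hy'' hz''
      have hab : ∀ s ∈ π '' Set.range c, ∀ t ∈ π '' Set.range c, s * t = t * s := by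
        rintro _ ⟨_, ⟨g, rfl⟩, rfl⟩ _ ⟨_, ⟨h, rfl⟩, rfl⟩
        exact hcomm g h
      exact congrArg Subtype.val ((Subgroup.isMulCommutative_closure hab).is_comm.comm
        ⟨_, hy''⟩ ⟨_, hz''⟩)
    have hker : ⁅y', z'⁆ ∈ pCore p L := by
      rw [← QuotientGroup.ker_mk' (pCore p L), MonoidHom.mem_ker, map_commutatorElement,
        commutatorElement_eq_one_iff_mul_comm]
      exact hyz
    have := Cores.map_pCore_le_of_normal (p := p) L ⟨_, hker, rfl⟩
    rwa [← map_commutatorElement]

/-- The normal closure of an element with class of `p`-power size is metabelian over `O_p`. -/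
theorem commutator_normalClosure_le [Finite G] {x : G} {p a : ℕ} (hp : p.Prime)
    (hidx : (Subgroup.centralizer ({x} : Set G)).index = p ^ a) :
    ⁅Subgroup.normalClosure ({x} : Set G), Subgroup.normalClosure ({x} : Set G)⁆ ≤ pCore p G :=
  Subgroup.commutator_le.2 fun y hy z hz =>
    commutatorElement_mem_pCore (Nat.card G) G le_rfl x p a hp hidx y hy z hz

/-- Kazarin's solvability theorem. -/
theorem isSolvable_normalClosure [Finite G] {x : G} {p a : ℕ} (hp : p.Prime)
    (hidx : (Subgroup.centralizer ({x} : Set G)).index = p ^ a) :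
    Group.IsSolvable (Subgroup.normalClosure ({x} : Set G)) := by
  haveI := Fact.mk hp
  set L := Subgroup.normalClosure ({x} : Set G) with hL
  have hsub : (commutator L).map L.subtype ≤ pCore p G := by
    rw [commutator_def, Subgroup.map_commutator, ← MonoidHom.range_eq_map, Subgroup.range_subtype]
    exact commutator_normalClosure_le hp hidx
  have hP : IsPGroup p (commutator L) := by
    refine IsPGroup.of_injective ((Cores.pCore_isPGroup (p := p) (G := G)).to_le hsub)
      ((commutator L).equivMapOfInjective L.subtype L.subtype_injective).toMonoidHom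
      (MulEquiv.injective _)
  haveI : Group.IsNilpotent (commutator L) := hP.isNilpotent
  haveI : Group.IsSolvable (commutator L) := inferInstance
  haveI : Group.IsSolvable (L ⧸ commutator L) :=
    Group.isSolvable_of_comm (mul_comm (G := Abelianization L))
  exact Group.isSolvable_of_ker_le_range (commutator L).subtype (QuotientGroup.mk' (commutator L))
    (by rw [QuotientGroup.ker_mk', Subgroup.range_subtype])

end Cfsg.Agent.H79.Kazarin
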