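import Cfsg.Agent.H79.Kazarin
import Cfsg.Agent.Coprime.Centralize
import Cfsg.Agent.Coprime.SchurZassenhaus
import Cfsg.Agent.PGroups.Basic

/-!
# Elements of `q`-power order with classes of prime power size: one prime serves for all
-/

set_option autoImplicit false
set_option linter.style.haveILetI false

namespace Cfsg.Agent.H79.BaerClasses

open Subgroup
open Cfsg (pCore pPrimeCore)

universe u

variable {G : Type u} [Group G]

/-- The class size. -/
noncomputable abbrev cls (x : G) : ℕ := (centralizer ({x} : Set G)).index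

theorem centralizer_conj (g x : G) :
    centralizer ({g * x * g⁻¹} : Set G) =
      (centralizer ({x} : Set G)).map (MulAut.conj g).toMonoidHom := by
  ext h
  rw [Subgroup.mem_map_equiv, mem_centralizer_singleton_iff, mem_centralizer_singleton_iff]
  simp only [MulAut.conj_symm_apply]
  constructor <;> intro hh
  · calc g⁻¹ * h * g * x = g⁻¹ * (h * (g * x * g⁻¹)) * g := by group
      _ = g⁻¹ * (g * x * g⁻¹ * h) * g := by rw [hh]
      _ = x * (g⁻¹ * h * g) := by group
  · calc h * (g * x * g⁻¹) = g * (g⁻¹ * h * g * x) * g⁻¹ := by group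
      _ = g * (x * (g⁻¹ * h * g)) * g⁻¹ := by rw [hh]
      _ = g * x * g⁻¹ * h := by group

theorem cls_conj (g x : G) : cls (g * x * g⁻¹) = cls x := by
  rw [cls, centralizer_conj]
  exact Subgroup.index_map_equiv _ (MulAut.conj g)

theorem orderOf_conj' (g x : G) : orderOf (g * x * g⁻¹) = orderOf x :=
  (MulAut.conj g).orderOf_eq x

theorem cls_eq_one_iff {x : G} : cls x = 1 ↔ x ∈ center G := by
  rw [cls, index_eq_one, mem_center_iff, eq_top_iff]
  exact ⟨fun h g => (mem_centralizer_singleton_iff.mp (h (mem_top g))),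
    fun h g _ => mem_centralizer_singleton_iff.mpr (h g)⟩

variable [Finite G] {q : ℕ} [hq : Fact q.Prime]

/-- A class of `q`-power size is a single orbit of a Sylow `q`-subgroup. -/
theorem exists_sylow_conj {x : G} {a : ℕ} (hx : cls x = q ^ a) (Q : Sylow q G) (g : G) :
    ∃ π ∈ (Q : Subgroup G), g * x * g⁻¹ = π * x * π⁻¹ := by
  classical
  set C := centralizer ({x} : Set G) with hC
  have h1 := relIndex_mul_index (inf_le_right : C ⊓ (Q : Subgroup G) ≤ Q)
  have h2 := relIndex_mul_index (inf_le_left : C ⊓ (Q : Subgroup G) ≤ C)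
  rw [inf_relIndex_right] at h1
  rw [inf_relIndex_left] at h2
  have hdvd : q ^ a ∣ C.relIndex Q * (Q : Subgroup G).index :=
    ⟨(Q : Subgroup G).relIndex C, by rw [h1, ← h2, ← hx, mul_comm]⟩
  have hcop : Nat.Coprime (q ^ a) (Q : Subgroup G).index :=
    ((hq.out.coprime_iff_not_dvd).mpr Q.not_dvd_index).pow_left a
  have hle : q ^ a ≤ C.relIndex Q := Nat.le_of_dvd
    (Nat.pos_of_ne_zero index_ne_zero_of_finite) (hcop.dvd_of_dvd_mul_right hdvd)
  let f : (Q : Subgroup G) ⧸ C.subgroupOf Q → G ⧸ C :=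
    Quotient.map' (fun π => (π : G)) fun a b h => by
      rw [QuotientGroup.leftRel_apply] at h ⊢
      exact h
  have hf : Function.Injective f := by
    intro a b h
    obtain ⟨a, rfl⟩ := QuotientGroup.mk_surjective a
    obtain ⟨b, rfl⟩ := QuotientGroup.mk_surjective b
    have h' : ((a : G) : G ⧸ C) = ((b : G) : G ⧸ C) := h
    exact QuotientGroup.eq.mpr (QuotientGroup.eq.mp h' :)
  haveI : Fintype (G ⧸ C) := Fintype.ofFinite _
  haveI : Fintype ((Q : Subgroup G) ⧸ C.subgroupOf Q) := Fintype.ofFinite _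
  have hb : Function.Bijective f := by
    refine (Fintype.bijective_iff_injective_and_card f).mpr ⟨hf, le_antisymm
      (Fintype.card_le_of_injective f hf) ?_⟩
    rw [← Nat.card_eq_fintype_card, ← Nat.card_eq_fintype_card]
    calc Nat.card (G ⧸ C) = q ^ a := hx
      _ ≤ _ := hle
  obtain ⟨t, ht⟩ := hb.2 (g : G ⧸ C)
  obtain ⟨π, rfl⟩ := QuotientGroup.mk_surjective t
  have h3 : ((π : G))⁻¹ * g ∈ C := QuotientGroup.eq.mp ht
  rw [hC, mem_centralizer_singleton_iff] at h3
  refine ⟨π, π.2, ?_⟩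
  calc g * x * g⁻¹ = (π : G) * ((π : G)⁻¹ * g * x) * g⁻¹ := by group
    _ = (π : G) * (x * ((π : G)⁻¹ * g)) * g⁻¹ := by rw [h3]
    _ = (π : G) * x * (π : G)⁻¹ := by group

omit hq in
theorem exists_sylow_mem [Fact q.Prime] {x : G} {k : ℕ} (hx : orderOf x = q ^ k) :
    ∃ Q : Sylow q G, x ∈ (Q : Subgroup G) := by
  obtain ⟨Q, hQ⟩ := (IsPGroup.of_card (p := q) (n := k)
    (by rw [Nat.card_zpowers, hx]) : IsPGroup q (zpowers x)).exists_le_sylow
  exact ⟨Q, hQ (mem_zpowers x)⟩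

theorem exists_conj_mem_sylow {x : G} {k : ℕ} (hx : orderOf x = q ^ k) (Q : Sylow q G) :
    ∃ g : G, g * x * g⁻¹ ∈ (Q : Subgroup G) := by
  obtain ⟨Q', hQ'⟩ := exists_sylow_mem hx
  obtain ⟨g, hg⟩ := MulAction.exists_smul_eq G Q' Q
  refine ⟨g, ?_⟩
  rw [← hg, Sylow.coe_subgroup_smul]
  exact ⟨x, hQ', rfl⟩

theorem mem_pCore_of_cls {x : G} {k a : ℕ} (hk : orderOf x = q ^ k) (hx : cls x = q ^ a) :
    x ∈ pCore q G := by
  rw [Cores.pCore_eq_iInf_sylow, mem_iInf]
  intro Q
  obtain ⟨g, hg⟩ := exists_conj_mem_sylow hk Q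
  obtain ⟨π, hπ, he⟩ := exists_sylow_conj hx Q g
  rw [he] at hg
  have := mul_mem (mul_mem (inv_mem hπ) hg) hπ
  rwa [show π⁻¹ * (π * x * π⁻¹) * π = x by group] at this

omit hq in
/-- A class of size prime to `q` centralises a Sylow `q`-subgroup. -/
theorem exists_sylow_le_centralizer [Fact q.Prime] {x : G} (hx : ¬ q ∣ cls x) :
    ∃ Q : Sylow q G, (Q : Subgroup G) ≤ centralizer ({x} : Set G) := by
  obtain ⟨Q₀⟩ : Nonempty (Sylow q (centralizer ({x} : Set G))) := inferInstance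
  have hp : IsPGroup q ((Q₀ : Subgroup (centralizer ({x} : Set G))).map (centralizer _).subtype) :=
    Q₀.2.map _
  refine ⟨hp.toSylow ?_, map_subtype_le _⟩
  rw [index_map_subtype]
  exact Nat.Prime.not_dvd_mul Fact.out Q₀.not_dvd_index hx

theorem mem_sylow_of_centralizer {x : G} {k : ℕ} (hk : orderOf x = q ^ k) {Q : Sylow q G}
    (hQ : (Q : Subgroup G) ≤ centralizer ({x} : Set G)) : x ∈ (Q : Subgroup G) := by
  have hp : IsPGroup q (zpowers x) := IsPGroup.of_card (n := k) (by rw [Nat.card_zpowers, hk])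
  have hn : zpowers x ≤ normalizer ((Q : Subgroup G) : Set G) := by
    rw [zpowers_le, mem_normalizer_iff]
    intro h
    have hc : ∀ t ∈ (Q : Subgroup G), x * t * x⁻¹ = t := fun t ht => by
      rw [← mem_centralizer_singleton_iff.mp (hQ ht), mul_inv_cancel_right]
    constructor <;> intro hh
    · rw [hc h hh]; exact hh
    · have h2 : x * h * x⁻¹ = h := by
        have h3 := mem_centralizer_singleton_iff.mp (hQ hh)
        calc x * h * x⁻¹ = x⁻¹ * (x * (x * h * x⁻¹)) := by group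
          _ = x⁻¹ * (x * h * x⁻¹ * x) := by rw [h3]
          _ = h := by group
      rwa [h2] at hh
  have := Q.3 (hp.to_sup_of_normal_right' Q.2 hn) le_sup_right
  rw [← this]
  exact mem_sup_left (mem_zpowers x)

/-- An element of order prime to `q` centralises a normal `q`-subgroup if it fixes all its
elements modulo the Frattini subgroup. -/
theorem le_centralizer_of_fix_frattini {Q : Subgroup G} [Q.Normal] (hQ : IsPGroup q Q)
    {A : Subgroup G} (hA : (Nat.card A).Coprime q)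
    (h : ∀ a ∈ A, ∀ x ∈ Q, a * x * a⁻¹ * x⁻¹ ∈ (frattini Q).map Q.subtype) :
    A ≤ centralizer (Q : Set G) := by
  refine Coprime.le_centralizer_of_frattini (fun a _ => by rw [normalizer_eq_top]; trivial) ?_ h
  obtain ⟨n, hn⟩ := IsPGroup.iff_card.mp (hQ.to_subgroup (frattini Q))
  rw [hn]
  exact hA.pow_right n

theorem conj_mem_frattini {Q : Subgroup G} (hQ : IsPGroup q Q) {π x : G} (hπ : π ∈ Q) (hx : x ∈ Q) :
    π * x * π⁻¹ * x⁻¹ ∈ (frattini Q).map Q.subtype :=
  ⟨(⟨π, hπ⟩ : Q) * ⟨x, hx⟩ * (⟨π, hπ⟩ : Q)⁻¹ * (⟨x, hx⟩ : Q)⁻¹, PGroups.commutator_le_frattini hQ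
    (commutator_mem_commutator (mem_top _) (mem_top _)), rfl⟩

omit [Finite G] in
/-- Intersections of subgroups of coprime index. -/
theorem index_inf_of_coprime [Finite G] {A B : Subgroup G} (h : A.index.Coprime B.index) :
    (A ⊓ B).index = A.index * B.index :=
  le_antisymm index_inf_le (Nat.le_of_dvd (Nat.pos_of_ne_zero index_ne_zero_of_finite)
    (h.mul_dvd_of_dvd_of_dvd (index_dvd_of_le inf_le_left) (index_dvd_of_le inf_le_right)))

/-- If a subgroup contains all subgroups of order prime to `q` and a Sylow `q`-subgroup it is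
everything. -/
theorem eq_top_of_coprime_le {Q : Sylow q G} {S : Subgroup G} (hQ : (Q : Subgroup G) ≤ S)
    (h : ∀ A : Subgroup G, (Nat.card A).Coprime q → A ≤ S) : S = ⊤ := by
  rw [← index_eq_one]
  by_contra hS
  obtain ⟨r, hr, hrd⟩ := Nat.exists_prime_and_dvd hS
  haveI := Fact.mk hr
  rcases eq_or_ne r q with rfl | hrne
  · exact Q.not_dvd_index (hrd.trans (index_dvd_of_le hQ))
  · obtain ⟨R⟩ : Nonempty (Sylow r G) := inferInstance
    have hR : (R : Subgroup G) ≤ S := h _ (by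
      obtain ⟨n, hn⟩ := IsPGroup.iff_card.mp R.2
      rw [hn]
      exact ((Nat.coprime_primes hr hq.out).mpr hrne).pow_left n)
    exact R.not_dvd_index (hrd.trans (index_dvd_of_le hR))

/-- If `x` and `y` commute, have classes of coprime sizes `r ^ a` and `s ^ b`, and `x * y` has
class of `r`-power size, then `y` is central. -/
theorem cls_eq_one_of_mul {x y : G} {r s a b c k : ℕ} (hr : r.Prime) (hs : s.Prime) (hrs : r ≠ s)
    (hrq : r ≠ q) (hy : orderOf y = q ^ k) (hxy : x * y = y * x) (hxa : cls x = r ^ a)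
    (hyb : cls y = s ^ b) (hw : cls (x * y) = r ^ c) : cls y = 1 := by
  classical
  haveI := Fact.mk hr
  set Cx := centralizer ({x} : Set G) with hCx
  set Cy := centralizer ({y} : Set G) with hCy
  have hcop : Nat.Coprime Cx.index Cy.index := by
    rw [show Cx.index = r ^ a from hxa, show Cy.index = s ^ b from hyb]
    exact Nat.Coprime.pow a b ((Nat.coprime_primes hr hs).mpr hrs)
  -- the class of `x` is the orbit of the centraliser of `y`
  have hprod : ∀ g : G, ∃ u ∈ Cy, ∃ v ∈ Cx, g = u * v := by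
    intro g
    let f : Cy ⧸ Cx.subgroupOf Cy → G ⧸ Cx := Quotient.map' (fun π => (π : G)) fun a b h => by
      rw [QuotientGroup.leftRel_apply] at h ⊢
      exact h
    have hd : Cx.index ≤ Cx.relIndex Cy := by
      refine Nat.le_of_dvd (Nat.pos_of_ne_zero index_ne_zero_of_finite) ?_
      have h1 := relIndex_mul_index (inf_le_right : Cx ⊓ Cy ≤ Cy)
      have h2 := relIndex_mul_index (inf_le_left : Cx ⊓ Cy ≤ Cx)
      rw [inf_relIndex_right] at h1
      rw [inf_relIndex_left] at h2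
      exact hcop.dvd_of_dvd_mul_right ⟨Cy.relIndex Cx, by rw [h1, ← h2, mul_comm]⟩
    have hf : Function.Injective f := by
      intro a b h
      obtain ⟨a, rfl⟩ := QuotientGroup.mk_surjective a
      obtain ⟨b, rfl⟩ := QuotientGroup.mk_surjective b
      have h' : ((a : G) : G ⧸ Cx) = ((b : G) : G ⧸ Cx) := h
      exact QuotientGroup.eq.mpr (QuotientGroup.eq.mp h' :)
    haveI : Fintype (G ⧸ Cx) := Fintype.ofFinite _
    haveI : Fintype (Cy ⧸ Cx.subgroupOf Cy) := Fintype.ofFinite _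
    have hb : Function.Bijective f := by
      refine (Fintype.bijective_iff_injective_and_card f).mpr ⟨hf, le_antisymm
        (Fintype.card_le_of_injective f hf) ?_⟩
      rw [← Nat.card_eq_fintype_card, ← Nat.card_eq_fintype_card]
      exact hd
    obtain ⟨t, ht⟩ := hb.2 (g : G ⧸ Cx)
    obtain ⟨π, rfl⟩ := QuotientGroup.mk_surjective t
    exact ⟨π, π.2, _, QuotientGroup.eq.mp ht, (mul_inv_cancel_left _ _).symm⟩
  have hfix : ∀ u ∈ Cy, u * y * u⁻¹ = y := fun u hu => by
    rw [mem_centralizer_singleton_iff.mp hu, mul_inv_cancel_right]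
  have hfix' : ∀ v ∈ Cx, v * x * v⁻¹ = x := fun v hv => by
    rw [mem_centralizer_singleton_iff.mp hv, mul_inv_cancel_right]
  -- the class of the product
  let X := MulAction.orbit (ConjAct G) x
  let W := MulAction.orbit (ConjAct G) (x * y)
  have horbit : ∀ z : G, (MulAction.orbit (ConjAct G) z).ncard = cls z := by
    intro z
    rw [← MulAction.index_stabilizer]
    exact congrArg Subgroup.index (ConjAct.stabilizer_eq_centralizer z)
  have hsub : (fun z => z * y) '' X ⊆ W := by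
    rintro _ ⟨_, ⟨g, rfl⟩, rfl⟩
    obtain ⟨u, hu, v, hv, hg⟩ := hprod (ConjAct.ofConjAct g)
    refine ⟨ConjAct.toConjAct u, ?_⟩
    show ConjAct.toConjAct u • (x * y) = g • x * y
    rw [ConjAct.smul_def, ConjAct.smul_def, ConjAct.ofConjAct_toConjAct, hg]
    calc u * (x * y) * u⁻¹ = u * x * u⁻¹ * (u * y * u⁻¹) := by group
      _ = u * (v * x * v⁻¹) * u⁻¹ * y := by rw [hfix u hu, hfix' v hv]
      _ = u * v * x * (u * v)⁻¹ * y := by group
  have hXW : (fun z => z * y) '' X = W := by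
    refine Set.eq_of_subset_of_ncard_le hsub ?_
    rw [Set.ncard_image_of_injective _ (mul_left_injective y), horbit, horbit, hw, hxa]
    have hle : Cx ⊓ Cy ≤ centralizer ({x * y} : Set G) := fun g hg => by
      rw [mem_centralizer_singleton_iff, ← mul_assoc, mem_centralizer_singleton_iff.mp hg.1,
        mul_assoc, mem_centralizer_singleton_iff.mp hg.2, mul_assoc]
    have h1 := (index_dvd_of_le hle).trans (index_inf_of_coprime hcop).dvd
    rw [show (centralizer ({x * y} : Set G)).index = r ^ c from hw,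
      show Cx.index = r ^ a from hxa, show Cy.index = s ^ b from hyb] at h1
    exact Nat.le_of_dvd (pow_pos hr.pos a) ((Nat.Coprime.pow c b
      ((Nat.coprime_primes hr hs).mpr hrs)).dvd_of_dvd_mul_right h1)
  -- right translations preserving the class of `x`
  let S : Subgroup G :=
    { carrier := {d | ∀ z, z ∈ X ↔ z * d ∈ X}
      one_mem' := fun z => by simp
      mul_mem' := fun {d e} hd he z => by rw [hd z, he (z * d), mul_assoc]
      inv_mem' := fun {d} hd z => by rw [hd (z * d⁻¹), inv_mul_cancel_right] }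
  set D := closure (Set.range fun g : G => g * y * g⁻¹ * y⁻¹) with hD
  have hDS : D ≤ S := by
    refine (closure_le _).mpr ?_
    rintro _ ⟨g, rfl⟩
    have hone : ∀ z ∈ X, z * (g * y * g⁻¹ * y⁻¹) ∈ X := by
      rintro _ ⟨t, rfl⟩
      obtain ⟨u, hu, v, hv, ht⟩ := hprod (ConjAct.ofConjAct t)
      have hu' : u * y * u⁻¹ = y := hfix u hu
      -- write the new conjugate of `y` as the image of one under the centraliser of `x`
      obtain ⟨u', hu'', v', hv', hg⟩ := hprod (u⁻¹ * g)⁻¹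
      have hg' : u⁻¹ * g = v'⁻¹ * u'⁻¹ := by rw [← mul_inv_rev, ← hg, inv_inv]
      have hW : t • x * (g * y * g⁻¹) ∈ W := by
        refine ⟨ConjAct.toConjAct (u * v'⁻¹), ?_⟩
        show ConjAct.toConjAct (u * v'⁻¹) • (x * y) = t • x * (g * y * g⁻¹)
        rw [ConjAct.smul_def, ConjAct.smul_def, ConjAct.ofConjAct_toConjAct, ht,
          show g = u * (u⁻¹ * g) by group, hg']
        calc u * v'⁻¹ * (x * y) * (u * v'⁻¹)⁻¹
            = u * (v'⁻¹ * x * v'⁻¹⁻¹) * u⁻¹ * (u * v'⁻¹ * y * (v'⁻¹)⁻¹ * u⁻¹) := by group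
          _ = u * (v * x * v⁻¹) * u⁻¹ * (u * v'⁻¹ * (u'⁻¹ * y * u'⁻¹⁻¹) * (v'⁻¹)⁻¹ * u⁻¹) := by
              rw [hfix' _ (inv_mem hv'), hfix' v hv, hfix _ (inv_mem hu'')]
          _ = _ := by group
      rw [← hXW] at hW
      obtain ⟨z', hz', he⟩ := hW
      have he' : z' * y = t • x * (g * y * g⁻¹) := he
      show t • x * (g * y * g⁻¹ * y⁻¹) ∈ X
      rw [← mul_assoc, ← he', mul_inv_cancel_right]
      exact hz'
    intro z
    refine ⟨hone z, fun hz => ?_⟩
    have hbij : (fun z => z * (g * y * g⁻¹ * y⁻¹)) '' X = X :=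
      Set.eq_of_subset_of_ncard_le (Set.image_subset_iff.mpr hone)
        (Set.ncard_image_of_injective _ (mul_left_injective _)).ge
    rw [← hbij] at hz
    obtain ⟨z', hz', he⟩ := hz
    rw [← mul_right_cancel he]
    exact hz'
  have hDr : IsPGroup r D := by
    refine IsPGroup.of_card (n := (Nat.card D).factorization r) ?_
    refine Nat.eq_pow_of_factorization_eq_single Nat.card_pos.ne' ?_ |>.trans rfl
    ext ℓ
    by_cases hℓ : ℓ = r
    · subst hℓ; simp
    rw [Finsupp.single_eq_of_ne hℓ]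
    by_cases hℓp : ℓ.Prime
    swap
    · exact Nat.factorization_eq_zero_of_not_prime _ hℓp
    refine Nat.factorization_eq_zero_of_not_dvd fun hd => ?_
    haveI := Fact.mk hℓp
    obtain ⟨⟨d, hdD⟩, hdo⟩ := exists_prime_orderOf_dvd_card' ℓ hd
    rw [Subgroup.orderOf_mk] at hdo
    letI : MulAction (zpowers d) X :=
      { smul := fun e z => ⟨(z : G) * (e : G)⁻¹,
          ((hDS (D.inv_mem ((zpowers_le.mpr hdD) e.2))) z).mp z.2⟩
        one_smul := fun z => Subtype.ext (by show (z : G) * (1 : G)⁻¹ = z; simp)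
        mul_smul := fun e f z => Subtype.ext (by
          show (z : G) * ((e : G) * f)⁻¹ = z * (f : G)⁻¹ * (e : G)⁻¹
          group) }
    have hP : IsPGroup ℓ (zpowers d) := IsPGroup.of_card (n := 1) (by
      rw [Nat.card_zpowers, hdo, pow_one])
    have hnone : ∀ z : X, z ∉ MulAction.fixedPoints (zpowers d) X := by
      intro z hz
      have h1 : (z : G) * d⁻¹ = z := congrArg Subtype.val (hz ⟨d, mem_zpowers d⟩)
      rw [mul_eq_left, inv_eq_one] at h1
      rw [h1, orderOf_one] at hdo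
      exact hℓp.ne_one hdo.symm
    have h2 := hP.card_modEq_card_fixedPoints X
    have hfp : Nat.card (MulAction.fixedPoints (zpowers d) X) = 0 :=
      @Nat.card_of_isEmpty _ ⟨fun z => hnone z z.2⟩
    rw [hfp, Nat.card_coe_set_eq, horbit, hxa, Nat.modEq_zero_iff_dvd] at h2
    exact hℓ ((Nat.prime_dvd_prime_iff_eq hℓp hr).mp (hℓp.dvd_of_dvd_pow h2))
  haveI hDn : D.Normal := by
    refine ⟨fun d hd h => ?_⟩
    induction hd using closure_induction with
    | mem z hz =>
      obtain ⟨g, rfl⟩ := hz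
      have : h * (g * y * g⁻¹ * y⁻¹) * h⁻¹ =
          (h * g) * y * (h * g)⁻¹ * y⁻¹ * (h * y * h⁻¹ * y⁻¹)⁻¹ := by group
      rw [this]
      exact mul_mem (subset_closure ⟨_, rfl⟩) (inv_mem (subset_closure ⟨_, rfl⟩))
    | one => simp
    | mul a b _ _ iha ihb =>
      rw [show h * (a * b) * h⁻¹ = (h * a * h⁻¹) * (h * b * h⁻¹) by group]
      exact mul_mem iha ihb
    | inv a _ ih =>
      rw [show h * a⁻¹ * h⁻¹ = (h * a * h⁻¹)⁻¹ by group]
      exact inv_mem ih
  obtain ⟨m, hm⟩ := IsPGroup.iff_card.mp hDr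
  -- all conjugates of `y` are conjugate under `D`
  have hle : ∀ g : G, g ∈ D ⊔ Cy := by
    intro g
    set y' := g * y * g⁻¹ with hy'
    have hord : orderOf y' = q ^ k := by rw [hy', orderOf_conj', hy]
    have hmemsup : y' ∈ D ⊔ zpowers y := by
      have : y' = (g * y * g⁻¹ * y⁻¹) * y := by rw [hy', inv_mul_cancel_right]
      rw [this]
      exact mul_mem (mem_sup_left (subset_closure ⟨g, rfl⟩)) (mem_sup_right (mem_zpowers y))
    obtain ⟨d, hd, he⟩ := Coprime.exists_conj_of_le_sup (N := D) (H₁ := zpowers y) (H₂ := zpowers y')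
      (fun _ _ => by rw [normalizer_eq_top]; trivial) (zpowers_le.mpr hmemsup)
      (by rw [Nat.card_zpowers, Nat.card_zpowers, hord, hy])
      (by rw [Nat.card_zpowers, hy, hm]; exact Nat.Coprime.pow k m
            ((Nat.coprime_primes hq.out hr).mpr hrq.symm))
      (Or.inr (haveI : Group.IsNilpotent D := hDr.isNilpotent; inferInstance))
    have hdy : d * y * d⁻¹ ∈ zpowers y' := he ▸ ⟨y, mem_zpowers y, rfl⟩
    have hdiff : y'⁻¹ * (d * y * d⁻¹) ∈ D := by
      have h1 : g * y * g⁻¹ * y⁻¹ ∈ D := subset_closure ⟨g, rfl⟩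
      have h2 : d * (y * d⁻¹ * y⁻¹) ∈ D := mul_mem hd (hDn.conj_mem _ (inv_mem hd) y)
      have h3 := hDn.conj_mem _ (mul_mem (inv_mem h1) h2) y⁻¹
      rw [show y'⁻¹ * (d * y * d⁻¹) =
        y⁻¹ * ((g * y * g⁻¹ * y⁻¹)⁻¹ * (d * (y * d⁻¹ * y⁻¹))) * y⁻¹⁻¹ by rw [hy']; group]
      exact h3
    have heq : y'⁻¹ * (d * y * d⁻¹) = 1 := by
      have h1 : orderOf (y'⁻¹ * (d * y * d⁻¹)) ∣ q ^ k := by
        rw [← hord, ← Nat.card_zpowers y']
        have := orderOf_dvd_natCard
          (⟨_, mul_mem (inv_mem (mem_zpowers y')) hdy⟩ : zpowers y')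
        rwa [Subgroup.orderOf_mk] at this
      have h2 : orderOf (y'⁻¹ * (d * y * d⁻¹)) ∣ r ^ m := by
        rw [← hm, ← Subgroup.orderOf_mk _ hdiff]; exact orderOf_dvd_natCard _
      exact orderOf_eq_one_iff.mp (Nat.eq_one_of_dvd_coprimes (Nat.Coprime.pow k m
        ((Nat.coprime_primes hq.out hr).mpr hrq.symm)) h1 h2)
    rw [inv_mul_eq_one, hy'] at heq
    have : d⁻¹ * g ∈ Cy := by
      rw [mem_centralizer_singleton_iff]
      calc d⁻¹ * g * y = d⁻¹ * (g * y * g⁻¹) * g := by group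
        _ = d⁻¹ * (d * y * d⁻¹) * g := by rw [heq]
        _ = y * (d⁻¹ * g) := by group
    rw [← mul_inv_cancel_left d g]
    exact mul_mem (mem_sup_left hd) (mem_sup_right this)
  have hidx : Cy.index ∣ Nat.card D := by
    have h1 : D ⊔ Cy = ⊤ := eq_top_iff.mpr fun g _ => hle g
    have h2 : Cy.relIndex D = Cy.index := by
      have h3 : D.relIndex Cy = D.index := by
        rw [← relIndex_top_right, ← h1, sup_comm, relIndex_sup_right]
      have h4 := relIndex_mul_index (inf_le_right : Cy ⊓ D ≤ D)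
      have h5 := relIndex_mul_index (inf_le_left : Cy ⊓ D ≤ Cy)
      rw [inf_relIndex_right] at h4
      rw [inf_relIndex_left, h3] at h5
      exact Nat.eq_of_mul_eq_mul_right (Nat.pos_of_ne_zero index_ne_zero_of_finite)
        (h4.trans (h5.symm.trans (mul_comm _ _)))
    rw [← h2]
    exact index_dvd_card _
  rw [show Cy.index = s ^ b from hyb, hm] at hidx
  show Cy.index = 1
  rw [show Cy.index = s ^ b from hyb]
  exact Nat.eq_one_of_dvd_coprimes (Nat.Coprime.pow b m ((Nat.coprime_primes hs hr).mpr hrs.symm))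
    dvd_rfl hidx

/-- A class of `q`-power size and one of size prime to `q` cannot both be nontrivial. -/
theorem false_of_mixed (hB : ∀ x : G, (∃ k, orderOf x = q ^ k) →
      ∃ r a : ℕ, r.Prime ∧ cls x = r ^ a) {x y : G} {k k' a : ℕ}
    (hx : orderOf x = q ^ k) (hy : orderOf y = q ^ k') (hxa : cls x = q ^ a) (hxc : x ∉ center G)
    (hyq : ¬ q ∣ cls y) (hyc : y ∉ center G) : False := by
  classical
  obtain ⟨Q, hQ⟩ := exists_sylow_le_centralizer hyq
  have hyQ := mem_sylow_of_centralizer hy hQ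
  set O := pCore q G with hO
  have hxO : x ∈ O := mem_pCore_of_cls hx hxa
  have hkind : ∀ z ∈ (Q : Subgroup G), z ∈ O ∨ z ∈ centralizer (O : Set G) := by
    intro z hz
    obtain ⟨n, hn⟩ := IsPGroup.iff_orderOf.mp Q.2 ⟨z, hz⟩
    rw [Subgroup.orderOf_mk] at hn
    obtain ⟨r, c, hr, hc⟩ := hB z ⟨n, hn⟩
    by_cases hrq : r = q
    · exact Or.inl (mem_pCore_of_cls hn (hrq ▸ hc))
    · right
      obtain ⟨Q', hQ'⟩ := exists_sylow_le_centralizer (x := z) (q := q) (by
        rw [hc]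
        exact fun h => hrq ((Nat.prime_dvd_prime_iff_eq hq.out hr).mp (hq.out.dvd_of_dvd_pow h)).symm)
      refine mem_centralizer_iff.mpr fun t ht => ?_
      exact mem_centralizer_singleton_iff.mp (hQ' (Cores.pCore_le_sylow Q' ht))
  have hQO : (Q : Subgroup G) ≤ O := by
    by_contra hnot
    obtain ⟨z, hz, hzO⟩ := Set.not_subset.mp hnot
    have hzC := (hkind z hz).resolve_left hzO
    have hQC : (Q : Subgroup G) ≤ centralizer (O : Set G) := by
      intro t ht
      rcases hkind t ht with htO | htC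
      · rcases hkind (t * z) (mul_mem ht hz) with h | h
        · exact absurd ((O.mul_mem_cancel_left htO).mp h) hzO
        · exact (mul_mem_cancel_right hzC).mp h
      · exact htC
    have hd : cls x ∣ (Q : Subgroup G).index := index_dvd_of_le fun t ht =>
      mem_centralizer_singleton_iff.mpr ((mem_centralizer_iff.mp (hQC ht)) x hxO).symm
    have h0 : a = 0 := by
      by_contra h0
      exact Q.not_dvd_index ((dvd_pow_self q h0).trans (hxa ▸ hd))
    rw [h0, pow_zero] at hxa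
    exact hxc (cls_eq_one_iff.mp hxa)
  have hQeq : (Q : Subgroup G) = O := le_antisymm hQO (Cores.pCore_le_sylow Q)
  haveI hQn : (Q : Subgroup G).Normal := by rw [hQeq, hO]; exact pCore_normal q G
  set Z := (Q : Subgroup G) ⊓ centralizer ((Q : Subgroup G) : Set G) with hZ
  have hout : ∀ z ∈ (Q : Subgroup G), z ∉ Z → ∀ g : G,
      g * z * g⁻¹ * z⁻¹ ∈ (frattini (Q : Subgroup G)).map (Q : Subgroup G).subtype := by
    intro z hz hzZ g
    obtain ⟨n, hn⟩ := IsPGroup.iff_orderOf.mp Q.2 ⟨z, hz⟩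
    rw [Subgroup.orderOf_mk] at hn
    obtain ⟨r, c, hr, hc⟩ := hB z ⟨n, hn⟩
    by_cases hrq : r = q
    · obtain ⟨π, hπ, he⟩ := exists_sylow_conj (hrq ▸ hc) Q g
      rw [he]
      exact conj_mem_frattini Q.2 hπ hz
    · exfalso
      obtain ⟨Q', hQ'⟩ := exists_sylow_le_centralizer (x := z) (q := q) (by
        rw [hc]
        exact fun h => hrq ((Nat.prime_dvd_prime_iff_eq hq.out hr).mp (hq.out.dvd_of_dvd_pow h)).symm)
      refine hzZ ⟨hz, mem_centralizer_iff.mpr fun t ht => ?_⟩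
      exact mem_centralizer_singleton_iff.mp (hQ' (Cores.pCore_le_sylow Q' (hQO ht)))
  have hxQ : x ∈ (Q : Subgroup G) := hQeq ▸ hxO
  have hxZ : x ∉ Z := by
    intro h
    have hd : cls x ∣ (Q : Subgroup G).index := index_dvd_of_le fun t ht =>
      mem_centralizer_singleton_iff.mpr ((mem_centralizer_iff.mp h.2) t ht)
    have h0 : a = 0 := by
      by_contra h0
      exact Q.not_dvd_index ((dvd_pow_self q h0).trans (hxa ▸ hd))
    rw [h0, pow_zero] at hxa
    exact hxc (cls_eq_one_iff.mp hxa)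
  have hyZ : y ∈ Z := ⟨hyQ, mem_centralizer_iff.mpr fun t ht =>
    mem_centralizer_singleton_iff.mp (hQ ht)⟩
  have hall : ∀ g : G, ∀ z ∈ (Q : Subgroup G),
      g * z * g⁻¹ * z⁻¹ ∈ (frattini (Q : Subgroup G)).map (Q : Subgroup G).subtype := by
    intro g z hz
    by_cases hzZ : z ∈ Z
    swap
    · exact hout z hz hzZ g
    have hxz : x * z ∉ Z := fun h => hxZ ((mul_mem_cancel_right hzZ).mp h)
    obtain ⟨t, ht, hte⟩ := hout x hxQ hxZ g
    obtain ⟨t', ht', hte'⟩ := hout (x * z) (mul_mem hxQ hz) hxz g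
    have hcz : ∀ w ∈ (Q : Subgroup G), w * z = z * w := mem_centralizer_iff.mp hzZ.2
    refine ⟨t⁻¹ * t', mul_mem (inv_mem ht) ht', ?_⟩
    rw [map_mul, map_inv, hte, hte']
    have hxc' : x⁻¹ * (g * z * g⁻¹) = g * z * g⁻¹ * x⁻¹ := by
      have h1 := hcz (g⁻¹ * x⁻¹ * g) (by simpa using hQn.conj_mem _ (inv_mem hxQ) g⁻¹)
      calc x⁻¹ * (g * z * g⁻¹) = g * (g⁻¹ * x⁻¹ * g * z) * g⁻¹ := by group
        _ = g * (z * (g⁻¹ * x⁻¹ * g)) * g⁻¹ := by rw [h1]
        _ = g * z * g⁻¹ * x⁻¹ := by group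
    calc (g * x * g⁻¹ * x⁻¹)⁻¹ * (g * (x * z) * g⁻¹ * (x * z)⁻¹)
        = x * (g * z * g⁻¹) * z⁻¹ * x⁻¹ := by group
      _ = x * (g * z * g⁻¹) * (x⁻¹ * z⁻¹) := by
          rw [show x⁻¹ * z⁻¹ = z⁻¹ * x⁻¹ by
            rw [← mul_inv_rev, ← mul_inv_rev, hcz x hxQ]]
          group
      _ = x * (g * z * g⁻¹ * x⁻¹) * z⁻¹ := by group
      _ = g * z * g⁻¹ * z⁻¹ := by rw [← hxc']; group
  apply hyc
  rw [← cls_eq_one_iff, cls, index_eq_one]
  refine eq_top_of_coprime_le hQ fun A hA => ?_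
  intro t ht
  have h1 := le_centralizer_of_fix_frattini Q.2 hA (fun a _ z hz => hall a z hz) ht
  exact mem_centralizer_singleton_iff.mpr (mem_centralizer_iff.mp h1 y hyQ).symm

/-- One prime serves for all classes of `q`-elements. -/
theorem exists_prime (hB : ∀ x : G, (∃ k, orderOf x = q ^ k) →
      ∃ r a : ℕ, r.Prime ∧ cls x = r ^ a) :
    ∃ p : ℕ, p.Prime ∧ ∀ x : G, (∃ k, orderOf x = q ^ k) → ∃ a, cls x = p ^ a := by
  classical
  by_cases hcen : ∀ x : G, (∃ k, orderOf x = q ^ k) → x ∈ center G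
  · exact ⟨q, hq.out, fun x hx => ⟨0, by rw [pow_zero]; exact cls_eq_one_iff.mpr (hcen x hx)⟩⟩
  push Not at hcen
  obtain ⟨x, ⟨k, hk⟩, hxc⟩ := hcen
  obtain ⟨r, a, hr, hxa⟩ := hB x ⟨k, hk⟩
  refine ⟨r, hr, ?_⟩
  rintro y ⟨k', hk'⟩
  by_cases hyc : y ∈ center G
  · exact ⟨0, by rw [pow_zero]; exact cls_eq_one_iff.mpr hyc⟩
  obtain ⟨s, b, hs, hyb⟩ := hB y ⟨k', hk'⟩
  by_cases hrs : r = s
  · exact ⟨b, hrs ▸ hyb⟩
  exfalso
  have hnd : ∀ {t e : ℕ}, t.Prime → t ≠ q → ¬ q ∣ t ^ e := fun ht hne h =>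
    hne ((Nat.prime_dvd_prime_iff_eq hq.out ht).mp (hq.out.dvd_of_dvd_pow h)).symm
  by_cases hrq : r = q
  · exact false_of_mixed hB hk hk' (hrq ▸ hxa) hxc (hyb ▸ hnd hs (fun h => hrs (hrq.trans h.symm))) hyc
  by_cases hsq : s = q
  · exact false_of_mixed hB hk' hk (hsq ▸ hyb) hyc (hxa ▸ hnd hr hrq) hxc
  obtain ⟨Q₁, hQ₁⟩ := exists_sylow_le_centralizer (x := x) (q := q) (hxa ▸ hnd hr hrq)
  obtain ⟨Q₂, hQ₂⟩ := exists_sylow_le_centralizer (x := y) (q := q) (hyb ▸ hnd hs hsq)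
  obtain ⟨g, hg⟩ := MulAction.exists_smul_eq G Q₂ Q₁
  set y₁ := g * y * g⁻¹ with hy₁
  have hxQ := mem_sylow_of_centralizer hk hQ₁
  have hy₁Q : y₁ ∈ (Q₁ : Subgroup G) := by
    rw [← hg, Sylow.coe_subgroup_smul]
    exact ⟨y, mem_sylow_of_centralizer hk' hQ₂, rfl⟩
  have hxy : x * y₁ = y₁ * x := (mem_centralizer_singleton_iff.mp (hQ₁ hy₁Q)).symm
  have hQy : (Q₁ : Subgroup G) ≤ centralizer ({y₁} : Set G) := by
    rw [← hg, hy₁, centralizer_conj, Sylow.coe_subgroup_smul]
    exact Subgroup.map_mono hQ₂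
  obtain ⟨n, hn⟩ := IsPGroup.iff_orderOf.mp Q₁.2 ⟨x * y₁, mul_mem hxQ hy₁Q⟩
  rw [Subgroup.orderOf_mk] at hn
  obtain ⟨t, c, ht, hc⟩ := hB (x * y₁) ⟨n, hn⟩
  have hy₁o : orderOf y₁ = q ^ k' := by rw [hy₁, orderOf_conj', hk']
  have hy₁b : cls y₁ = s ^ b := by rw [hy₁, cls_conj, hyb]
  have hle : centralizer ({x} : Set G) ⊓ centralizer ({y₁} : Set G) ≤
      centralizer ({x * y₁} : Set G) := fun h hh => by
    have h1 := mem_centralizer_singleton_iff.mp hh.1
    have h2 := mem_centralizer_singleton_iff.mp hh.2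
    exact mem_centralizer_singleton_iff.mpr ((show Commute h x from h1).mul_right h2).eq
  have hdvd := (index_dvd_of_le hle).trans (index_inf_of_coprime
    (A := centralizer ({x} : Set G)) (B := centralizer ({y₁} : Set G)) (by
      show Nat.Coprime (cls x) (cls y₁)
      rw [hxa, hy₁b]; exact Nat.Coprime.pow a b ((Nat.coprime_primes hr hs).mpr hrs))).dvd
  change cls (x * y₁) ∣ cls x * cls y₁ at hdvd
  rw [hc, hxa, hy₁b] at hdvd
  have hcase : (∃ c', cls (x * y₁) = r ^ c') ∨ ∃ c', cls (x * y₁) = s ^ c' := by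
    rcases eq_or_ne c 0 with rfl | hc0
    · exact Or.inl ⟨0, by rw [hc, pow_zero, pow_zero]⟩
    rcases (Nat.Prime.dvd_mul ht).mp ((dvd_pow_self t hc0).trans hdvd) with h | h
    · exact Or.inl ⟨c, by rw [hc, (Nat.prime_dvd_prime_iff_eq ht hr).mp (ht.dvd_of_dvd_pow h)]⟩
    · exact Or.inr ⟨c, by rw [hc, (Nat.prime_dvd_prime_iff_eq ht hs).mp (ht.dvd_of_dvd_pow h)]⟩
  rcases hcase with ⟨c', hc'⟩ | ⟨c', hc'⟩
  · have := cls_eq_one_of_mul hr hs hrs hrq hy₁o hxy hxa hy₁b hc'
    rw [hy₁, cls_conj] at this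
    exact hyc (cls_eq_one_iff.mp this)
  · have := cls_eq_one_of_mul hs hr (Ne.symm hrs) hsq hk hxy.symm hy₁b hxa (hxy ▸ hc')
    exact hxc (cls_eq_one_iff.mp this)

end Cfsg.Agent.H79.BaerClasses
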