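import Cfsg.Agent.H59.StrongClosure
import Cfsg.Agent.Fusion.Basic
import Cfsg.Agent.H59.ThompsonComplement

/-!
# The theorem of Camina and Herzog

If every 2-element of a finite group centralises a Sylow 2-subgroup, the Sylow 2-subgroups are
abelian.  Proof: no 2-element of order at least four is real, so the involutions of a Sylow
2-subgroup `S` form a strongly closed abelian subgroup `A`; as `A` controls strong fusion, the
hypothesis passes to `N_G(A)`, `C_G(A)` and `G/A`, and Burnside's fusion lemma finishes.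
-/

set_option autoImplicit false
set_option linter.style.haveILetI false

namespace Cfsg.Agent.H79.CaminaHerzog

open Subgroup
open scoped Pointwise

universe u

/-- Every 2-element has a class of odd size. -/
def OddClasses (G : Type u) [Group G] : Prop :=
  ∀ x : G, (∃ k : ℕ, orderOf x = 2 ^ k) → ¬ 2 ∣ (centralizer ({x} : Set G)).index

variable {G : Type u} [Group G] [Finite G]

theorem exists_sylow_le_centralizer (h : OddClasses G) {x : G} (hx : ∃ k : ℕ, orderOf x = 2 ^ k) :
    ∃ Q : Sylow 2 G, (Q : Subgroup G) ≤ centralizer ({x} : Set G) := by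
  haveI : Fact (Nat.Prime 2) := ⟨Nat.prime_two⟩
  set C := centralizer ({x} : Set G) with hC
  obtain ⟨R⟩ : Nonempty (Sylow 2 C) := inferInstance
  have hidx : ¬ 2 ∣ (R.1.map C.subtype).index := by
    intro hd
    rw [index_map_of_injective _ C.subtype_injective, range_subtype] at hd
    rcases Nat.prime_two.dvd_mul.1 hd with h1 | h1
    · exact R.not_dvd_index h1
    · exact h x hx h1
  exact ⟨(R.2.map C.subtype).toSylow hidx, map_subtype_le _⟩

theorem exists_pow_two_of_mem (S : Sylow 2 G) {x : G} (hx : x ∈ (S : Subgroup G)) :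
    ∃ k : ℕ, orderOf x = 2 ^ k := by
  haveI : Fact (Nat.Prime 2) := ⟨Nat.prime_two⟩
  obtain ⟨k, hk⟩ := IsPGroup.iff_orderOf.1 S.2 ⟨x, hx⟩
  exact ⟨k, by rw [← hk, ← orderOf_coe]⟩

/-- Every element of `S` is conjugate into the centralizer of `S` in `S`. -/
theorem exists_conj_central (h : OddClasses G) (S : Sylow 2 G) {x : G}
    (hx : x ∈ (S : Subgroup G)) :
    ∃ g : G, g * x * g⁻¹ ∈ (S : Subgroup G) ∧
      ∀ s ∈ (S : Subgroup G), s * (g * x * g⁻¹) = g * x * g⁻¹ * s := by
  haveI : Fact (Nat.Prime 2) := ⟨Nat.prime_two⟩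
  obtain ⟨Q, hQ⟩ := exists_sylow_le_centralizer h (exists_pow_two_of_mem S hx)
  obtain ⟨g, hg⟩ := MulAction.exists_smul_eq G Q S
  have hcomm : ∀ s ∈ (S : Subgroup G), s * (g * x * g⁻¹) = g * x * g⁻¹ * s := by
    intro s hs
    rw [← hg, Sylow.coe_subgroup_smul] at hs
    obtain ⟨q, hq, rfl⟩ := hs
    have h1 : q * x = x * q := mem_centralizer_singleton_iff.1 (hQ hq)
    show g * q * g⁻¹ * (g * x * g⁻¹) = g * x * g⁻¹ * (g * q * g⁻¹)
    calc g * q * g⁻¹ * (g * x * g⁻¹) = g * (q * x) * g⁻¹ := by group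
      _ = g * (x * q) * g⁻¹ := by rw [h1]
      _ = g * x * g⁻¹ * (g * q * g⁻¹) := by group
  refine ⟨g, ?_, hcomm⟩
  have hp : IsPGroup 2 (zpowers (g * x * g⁻¹)) := by
    obtain ⟨k, hk⟩ := exists_pow_two_of_mem S hx
    refine IsPGroup.of_card (n := k) ?_
    rw [Nat.card_zpowers, ← MulAut.conj_apply, MulEquiv.orderOf_eq, hk]
  have hmem : g * x * g⁻¹ ∈ zpowers (g * x * g⁻¹) ⊓ normalizer (S : Set G) :=
    ⟨mem_zpowers _, centralizer_le_normalizer _ (mem_centralizer_iff.2 fun s hs => hcomm s hs)⟩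
  rw [hp.inf_normalizer_sylow S] at hmem
  exact hmem.2

/-- An element of `N_G(S)` conjugating a central element of `S` to its translate by a central
involution which it fixes fixes that element too. -/
theorem eq_one_of_normalizer (S : Sylow 2 G) {n z t : G} (hn : n ∈ normalizer ((S : Subgroup G) : Set G))
    (hzc : ∀ s ∈ (S : Subgroup G), s * z = z * s) (hnt : n * t = t * n)
    (hconj : n * z * n⁻¹ = t * z) (ht : t ^ 2 = 1) : t = 1 := by
  haveI : Fact (Nat.Prime 2) := ⟨Nat.prime_two⟩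
  obtain ⟨e, m, hm, hnm⟩ := Nat.exists_eq_pow_mul_and_not_dvd (orderOf_pos n).ne' 2 (by norm_num)
  have hpow : ∀ j : ℕ, n ^ j * z * (n ^ j)⁻¹ = t ^ j * z := by
    intro j
    induction j with
    | zero => simp
    | succ j ih =>
      have hc : n ^ j * t = t * n ^ j := ((show Commute n t from hnt).pow_left j).eq
      calc n ^ (j + 1) * z * (n ^ (j + 1))⁻¹ = n ^ j * (n * z * n⁻¹) * (n ^ j)⁻¹ := by
            rw [pow_succ]; group
        _ = n ^ j * t * z * (n ^ j)⁻¹ := by rw [hconj]; group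
        _ = t * (n ^ j * z * (n ^ j)⁻¹) := by rw [hc]; group
        _ = t * (t ^ j * z) := by rw [ih]
        _ = t ^ (j + 1) * z := by rw [pow_succ']; group
  have hp : IsPGroup 2 (zpowers (n ^ m)) := by
    obtain ⟨i, -, hi⟩ := (Nat.dvd_prime_pow Nat.prime_two).1 (orderOf_dvd_of_pow_eq_one
      (show (n ^ m) ^ (2 ^ e) = 1 by rw [← pow_mul, mul_comm, ← hnm, pow_orderOf_eq_one]))
    exact IsPGroup.of_card (n := i) (by rw [Nat.card_zpowers, hi])
  have hmS : n ^ m ∈ (S : Subgroup G) := by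
    have hmem : n ^ m ∈ zpowers (n ^ m) ⊓ normalizer (S : Set G) :=
      ⟨mem_zpowers _, pow_mem hn m⟩
    rw [hp.inf_normalizer_sylow S] at hmem
    exact hmem.2
  have h1 : t ^ m * z = z := by rw [← hpow m, hzc _ hmS, mul_inv_cancel_right]
  have h2 : t ^ m = 1 := mul_eq_right.1 h1
  obtain ⟨i, hi⟩ : Odd m := Nat.odd_iff.2 (by omega)
  rwa [hi, pow_succ, pow_mul, ht, one_pow, one_mul] at h2

/-- Two involutions of a Sylow 2-subgroup commute. -/
theorem involutions_commute (h : OddClasses G) (S : Sylow 2 G) {a b : G}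
    (ha : a ∈ (S : Subgroup G)) (hb : b ∈ (S : Subgroup G)) (ha2 : a ^ 2 = 1) (hb2 : b ^ 2 = 1) :
    a * b = b * a := by
  haveI : Fact (Nat.Prime 2) := ⟨Nat.prime_two⟩
  set d := a * b with hd
  have hai : a⁻¹ = a := inv_eq_of_mul_eq_one_right (by rw [← pow_two, ha2])
  have hbi : b⁻¹ = b := inv_eq_of_mul_eq_one_right (by rw [← pow_two, hb2])
  obtain ⟨g, hzS, hzc⟩ := exists_conj_central h S (mul_mem ha hb)
  set z := g * d * g⁻¹ with hz
  have hinv : (g * a * g⁻¹) * z * (g * a * g⁻¹)⁻¹ = z⁻¹ := by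
    calc (g * a * g⁻¹) * z * (g * a * g⁻¹)⁻¹ = g * (a * a) * b * a⁻¹ * g⁻¹ := by
          rw [hz, hd]; group
      _ = g * b⁻¹ * a⁻¹ * g⁻¹ := by rw [← pow_two, ha2, mul_one, hbi]
      _ = z⁻¹ := by rw [hz, hd]; group
  have hzC : z ∈ centralizer ((S : Subgroup G) : Set G) := mem_centralizer_iff.2 fun s hs => hzc s hs
  obtain ⟨n, hn, hnz⟩ := Fusion.burnside_fusion_centralizer S (g := g * a * g⁻¹) hzC
    (by rw [hinv]; exact inv_mem hzC)
  rw [hinv] at hnz
  obtain ⟨e, m, hm, hnm⟩ := Nat.exists_eq_pow_mul_and_not_dvd (orderOf_pos n).ne' 2 (by norm_num)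
  have hp : IsPGroup 2 (zpowers (n ^ m)) := by
    obtain ⟨i, -, hi⟩ := (Nat.dvd_prime_pow Nat.prime_two).1 (orderOf_dvd_of_pow_eq_one
      (show (n ^ m) ^ (2 ^ e) = 1 by rw [← pow_mul, mul_comm, ← hnm, pow_orderOf_eq_one]))
    exact IsPGroup.of_card (n := i) (by rw [Nat.card_zpowers, hi])
  have hmS : n ^ m ∈ (S : Subgroup G) := by
    have hmem : n ^ m ∈ zpowers (n ^ m) ⊓ normalizer (S : Set G) :=
      ⟨mem_zpowers _, pow_mem hn m⟩
    rw [hp.inf_normalizer_sylow S] at hmem
    exact hmem.2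
  have heven : ∀ j : ℕ, n ^ (2 * j) * z * (n ^ (2 * j))⁻¹ = z := by
    intro j
    induction j with
    | zero => simp
    | succ j ih =>
      calc n ^ (2 * (j + 1)) * z * (n ^ (2 * (j + 1)))⁻¹
          = n ^ (2 * j) * (n * (n * z * n⁻¹) * n⁻¹) * (n ^ (2 * j))⁻¹ := by
            rw [Nat.mul_succ, pow_add, pow_two]; group
        _ = n ^ (2 * j) * (n * z⁻¹ * n⁻¹) * (n ^ (2 * j))⁻¹ := by rw [hnz]
        _ = n ^ (2 * j) * (n * z * n⁻¹)⁻¹ * (n ^ (2 * j))⁻¹ := by group
        _ = n ^ (2 * j) * z * (n ^ (2 * j))⁻¹ := by rw [hnz, inv_inv]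
        _ = z := ih
  obtain ⟨i, hi⟩ : Odd m := Nat.odd_iff.2 (by omega)
  have h1 : n ^ m * z * (n ^ m)⁻¹ = z := by rw [hzc _ hmS, mul_inv_cancel_right]
  rw [hi] at h1
  have h2 : n * z * n⁻¹ = z := by
    calc n * z * n⁻¹ = n * (n ^ (2 * i) * z * (n ^ (2 * i))⁻¹) * n⁻¹ := by rw [heven i]
      _ = n ^ (2 * i + 1) * z * (n ^ (2 * i + 1))⁻¹ := by rw [pow_succ']; group
      _ = z := h1
  rw [hnz] at h2
  have h3 : d⁻¹ = d := by
    rw [hz, mul_inv_rev, mul_inv_rev, inv_inv, ← mul_assoc] at h2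
    exact mul_left_cancel (mul_right_cancel h2)
  rw [hd, mul_inv_rev, hai, hbi] at h3
  exact h3.symm

/-- The hypothesis passes to subgroups containing suitable Sylow 2-subgroups. -/
theorem OddClasses.subgroup (K : Subgroup G)
    (hK : ∀ x ∈ K, (∃ k : ℕ, orderOf x = 2 ^ k) →
      ∃ Q : Sylow 2 G, (Q : Subgroup G) ≤ K ∧ (Q : Subgroup G) ≤ centralizer ({x} : Set G)) :
    OddClasses K := by
  haveI : Fact (Nat.Prime 2) := ⟨Nat.prime_two⟩
  rintro ⟨x, hx⟩ ⟨k, hk⟩
  obtain ⟨Q, hQK, hQC⟩ := hK x hx ⟨k, by rw [← hk, ← orderOf_coe]⟩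
  intro hd
  have hle : (Q : Subgroup G).subgroupOf K ≤ centralizer ({⟨x, hx⟩} : Set K) := fun y hy =>
    mem_centralizer_singleton_iff.2 (Subtype.ext (mem_centralizer_singleton_iff.1
      (hQC (mem_subgroupOf.1 hy))))
  exact (Q.subtype hQK).not_dvd_index (hd.trans (index_dvd_of_le hle))

/-- The hypothesis passes to quotients. -/
theorem OddClasses.quotient (h : OddClasses G) (N : Subgroup G) [N.Normal] :
    OddClasses (G ⧸ N) := by
  haveI : Fact (Nat.Prime 2) := ⟨Nat.prime_two⟩
  rintro xb ⟨k, hk⟩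
  have hp : IsPGroup 2 (zpowers xb) := IsPGroup.of_card (n := k) (by rw [Nat.card_zpowers, hk])
  obtain ⟨Qb, hQb⟩ := hp.exists_le_sylow
  obtain ⟨Q, rfl⟩ := Sylow.mapSurjective_surjective (QuotientGroup.mk'_surjective N) 2 Qb
  obtain ⟨x, hx, rfl⟩ := hQb (mem_zpowers xb)
  intro hd
  refine h x (exists_pow_two_of_mem Q hx) (hd.trans ((index_dvd_of_le ?_).trans
    (index_map_dvd _ (QuotientGroup.mk'_surjective N))))
  rintro _ ⟨c, hc, rfl⟩
  rw [mem_centralizer_singleton_iff, ← map_mul, mem_centralizer_singleton_iff.1 hc, map_mul]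

theorem commute_sylow :
    ∀ (m : ℕ) (G : Type u) [Group G] [Finite G], Nat.card G ≤ m → OddClasses G →
      ∀ (P : Sylow 2 G), ∀ a ∈ (P : Subgroup G), ∀ b ∈ (P : Subgroup G), a * b = b * a := by
  intro m
  induction m with
  | zero => intro G _ _ hm; exact absurd hm (by simp [Nat.card_pos.ne'])
  | succ m ih =>
    intro G _ _ hm h P
    haveI : Fact (Nat.Prime 2) := ⟨Nat.prime_two⟩
    suffices hT : ∃ T : Sylow 2 G, ∀ a ∈ (T : Subgroup G), ∀ b ∈ (T : Subgroup G), a * b = b * a by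
      obtain ⟨T, hT⟩ := hT
      obtain ⟨g, hg⟩ := MulAction.exists_smul_eq G T P
      intro a ha b hb
      rw [← hg, Sylow.coe_subgroup_smul] at ha hb
      obtain ⟨a', ha', rfl⟩ := ha
      obtain ⟨b', hb', rfl⟩ := hb
      simp only [MulDistribMulAction.toMonoidEnd_apply, MulDistribMulAction.toMonoidHom_apply,
        MulAut.smul_def]
      rw [← map_mul, hT a' ha' b' hb', map_mul]
    have hP2 : ∀ {S : Sylow 2 G} {a b : G}, a ∈ (S : Subgroup G) → b ∈ (S : Subgroup G) →
        a ^ 2 = 1 → b ^ 2 = 1 → a * b = b * a := fun {S} {a b} => involutions_commute h S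
    let om : Sylow 2 G → Subgroup G := fun S =>
      { carrier := {a | a ∈ (S : Subgroup G) ∧ a ^ 2 = 1}
        one_mem' := ⟨one_mem _, one_pow _⟩
        mul_mem' := fun {a b} ha hb => ⟨mul_mem ha.1 hb.1, by
          rw [(show Commute a b from hP2 ha.1 hb.1 ha.2 hb.2).mul_pow, ha.2, hb.2, one_mul]⟩
        inv_mem' := fun {a} ha => ⟨inv_mem ha.1, by rw [inv_pow, ha.2, inv_one]⟩ }
    set A := om P with hA
    have hAab : IsMulCommutative A :=
      ⟨⟨fun u v => Subtype.ext (hP2 u.2.1 v.2.1 u.2.2 v.2.2)⟩⟩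
    have hsc : Cfsg.IsStronglyClosed A (P : Subgroup G) :=
      ⟨fun a ha => ha.1, fun a ha g hg => ⟨hg, by
        rw [← MulAut.conj_apply, ← map_pow, ha.2, map_one]⟩⟩
    obtain ⟨T, hAT, hctrl⟩ := H59.controlsStrongFusion_of_stronglyClosed P A hAab hsc
    -- `A` is the set of involutions of `T`
    have hTA : ∀ a ∈ (T : Subgroup G), a ^ 2 = 1 → a ∈ A := by
      obtain ⟨g, hg⟩ := MulAction.exists_smul_eq G P T
      have hle : (A.map (MulAut.conj g).toMonoidHom) = om T := by
        ext y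
        constructor
        · rintro ⟨a, ha, rfl⟩
          refine ⟨?_, by rw [← map_pow, ha.2, map_one]⟩
          rw [← hg, Sylow.coe_subgroup_smul]
          exact smul_mem_pointwise_smul _ _ _ ha.1
        · rintro ⟨hy, hy2⟩
          rw [← hg, Sylow.coe_subgroup_smul] at hy
          obtain ⟨a, ha, rfl⟩ := hy
          refine ⟨a, ⟨ha, (MulAut.conj g).injective ?_⟩, rfl⟩
          rw [map_pow, map_one]
          exact hy2
      have heq : A = om T := eq_of_le_of_card_ge (fun a ha => ⟨hAT ha, ha.2⟩)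
        (by rw [← hle, card_map_of_injective (MulAut.conj g).injective])
      intro a ha ha2
      rw [heq]
      exact ⟨ha, ha2⟩
    have hTN : (T : Subgroup G) ≤ normalizer (A : Set G) := fun s hs =>
      H59.mem_normalizer_of_forall fun a ha => hTA _ (mul_mem (mul_mem hs (hAT ha)) (inv_mem hs))
        (by rw [← MulAut.conj_apply, ← map_pow, ha.2, map_one])
    refine ⟨T, ?_⟩
    -- reduction to a normal subgroup `A`
    by_cases hN : normalizer (A : Set G) = ⊤
    swap
    · have hlt : Nat.card (normalizer (A : Set G)) ≤ m := by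
        have : Nat.card (normalizer (A : Set G)) < Nat.card G :=
          lt_of_le_of_ne (card_le_card_group _) fun he => hN (eq_top_of_card_eq _ he)
        omega
      have hH : OddClasses (normalizer (A : Set G)) := by
        refine OddClasses.subgroup _ fun x hx hk => ?_
        obtain ⟨k, hk⟩ := hk
        have hp : IsPGroup 2 (zpowers (⟨x, hx⟩ : normalizer (A : Set G))) :=
          IsPGroup.of_card (n := k) (by rw [Nat.card_zpowers, ← hk, ← orderOf_coe])
        obtain ⟨R, hR⟩ := hp.exists_le_sylow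
        obtain ⟨u, hu⟩ := MulAction.exists_smul_eq (normalizer (A : Set G)) R (T.subtype hTN)
        have hxT : (u : G) * x * (u : G)⁻¹ ∈ (T : Subgroup G) := by
          have h1 : MulAut.conj u • (⟨x, hx⟩ : normalizer (A : Set G)) ∈
              ((u • R : Sylow 2 (normalizer (A : Set G))) : Subgroup (normalizer (A : Set G))) := by
            rw [Sylow.coe_subgroup_smul]
            exact smul_mem_pointwise_smul _ _ _ (hR (mem_zpowers _))
          rw [hu] at h1
          exact mem_subgroupOf.1 h1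
        obtain ⟨g, hzT, hzc⟩ := exists_conj_central h T hxT
        obtain ⟨w, hw, hwz⟩ := (hctrl {(u : G) * x * (u : G)⁻¹}
          (Set.singleton_subset_iff.2 hxT)).2 g (by rwa [Set.image_singleton, Set.singleton_subset_iff])
        have hwz' := hwz _ rfl
        have hwu : w * u ∈ normalizer (A : Set G) := mul_mem hw u.2
        have he : (w * u) * x * (w * u)⁻¹ = g * ((u : G) * x * (u : G)⁻¹) * g⁻¹ := by
          rw [hwz']; group
        refine ⟨(w * u)⁻¹ • T, ?_, ?_⟩ <;> rw [Sylow.coe_subgroup_smul] <;> rintro _ ⟨s, hs, rfl⟩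
        · show (w * u)⁻¹ * s * (w * u)⁻¹⁻¹ ∈ normalizer (A : Set G)
          exact mul_mem (mul_mem (inv_mem hwu) (hTN hs)) (inv_mem (inv_mem hwu))
        · show (w * u)⁻¹ * s * (w * u)⁻¹⁻¹ ∈ centralizer ({x} : Set G)
          rw [mem_centralizer_singleton_iff]
          have h1 := hzc s hs
          rw [← he] at h1
          calc (w * u)⁻¹ * s * (w * u)⁻¹⁻¹ * x
              = (w * u)⁻¹ * (s * ((w * u) * x * (w * u)⁻¹)) * (w * u) := by group
            _ = (w * u)⁻¹ * ((w * u) * x * (w * u)⁻¹ * s) * (w * u) := by rw [h1]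
            _ = x * ((w * u)⁻¹ * s * (w * u)⁻¹⁻¹) := by group
      intro a ha b hb
      exact congrArg Subtype.val
        (ih _ hlt hH (T.subtype hTN) ⟨a, hTN ha⟩ ha ⟨b, hTN hb⟩ hb)
    haveI hAn : A.Normal := normalizer_eq_top_iff.1 hN
    -- the centralizer of `A` contains `T`
    have hTC : (T : Subgroup G) ≤ centralizer (A : Set G) := by
      intro y hy
      obtain ⟨g, hzT, hzc⟩ := exists_conj_central h T hy
      rw [mem_centralizer_iff]
      intro a ha
      have h1 := hzc _ (hAT (hAn.conj_mem a ha g))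
      calc a * y = g⁻¹ * ((g * a * g⁻¹) * (g * y * g⁻¹)) * g := by group
        _ = g⁻¹ * ((g * y * g⁻¹) * (g * a * g⁻¹)) * g := by rw [h1]
        _ = y * a := by group
    by_cases hC : centralizer (A : Set G) = ⊤
    swap
    · have hlt : Nat.card (centralizer (A : Set G)) ≤ m := by
        have : Nat.card (centralizer (A : Set G)) < Nat.card G :=
          lt_of_le_of_ne (card_le_card_group _) fun he => hC (eq_top_of_card_eq _ he)
        omega
      have hall : ∀ Q : Sylow 2 G, (Q : Subgroup G) ≤ centralizer (A : Set G) := by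
        intro Q
        obtain ⟨g, hg⟩ := MulAction.exists_smul_eq G T Q
        rw [← hg, Sylow.coe_subgroup_smul]
        rintro _ ⟨s, hs, rfl⟩
        exact (inferInstance : (centralizer (A : Set G)).Normal).conj_mem s (hTC hs) g
      have hH : OddClasses (centralizer (A : Set G)) := OddClasses.subgroup _ fun x _ hk => by
        obtain ⟨Q, hQ⟩ := exists_sylow_le_centralizer h hk
        exact ⟨Q, hall Q, hQ⟩
      intro a ha b hb
      exact congrArg Subtype.val
        (ih _ hlt hH (T.subtype (hall T)) ⟨a, hall T ha⟩ ha ⟨b, hall T hb⟩ hb)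
    -- `A` is central
    have hAc : ∀ a ∈ A, ∀ g : G, g * a = a * g := fun a ha g =>
      (mem_centralizer_iff.1 (hC ▸ mem_top g : g ∈ centralizer (A : Set G)) a ha).symm
    intro y hy w hw
    by_cases hA1 : A = ⊥
    · -- then `T` is trivial
      have hT1 : ∀ s ∈ (T : Subgroup G), s = 1 := by
        by_contra hne
        push Not at hne
        obtain ⟨s, hs, hs1⟩ := hne
        obtain ⟨k, hk⟩ := exists_pow_two_of_mem T hs
        rcases k with _ | k
        · exact hs1 (orderOf_eq_one_iff.1 (by simpa using hk))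
        have hmem : s ^ (2 ^ k) ∈ A := hTA _ (pow_mem hs _)
          (by rw [← pow_mul, ← pow_succ, ← hk, pow_orderOf_eq_one])
        rw [hA1, mem_bot] at hmem
        have := orderOf_dvd_of_pow_eq_one hmem
        rw [hk, Nat.pow_dvd_pow_iff_le_right (by norm_num)] at this
        omega
      rw [hT1 y hy, one_mul, mul_one]
    have hlt : Nat.card (G ⧸ A) ≤ m := by
      have h1 : 1 < Nat.card A := A.one_lt_card_iff_ne_bot.2 hA1
      have h2 := card_eq_card_quotient_mul_card_subgroup A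
      have h3 : 0 < Nat.card (G ⧸ A) := Nat.card_pos
      nlinarith
    set π := QuotientGroup.mk' A with hπ
    have hq := ih (G ⧸ A) hlt (OddClasses.quotient h A)
      (T.mapSurjective (QuotientGroup.mk'_surjective A))
      (π w) ⟨w, hw, rfl⟩ (π y) ⟨y, hy, rfl⟩
    set t := w * y * w⁻¹ * y⁻¹ with ht
    have htA : t ∈ A := by
      rw [← QuotientGroup.ker_mk' A, MonoidHom.mem_ker, ht, map_mul, map_mul, map_mul, map_inv,
        map_inv, hq, mul_inv_cancel_right, mul_inv_cancel]
    obtain ⟨g, hzT, hzc⟩ := exists_conj_central h T hy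
    set z := g * y * g⁻¹ with hz
    have hconj : (g * w * g⁻¹) * z * (g * w * g⁻¹)⁻¹ = t * z := by
      calc (g * w * g⁻¹) * z * (g * w * g⁻¹)⁻¹ = g * t * y * g⁻¹ := by rw [hz, ht]; group
        _ = t * g * y * g⁻¹ := by rw [hAc t htA g]
        _ = t * z := by rw [hz]; group
    have hzC : z ∈ centralizer ((T : Subgroup G) : Set G) :=
      mem_centralizer_iff.2 fun s hs => hzc s hs
    obtain ⟨n, hn, hnz⟩ := Fusion.burnside_fusion_centralizer T (g := g * w * g⁻¹) hzC (by
      rw [hconj]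
      exact mul_mem (mem_centralizer_iff.2 fun s _ => hAc t htA s) hzC)
    rw [hconj] at hnz
    have ht1 : t = 1 := eq_one_of_normalizer T hn hzc (hAc t htA n) hnz htA.2
    rw [ht, mul_inv_eq_one, mul_inv_eq_iff_eq_mul] at ht1
    exact ht1.symm

/-- Camina–Herzog. -/
theorem isMulCommutative_sylow (h : OddClasses G) (P : Sylow 2 G) :
    IsMulCommutative (P : Subgroup G) :=
  ⟨⟨fun a b => Subtype.ext (commute_sylow (Nat.card G) G le_rfl h P a a.2 b b.2)⟩⟩

end Cfsg.Agent.H79.CaminaHerzog
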