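import Mathlib

/-!
# Schur's theorem for a regular cyclic group of prime power order

A primitive group on `p ^ a` points, `2 ≤ a`, containing a regular cyclic subgroup is doubly
transitive.  The points are `ZMod N`; invariant functions of the point stabiliser are closed under
convolution, and computing `ℓ`-th powers modulo `ℓ` gives the multiplier theorem and, for `ℓ = p`,
the cosets of the subgroup of order `p` contained in every suborbit.
-/

set_option autoImplicit false
set_option linter.style.haveILetI false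

namespace Cfsg.Agent.H79.CyclicRegular

open MulAction

variable {G : Type*} [Group G] {N : ℕ} [MulAction G (ZMod N)]

variable (G) in
/-- Functions invariant under the stabiliser of `0`. -/
def Inv {α : Type*} (f : ZMod N → α) : Prop :=
  ∀ h : G, h • (0 : ZMod N) = 0 → ∀ x, f (h • x) = f x

variable (G) in
/-- The orbit of `x` under the stabiliser of `0`. -/
def Orb (x : ZMod N) : Set (ZMod N) := {y | ∃ h : G, h • (0 : ZMod N) = 0 ∧ h • x = y}

theorem mem_orb_self (x : ZMod N) : x ∈ Orb G x := ⟨1, one_smul _ _, one_smul _ _⟩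

theorem inv_orb (x : ZMod N) : Inv G (fun y => y ∈ Orb G x) := by
  intro h h0 y
  refine propext ⟨?_, ?_⟩
  · rintro ⟨k, k0, hk⟩
    refine ⟨h⁻¹ * k, ?_, ?_⟩
    · rw [mul_smul, k0, inv_smul_eq_iff, h0]
    · rw [mul_smul, hk, inv_smul_smul]
  · rintro ⟨k, k0, hk⟩
    exact ⟨h * k, by rw [mul_smul, k0, h0], by rw [mul_smul, hk]⟩

theorem Inv.mem_iff {S : Set (ZMod N)} (hS : Inv G (fun x => x ∈ S)) {h : G}
    (h0 : h • (0 : ZMod N) = 0) (x : ZMod N) : h • x ∈ S ↔ x ∈ S :=
  eq_iff_iff.mp (hS h h0 x)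

theorem orb_subset {S : Set (ZMod N)} (hS : Inv G (fun y => y ∈ S)) {x : ZMod N} (hx : x ∈ S) :
    Orb G x ⊆ S := by
  rintro _ ⟨h, h0, rfl⟩
  exact (hS.mem_iff h0 x).mpr hx

theorem orb_eq {x y : ZMod N} (hy : y ∈ Orb G x) : Orb G y = Orb G x := by
  refine Set.Subset.antisymm (orb_subset (inv_orb x) hy) ?_
  refine orb_subset (inv_orb y) ?_
  obtain ⟨h, h0, rfl⟩ := hy
  exact ⟨h⁻¹, by rw [inv_smul_eq_iff, h0], inv_smul_smul h x⟩

section
variable [NeZero N] {ζ : G} (hζ : ∀ x : ZMod N, ζ • x = x + 1)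
include hζ

theorem exists_translation (c : ZMod N) : ∃ t : G, ∀ x : ZMod N, t • x = x + c := by
  have key : ∀ k : ℕ, ∀ x : ZMod N, ζ ^ k • x = x + k := by
    intro k
    induction k with
    | zero => simp
    | succ k ih => intro x; rw [pow_succ', mul_smul, ih, hζ]; push_cast; ring
  exact ⟨ζ ^ c.val, fun x => by rw [key, ZMod.natCast_zmod_val]⟩

/-- An invariant function is a `G`-invariant function of differences. -/
theorem Inv.diff {α : Type*} {f : ZMod N → α} (hf : Inv G f) (h : G) (x y : ZMod N) :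
    f (h • x - h • y) = f (x - y) := by
  obtain ⟨t, ht⟩ := exists_translation hζ y
  obtain ⟨t', ht'⟩ := exists_translation hζ (-(h • y))
  have h0 : (t' * h * t) • (0 : ZMod N) = 0 := by
    rw [mul_smul, mul_smul, ht, zero_add, ht', add_neg_cancel]
  have := hf _ h0 (x - y)
  rw [mul_smul, mul_smul, ht, sub_add_cancel, ht', ← sub_eq_add_neg] at this
  exact this

theorem Inv.diff_mem {S : Set (ZMod N)} (hS : Inv G (fun x => x ∈ S)) (h : G) (x y : ZMod N) :
    h • x - h • y ∈ S ↔ x - y ∈ S :=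
  eq_iff_iff.mp (hS.diff hζ h x y)

theorem Inv.neg {α : Type*} {f : ZMod N → α} (hf : Inv G f) : Inv G (fun x => f (-x)) := by
  intro h h0 x
  have := hf.diff hζ h 0 x
  simpa [h0] using this

theorem Inv.count {S T : Set (ZMod N)} (hS : Inv G (fun x => x ∈ S))
    (hT : Inv G (fun x => x ∈ T)) :
    Inv G (fun x => {y : ZMod N | y ∈ S ∧ x - y ∈ T}.ncard) := by
  intro h h0 x
  show Set.ncard _ = Set.ncard _
  rw [← Set.ncard_image_of_injective {y : ZMod N | y ∈ S ∧ x - y ∈ T} (MulAction.injective h)]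
  congr 1
  ext z
  constructor
  · rintro ⟨hz1, hz2⟩
    refine ⟨h⁻¹ • z, ⟨?_, ?_⟩, smul_inv_smul h z⟩
    · rw [← hS.mem_iff h0, smul_inv_smul]; exact hz1
    · rw [← hT.diff_mem hζ h, smul_inv_smul]; exact hz2
  · rintro ⟨y, ⟨hy1, hy2⟩, rfl⟩
    exact ⟨(hS.mem_iff h0 y).mpr hy1, (hT.diff_mem hζ h x y).mpr hy2⟩

theorem Inv.coeff_mul {R : Type*} [CommSemiring R] {A B : AddMonoidAlgebra R (ZMod N)}
    (hA : Inv G (fun x => A.coeff x)) (hB : Inv G (fun x => B.coeff x)) :
    Inv G (fun x => (A * B).coeff x) := by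
  classical
  have key : ∀ x, (A * B).coeff x = ∑ y : ZMod N, A.coeff y * B.coeff (x - y) := by
    intro x
    rw [AddMonoidAlgebra.coeff_mul_antidiag A B x
      (Finset.univ.image fun y : ZMod N => (y, x - y)) (fun {q} => by
        rw [Finset.mem_image]
        constructor
        · rintro ⟨y, -, rfl⟩; simp
        · intro hq; exact ⟨q.1, Finset.mem_univ _, Prod.ext rfl (by rw [← hq]; simp)⟩)]
    rw [Finset.sum_image (fun a _ b _ hab => (Prod.ext_iff.mp hab).1)]
  intro h h0 x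
  show (A * B).coeff (h • x) = (A * B).coeff x
  rw [key, key]
  refine (Fintype.sum_equiv (MulAction.toPerm h) _ _ fun y => ?_).symm
  have h1 : A.coeff (h • y) = A.coeff y := hA h h0 y
  have h2 : B.coeff (h • x - h • y) = B.coeff (x - y) := hB.diff hζ h x y
  rw [MulAction.toPerm_apply, h1, h2]

omit hζ [NeZero N] in
theorem inv_coeff_one {R : Type*} [CommSemiring R] :
    Inv G (fun x => (1 : AddMonoidAlgebra R (ZMod N)).coeff x) := by
  intro h h0 x
  show (1 : AddMonoidAlgebra R (ZMod N)).coeff (h • x) = (1 : AddMonoidAlgebra R (ZMod N)).coeff x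
  by_cases hx : x = 0
  · rw [hx, h0]
  · rw [AddMonoidAlgebra.one_def, AddMonoidAlgebra.coeff_single,
      Finsupp.single_eq_of_ne, Finsupp.single_eq_of_ne]
    · exact hx
    · intro he
      exact hx (MulAction.injective h (he.trans h0.symm))

/-- The `ℓ`-th power of an invariant set, computed modulo the prime `ℓ`. -/
theorem inv_count_mul {S : Set (ZMod N)} (hS : Inv G (fun x => x ∈ S)) (ℓ : ℕ) [Fact ℓ.Prime] :
    Inv G (fun j => (({i : ZMod N | i ∈ S ∧ (ℓ : ZMod N) * i = j}.ncard : ℕ) : ZMod ℓ)) := by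
  classical
  let T : AddMonoidAlgebra (ZMod ℓ) (ZMod N) :=
    ∑ i ∈ Finset.univ.filter (· ∈ S), AddMonoidAlgebra.single i 1
  haveI : CharP (AddMonoidAlgebra (ZMod ℓ) (ZMod N)) ℓ :=
    charP_of_injective_algebraMap (R := ZMod ℓ)
      (FaithfulSMul.algebraMap_injective (ZMod ℓ) (AddMonoidAlgebra (ZMod ℓ) (ZMod N))) ℓ
  have hT : ∀ x, T.coeff x = if x ∈ S then 1 else 0 := by
    intro x
    simp only [T, AddMonoidAlgebra.coeff_sum, Finsupp.finsetSum_apply, AddMonoidAlgebra.coeff_single,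
      Finsupp.single_apply, Finset.sum_ite_eq', Finset.mem_filter, Finset.mem_univ, true_and]
  have hTinv : Inv G (fun x => T.coeff x) := by
    intro h h0 x
    simp only [hT, eq_iff_iff.mp (hS h h0 x)]
  have hpow : ∀ n : ℕ, Inv G (fun x => (T ^ n).coeff x) := by
    intro n
    induction n with
    | zero => rw [pow_zero]; exact inv_coeff_one
    | succ n ih => rw [pow_succ]; exact Inv.coeff_mul hζ ih hTinv
  have hval : ∀ j, (T ^ ℓ).coeff j =
      (({i : ZMod N | i ∈ S ∧ (ℓ : ZMod N) * i = j}.ncard : ℕ) : ZMod ℓ) := by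
    intro j
    simp only [T, sum_pow_char, AddMonoidAlgebra.single_pow, one_pow,
      AddMonoidAlgebra.coeff_sum, Finsupp.finsetSum_apply, AddMonoidAlgebra.coeff_single,
      Finsupp.single_apply, nsmul_eq_mul, Finset.sum_boole, Finset.filter_filter]
    rw [Set.ncard_eq_toFinset_card', Set.toFinset_ofPred]
  intro h h0 x
  show (({i : ZMod N | i ∈ S ∧ (ℓ : ZMod N) * i = h • x}.ncard : ℕ) : ZMod ℓ) = _
  have e : (T ^ ℓ).coeff (h • x) = (T ^ ℓ).coeff x := hpow ℓ h h0 x
  rw [← hval, e]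
  exact hval x

theorem inv_image_mul_prime {S : Set (ZMod N)} (hS : Inv G (fun x => x ∈ S)) {ℓ : ℕ}
    (hℓ : ℓ.Prime) (hu : IsUnit (ℓ : ZMod N)) :
    Inv G (fun x => x ∈ ((ℓ : ZMod N) * ·) '' S) := by
  haveI := Fact.mk hℓ
  have key : ∀ j, (j ∈ ((ℓ : ZMod N) * ·) '' S) ↔
      (({i : ZMod N | i ∈ S ∧ (ℓ : ZMod N) * i = j}.ncard : ℕ) : ZMod ℓ) ≠ 0 := by
    intro j
    have hle : {i : ZMod N | i ∈ S ∧ (ℓ : ZMod N) * i = j}.ncard ≤ 1 := by
      rw [Set.ncard_le_one]
      exact fun a ha b hb => hu.mul_left_cancel (ha.2.trans hb.2.symm)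
    constructor
    · rintro ⟨i, hi, rfl⟩
      have : 0 < {i' : ZMod N | i' ∈ S ∧ (ℓ : ZMod N) * i' = (ℓ : ZMod N) * i}.ncard :=
        (Set.ncard_pos (Set.toFinite _)).mpr ⟨i, hi, rfl⟩
      simp only [Nat.le_antisymm hle this, Nat.cast_one]
      exact one_ne_zero
    · intro hne
      by_contra hj
      apply hne
      rw [show {i : ZMod N | i ∈ S ∧ (ℓ : ZMod N) * i = j} = ∅ from
        Set.eq_empty_iff_forall_notMem.mpr fun i hi => hj ⟨i, hi.1, hi.2⟩]
      simp
  intro h h0 x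
  have hc : (({i : ZMod N | i ∈ S ∧ (ℓ : ZMod N) * i = h • x}.ncard : ℕ) : ZMod ℓ) =
      (({i : ZMod N | i ∈ S ∧ (ℓ : ZMod N) * i = x}.ncard : ℕ) : ZMod ℓ) :=
    inv_count_mul hζ hS ℓ h h0 x
  refine propext ?_
  show h • x ∈ _ '' S ↔ x ∈ _ '' S
  rw [key, key, hc]

theorem Inv.closure {S : Set (ZMod N)} (hS : Inv G (fun x => x ∈ S)) :
    Inv G (fun x => x ∈ AddSubgroup.closure S) := by
  have key : ∀ x ∈ AddSubgroup.closure S, ∀ h : G, ∀ y, h • (x + y) - h • y ∈ AddSubgroup.closure S := by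
    intro x hx
    induction hx using AddSubgroup.closure_induction with
    | mem x hx =>
      intro h y
      refine AddSubgroup.subset_closure ?_
      rw [hS.diff_mem hζ, add_sub_cancel_right]
      exact hx
    | zero => intro h y; simp
    | add a b _ _ ha hb =>
      intro h y
      have := add_mem (ha h (b + y)) (hb h y)
      rwa [sub_add_sub_cancel, ← add_assoc] at this
    | neg a _ ha =>
      intro h y
      have := neg_mem (ha h (-a + y))
      rwa [neg_sub, add_neg_cancel_left] at this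
  intro h h0 x
  refine propext ⟨fun hx => ?_, fun hx => ?_⟩
  · have := key _ hx h⁻¹ 0
    rwa [add_zero, inv_smul_smul, inv_smul_eq_iff.mpr h0.symm, sub_zero] at this
  · have := key _ hx h 0
    rwa [add_zero, h0, sub_zero] at this

/-- A primitive group leaves no proper nontrivial invariant subgroup. -/
theorem eq_bot_or_top (hprim : IsCoatom (stabilizer G (0 : ZMod N))) {L : AddSubgroup (ZMod N)}
    (hL : Inv G (fun x => x ∈ L)) : L = ⊥ ∨ L = ⊤ := by
  let S : Subgroup G :=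
    { carrier := {g | g • (0 : ZMod N) ∈ L}
      one_mem' := by simp
      mul_mem' := by
        intro g g' hg hg'
        have h2 : g • g' • (0 : ZMod N) - g • (0 : ZMod N) ∈ L := by
          rw [eq_iff_iff.mp (hL.diff hζ g (g' • (0 : ZMod N)) 0), sub_zero]; exact hg'
        have := add_mem h2 hg
        rwa [sub_add_cancel, ← mul_smul] at this
      inv_mem' := by
        intro g hg
        have := eq_iff_iff.mp (hL.diff hζ g 0 (g⁻¹ • (0 : ZMod N)))
        rw [smul_inv_smul, sub_zero, zero_sub, neg_mem_iff] at this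
        exact this.mp hg }
  have hle : stabilizer G (0 : ZMod N) ≤ S := fun g hg => by
    show g • (0 : ZMod N) ∈ L
    rw [mem_stabilizer_iff.mp hg]
    exact L.zero_mem
  rcases hprim.le_iff.mp hle with h | h
  · right
    rw [eq_top_iff]
    intro x _
    obtain ⟨t, ht⟩ := exists_translation hζ x
    have : t ∈ S := h ▸ Subgroup.mem_top t
    simpa [ht] using (show t • (0 : ZMod N) ∈ L from this)
  · left
    rw [eq_bot_iff]
    intro x hx
    obtain ⟨t, ht⟩ := exists_translation hζ x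
    have : t ∈ S := by show t • (0 : ZMod N) ∈ L; rw [ht, zero_add]; exact hx
    rw [h, mem_stabilizer_iff, ht, zero_add] at this
    exact this

variable {p a : ℕ} [hp : Fact p.Prime] (hN : N = p ^ a) (ha : 2 ≤ a)
include hN ha

omit hζ [NeZero N] ha in
theorem isUnit_natCast {t : ℕ} (ht : ¬ p ∣ t) : IsUnit (t : ZMod N) := by
  rw [ZMod.isUnit_iff_coprime, hN]
  exact ((hp.out.coprime_iff_not_dvd.mpr ht).pow_left a).symm

omit ha in
theorem inv_image_mul {t : ℕ} (ht : ¬ p ∣ t) : ∀ {S : Set (ZMod N)}, Inv G (fun x => x ∈ S) →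
    Inv G (fun x => x ∈ ((t : ZMod N) * ·) '' S) := by
  induction t using Nat.recOnMul with
  | zero => exact absurd (dvd_zero p) ht
  | one => intro S hS; simpa using hS
  | prime ℓ hℓ => intro S hS; exact inv_image_mul_prime hζ hS hℓ (isUnit_natCast hN ht)
  | mul c d hc hd =>
    intro S hS
    have := hc (fun h => ht (h.mul_right d)) (hd (fun h => ht (h.mul_left c)) hS)
    rw [← Set.image_comp] at this
    simpa [Function.comp_def, mul_assoc] using this

omit ha in
/-- The multiplier theorem. -/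
theorem image_orb {t : ℕ} (ht : ¬ p ∣ t) (x : ZMod N) :
    ((t : ZMod N) * ·) '' Orb G x = Orb G ((t : ZMod N) * x) := by
  obtain ⟨u, hu⟩ := isUnit_natCast hN ht
  set t' : ℕ := ((u⁻¹ : (ZMod N)ˣ) : ZMod N).val with ht'
  have hcast : (t' : ZMod N) = ((u⁻¹ : (ZMod N)ˣ) : ZMod N) := ZMod.natCast_zmod_val _
  have hmul : (t' : ZMod N) * (t : ZMod N) = 1 := by rw [hcast, ← hu, Units.inv_mul]
  have sub : ∀ {c : ℕ}, ¬ p ∣ c → ∀ y : ZMod N,
      Orb G ((c : ZMod N) * y) ⊆ ((c : ZMod N) * ·) '' Orb G y := fun hc y =>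
    orb_subset (inv_image_mul hζ hN hc (inv_orb y)) ⟨y, mem_orb_self y, rfl⟩
  refine Set.Subset.antisymm ?_ (sub ht x)
  by_cases ha0 : a = 0
  · subst ha0
    subst hN
    intro z _
    haveI : Subsingleton (ZMod (p ^ 0)) := by rw [pow_zero]; infer_instance
    rw [Subsingleton.elim z ((t : ZMod (p ^ 0)) * x)]
    exact mem_orb_self _
  have ht'p : ¬ p ∣ t' := by
    intro hd
    have h1 : IsUnit (t' : ZMod N) := hcast ▸ Units.isUnit _
    rw [ZMod.isUnit_iff_coprime, hN] at h1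
    exact hp.out.not_dvd_one (h1.gcd_eq_one ▸ Nat.dvd_gcd hd (dvd_pow_self p ha0))
  rintro _ ⟨z, hz, rfl⟩
  have h1 : z ∈ Orb G ((t' : ZMod N) * ((t : ZMod N) * x)) := by rwa [← mul_assoc, hmul, one_mul]
  obtain ⟨w, hw, rfl⟩ := sub ht'p _ h1
  show (t : ZMod N) * ((t' : ZMod N) * w) ∈ _
  rwa [← mul_assoc, mul_comm (t : ZMod N) (t' : ZMod N), hmul, one_mul]

omit hζ in
theorem mul_eq_zero_iff {x : ZMod N} :
    (p : ZMod N) * x = 0 ↔ x ∈ AddSubgroup.zmultiples ((p ^ (a - 1) : ℕ) : ZMod N) := by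
  have hpa : p * p ^ (a - 1) = p ^ a := by rw [← pow_succ']; congr 1; omega
  constructor
  · intro hx
    have h1 : ((p * x.val : ℕ) : ZMod N) = 0 := by push_cast; rwa [ZMod.natCast_zmod_val]
    rw [ZMod.natCast_eq_zero_iff] at h1
    replace h1 : p * p ^ (a - 1) ∣ p * x.val := hpa ▸ (hN ▸ dvd_rfl : p ^ a ∣ N).trans h1
    obtain ⟨k, hk⟩ := Nat.dvd_of_mul_dvd_mul_left hp.out.pos h1
    refine ⟨(k : ℤ), ?_⟩
    rw [← ZMod.natCast_zmod_val x, hk]
    push_cast
    rw [natCast_zsmul, nsmul_eq_mul, mul_comm]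
  · rintro ⟨k, rfl⟩
    rw [mul_smul_comm, ← Nat.cast_mul, hpa, ← hN, ZMod.natCast_self, smul_zero]

omit hζ in
theorem card_socle : ({x : ZMod N | (p : ZMod N) * x = 0}.ncard) = p := by
  have : {x : ZMod N | (p : ZMod N) * x = 0} =
      (AddSubgroup.zmultiples ((p ^ (a - 1) : ℕ) : ZMod N) : Set (ZMod N)) :=
    Set.ext fun x => mul_eq_zero_iff hN ha
  rw [this, ← Nat.card_coe_set_eq, SetLike.coe_sort_coe, Nat.card_zmultiples, ZMod.addOrderOf_coe _
    (NeZero.ne N), hN, Nat.gcd_eq_right (pow_dvd_pow p (Nat.sub_le a 1)),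
    Nat.pow_div (Nat.sub_le a 1) hp.out.pos, show a - (a - 1) = 1 by omega, pow_one]

omit hζ hp hN [NeZero N] in
/-- The socle lies in the multiples of `p`. -/
theorem low_of_socle {u : ZMod N} (hu : (p : ZMod N) * u = 0) :
    ((p ^ (a - 1) : ℕ) : ZMod N) * u = 0 := by
  obtain ⟨b, hb⟩ : ∃ b, a - 1 = b + 1 := ⟨a - 2, by omega⟩
  rw [hb, pow_succ]
  push_cast
  rw [mul_assoc, hu, mul_zero]

omit [NeZero N] in
/-- An orbit meeting the multiples of `p` contains full socle cosets outside the socle. -/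
theorem orb_stable [NeZero N] (hprim : IsCoatom (stabilizer G (0 : ZMod N))) {i : ZMod N}
    (hi : ((p ^ (a - 1) : ℕ) : ZMod N) * i = 0) {y : ZMod N} (hy : y ∈ Orb G i)
    (hpy : (p : ZMod N) * y ≠ 0) {u : ZMod N} (hu : (p : ZMod N) * u = 0) :
    y + u ∈ Orb G i := by
  set O := Orb G i with hO
  set c : ZMod N := ((p ^ (a - 1) : ℕ) : ZMod N) with hc
  have hpa : p * p ^ (a - 1) = p ^ a := by rw [← pow_succ']; congr 1; omega
  have hpc : (p : ZMod N) * c = 0 := by rw [hc, ← Nat.cast_mul, hpa, ← hN, ZMod.natCast_self]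
  -- the multipliers fix the orbit
  have hmult : ∀ z ∈ O, ∀ k : ℕ, z + k * (c * z) ∈ O := by
    intro z hz k
    have ht : ¬ p ∣ 1 + k * p ^ (a - 1) := by
      intro hd
      rw [← Nat.dvd_add_iff_left (Dvd.dvd.mul_left (dvd_pow_self p (by omega)) k)] at hd
      exact hp.out.not_dvd_one hd
    have h1 : ((1 + k * p ^ (a - 1) : ℕ) : ZMod N) * i = i := by
      push_cast
      rw [add_mul, one_mul, mul_assoc, ← Nat.cast_pow, ← hc, hi, mul_zero, add_zero]
    have h2 : ((1 + k * p ^ (a - 1) : ℕ) : ZMod N) * z ∈ O := by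
      rw [hO, ← h1, ← image_orb hζ hN ht i]
      exact ⟨z, hz, rfl⟩
    push_cast at h2
    rwa [add_mul, one_mul, mul_assoc, ← Nat.cast_pow, ← hc] at h2
  have hhigh : ∀ z ∈ O, c * z ≠ 0 → ∀ v : ZMod N, (p : ZMod N) * v = 0 → z + v ∈ O := by
    intro z hz hne v hv
    obtain ⟨k, hk⟩ : ∃ k : ℕ, k • (c * z) = v := by
      have hord : addOrderOf (c * z) = p := by
        refine addOrderOf_eq_prime ?_ hne
        rw [nsmul_eq_mul, ← mul_assoc, hpc, zero_mul]
      have hsub : (AddSubgroup.zmultiples (c * z) : Set (ZMod N)) =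
          {x : ZMod N | (p : ZMod N) * x = 0} := by
        refine Set.eq_of_subset_of_ncard_le ?_ ?_
        · rintro _ ⟨k, rfl⟩
          show (p : ZMod N) * (k • (c * z)) = 0
          rw [mul_smul_comm, ← mul_assoc, hpc, zero_mul, smul_zero]
        · rw [card_socle hN ha, ← Nat.card_coe_set_eq, SetLike.coe_sort_coe, Nat.card_zmultiples, hord]
      have hmem : v ∈ AddSubgroup.zmultiples (c * z) := by
        rw [← SetLike.mem_coe, hsub]; exact hv
      exact mem_multiples_iff_mem_zmultiples.mpr hmem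
    rw [← hk, nsmul_eq_mul]
    exact hmult z hz k
  by_cases hcy : c * y = 0
  swap
  · exact hhigh y hy hcy u hu
  set j := (p : ZMod N) * y with hj
  have hj0 : (({x : ZMod N | x ∈ O ∧ (p : ZMod N) * x = j}.ncard : ℕ) : ZMod p) = 0 := by
    by_contra hne
    set L := (AddMonoidHom.mulLeft ((p ^ (a - 2) : ℕ) : ZMod N)).ker with hL
    have hsub : Orb G j ⊆ (L : Set (ZMod N)) := by
      rintro _ ⟨h, h0, rfl⟩
      have h1 : (({x : ZMod N | x ∈ O ∧ (p : ZMod N) * x = h • j}.ncard : ℕ) : ZMod p) ≠ 0 :=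
        fun he => hne ((inv_count_mul hζ (inv_orb i) p h h0 j).symm.trans he)
      by_cases hex : ∃ x ∈ O, (p : ZMod N) * x = h • j ∧ c * x = 0
      · obtain ⟨x, -, hx, hcx⟩ := hex
        show ((p ^ (a - 2) : ℕ) : ZMod N) * (h • j) = 0
        rw [← hx, ← mul_assoc, ← Nat.cast_mul, ← pow_succ, show a - 2 + 1 = a - 1 by omega]
        exact hcx
      · exfalso
        apply h1
        by_cases hex2 : ∃ x ∈ O, (p : ZMod N) * x = h • j
        · obtain ⟨x, hxO, hx⟩ := hex2
          have : {z : ZMod N | z ∈ O ∧ (p : ZMod N) * z = h • j} =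
              (x + ·) '' {v : ZMod N | (p : ZMod N) * v = 0} := by
            ext z
            constructor
            · rintro ⟨-, hz⟩
              exact ⟨z - x, by show _ = _; rw [mul_sub, hz, hx, sub_self], add_sub_cancel x z⟩
            · rintro ⟨v, hv, rfl⟩
              exact ⟨hhigh x hxO (fun he => hex ⟨x, hxO, hx, he⟩) v hv,
                by rw [mul_add, hx, hv, add_zero]⟩
          rw [this, Set.ncard_image_of_injective _ (add_right_injective x), card_socle hN ha]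
          exact ZMod.natCast_self p
        · rw [show {z : ZMod N | z ∈ O ∧ (p : ZMod N) * z = h • j} = ∅ from
            Set.eq_empty_iff_forall_notMem.mpr fun z hz => hex2 ⟨z, hz.1, hz.2⟩]
          simp
    have hle : AddSubgroup.closure (Orb G j) ≤ L := (AddSubgroup.closure_le _).mpr hsub
    rcases eq_bot_or_top hζ hprim ((inv_orb j).closure hζ) with h | h
    · have := AddSubgroup.subset_closure (mem_orb_self (G := G) j)
      rw [SetLike.mem_coe, h, AddSubgroup.mem_bot] at this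
      exact hpy this
    · have h1 : (1 : ZMod N) ∈ L := hle (h ▸ AddSubgroup.mem_top _)
      rw [hL, AddMonoidHom.mem_ker, AddMonoidHom.coe_mulLeft, mul_one,
        ZMod.natCast_eq_zero_iff, hN, Nat.pow_dvd_pow_iff_le_right hp.out.one_lt] at h1
      omega
  rw [ZMod.natCast_eq_zero_iff] at hj0
  have hsub : {x : ZMod N | x ∈ O ∧ (p : ZMod N) * x = j} ⊆
      (y + ·) '' {v : ZMod N | (p : ZMod N) * v = 0} := by
    rintro x ⟨-, hx⟩
    exact ⟨x - y, by show _ = _; rw [mul_sub, hx, ← hj, sub_self], add_sub_cancel y x⟩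
  have hpos : 0 < {x : ZMod N | x ∈ O ∧ (p : ZMod N) * x = j}.ncard :=
    (Set.ncard_pos (Set.toFinite _)).mpr ⟨y, hy, rfl⟩
  have heq := Set.eq_of_subset_of_ncard_le hsub (by
    rw [Set.ncard_image_of_injective _ (add_right_injective y), card_socle hN ha]
    exact Nat.le_of_dvd hpos hj0)
  have : y + u ∈ (y + ·) '' {v : ZMod N | (p : ZMod N) * v = 0} := ⟨u, hu, rfl⟩
  rw [← heq] at this
  exact this.1

/-- Schur: such a primitive group is doubly transitive. -/
theorem stabilizer_transitive (hprim : IsCoatom (stabilizer G (0 : ZMod N))) {x y : ZMod N}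
    (hx : x ≠ 0) (hy : y ≠ 0) : y ∈ Orb G x := by
  classical
  set U : Set (ZMod N) := {v | (p : ZMod N) * v = 0} with hU
  have stable : ∀ {u : ZMod N}, u ∈ U → ∀ z ∈ Orb G u, z ∉ U → ∀ v ∈ U, z + v ∈ Orb G u :=
    fun hu z hz hzU v hv => orb_stable hζ hN ha hprim (low_of_socle ha hu) hz hzU hv
  -- every orbit meets the socle
  set S : Set (ZMod N) := {z | z = 0 ∨ ∃ u ∈ U, u ≠ 0 ∧ z ∈ Orb G u} with hS
  have hSinv : Inv G (fun z => z ∈ S) := by
    intro h h0 z
    refine propext (or_congr ?_ (exists_congr fun u => and_congr_right' (and_congr_right' ?_)))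
    · exact ⟨fun e => MulAction.injective h (e.trans h0.symm), fun e => by rw [e, h0]⟩
    · exact (inv_orb u).mem_iff h0 z
  have hSU : ∀ z ∈ S, ∀ v ∈ U, z + v ∈ S := by
    intro z hz v hv
    by_cases hzU : z ∈ U
    · by_cases h0 : z + v = 0
      · exact Or.inl h0
      · exact Or.inr ⟨z + v, by show _ = _; rw [mul_add, hzU, hv, add_zero], h0, mem_orb_self _⟩
    · rcases hz with rfl | ⟨u, hu, hu0, hzu⟩
      · exact absurd (mul_zero _) hzU
      · exact Or.inr ⟨u, hu, hu0, stable hu z hzu hzU v hv⟩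
  let M : AddSubmonoid (ZMod N) :=
    { carrier := {z | ∀ d ∈ S, z + d ∈ S}
      zero_mem' := fun d hd => by rwa [zero_add]
      add_mem' := fun {z w} hz hw d hd => by rw [add_assoc]; exact hz _ (hw d hd) }
  let L : AddSubgroup (ZMod N) :=
    { M with
      neg_mem' := fun {z} hz => by
        have h1 := AddSubmonoid.nsmul_mem M hz (N - 1)
        rwa [nsmul_eq_mul, Nat.cast_sub (NeZero.one_le), ZMod.natCast_self, Nat.cast_one, zero_sub,
          neg_one_mul] at h1 }
  have hLinv : Inv G (fun z => z ∈ L) := by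
    have key : ∀ z ∈ L, ∀ h : G, h • (0 : ZMod N) = 0 → h • z ∈ L := by
      intro z hz h h0 d hd
      have hneg : -(h⁻¹ • -d) ∈ S := by
        have h0' : h⁻¹ • (0 : ZMod N) = 0 := inv_smul_eq_iff.mpr h0.symm
        have := eq_iff_iff.mp (hSinv.diff hζ h⁻¹ 0 (-d))
        rw [h0', zero_sub, zero_sub, neg_neg] at this
        exact this.mpr hd
      have h1 : z - h⁻¹ • -d ∈ S := by rw [sub_eq_add_neg]; exact hz _ hneg
      rw [← hSinv.diff_mem hζ h, smul_inv_smul, sub_neg_eq_add] at h1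
      exact h1
    intro h h0 z
    refine propext ⟨fun hz => ?_, fun hz => key z hz h h0⟩
    have := key _ hz h⁻¹ (inv_smul_eq_iff.mpr h0.symm)
    rwa [inv_smul_smul] at this
  have hL : L = ⊤ := by
    rcases eq_bot_or_top hζ hprim hLinv with h | h
    · exfalso
      have hmem : ((p ^ (a - 1) : ℕ) : ZMod N) ∈ L := fun d hd => by
        rw [add_comm]
        exact hSU d hd _ ((mul_eq_zero_iff hN ha).mpr (AddSubgroup.mem_zmultiples _))
      rw [h, AddSubgroup.mem_bot, ZMod.natCast_eq_zero_iff, hN,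
        Nat.pow_dvd_pow_iff_le_right hp.out.one_lt] at hmem
      omega
    · exact h
  have hmeet : ∀ z : ZMod N, z ≠ 0 → ∃ u ∈ U, u ≠ 0 ∧ z ∈ Orb G u := by
    intro z hz
    have : z ∈ L := hL ▸ AddSubgroup.mem_top z
    have h1 := this 0 (Or.inl rfl)
    rw [add_zero] at h1
    exact h1.resolve_left hz
  -- suffices: the socle is in one orbit
  suffices hone : ∀ u ∈ U, u ≠ 0 → ∀ v ∈ U, v ≠ 0 → v ∈ Orb G u by
    obtain ⟨u, hu, hu0, hxu⟩ := hmeet x hx
    obtain ⟨v, hv, hv0, hyv⟩ := hmeet y hy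
    rw [orb_eq hxu, ← orb_eq (hone u hu hu0 v hv hv0)]
    exact hyv
  intro u₀ hu₀ hu₀0 u₁ hu₁ hu₁0
  by_contra hne
  -- multipliers permute the orbits through the socle
  have hmul : ∀ u ∈ U, u ≠ 0 → ∀ v ∈ U, v ≠ 0 → ∃ t : ℕ, ¬ p ∣ t ∧ (t : ZMod N) * u = v := by
    intro u hu hu0 v hv hv0
    obtain ⟨k, hk⟩ : ∃ k : ℕ, k • u = v := by
      have hord : addOrderOf u = p := addOrderOf_eq_prime (by rw [nsmul_eq_mul]; exact hu) hu0
      have hsub : (AddSubgroup.zmultiples u : Set (ZMod N)) = U := by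
        refine Set.eq_of_subset_of_ncard_le ?_ ?_
        · rintro _ ⟨k, rfl⟩
          show (p : ZMod N) * (k • u) = 0
          rw [mul_smul_comm, hu, smul_zero]
        · rw [hU, card_socle hN ha, ← Nat.card_coe_set_eq, SetLike.coe_sort_coe,
            Nat.card_zmultiples, hord]
      have hmem : v ∈ AddSubgroup.zmultiples u := by rw [← SetLike.mem_coe, hsub]; exact hv
      exact mem_multiples_iff_mem_zmultiples.mpr hmem
    refine ⟨k, fun hd => ?_, by rw [← hk, nsmul_eq_mul]⟩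
    obtain ⟨l, rfl⟩ := hd
    rw [nsmul_eq_mul, Nat.cast_mul, mul_comm (p : ZMod N), mul_assoc, hu, mul_zero] at hk
    exact hv0 hk.symm
  have htU : ∀ {t : ℕ}, ¬ p ∣ t → ∀ z : ZMod N, (t : ZMod N) * z ∈ U ↔ z ∈ U := by
    intro t ht z
    show (p : ZMod N) * _ = 0 ↔ (p : ZMod N) * z = 0
    rw [mul_left_comm]
    exact (isUnit_natCast hN ht).mul_right_eq_zero
  have himage : ∀ {t : ℕ}, ¬ p ∣ t → ∀ u : ZMod N,
      ((t : ZMod N) * ·) '' (Orb G u ∩ U) = Orb G ((t : ZMod N) * u) ∩ U := by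
    intro t ht u
    rw [← image_orb hζ hN ht u]
    ext z
    constructor
    · rintro ⟨w, ⟨hw1, hw2⟩, rfl⟩
      exact ⟨⟨w, hw1, rfl⟩, (htU ht w).mpr hw2⟩
    · rintro ⟨⟨w, hw, rfl⟩, hz⟩
      exact ⟨w, ⟨hw, (htU ht w).mp hz⟩, rfl⟩
  have hs : ∀ u ∈ U, u ≠ 0 → (Orb G u ∩ U).ncard = (Orb G u₀ ∩ U).ncard := by
    intro u hu hu0
    obtain ⟨t, ht, rfl⟩ := hmul u₀ hu₀ hu₀0 u hu hu0
    rw [← himage ht, Set.ncard_image_of_injective]
    exact fun _ _ e => (isUnit_natCast hN ht).mul_left_cancel e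
  have hzero : ∀ u : ZMod N, u ≠ 0 → (0 : ZMod N) ∉ Orb G u := by
    rintro u hu ⟨h, h0, hh⟩
    exact hu (MulAction.injective h (hh.trans h0.symm))
  have h2s : 2 * (Orb G u₀ ∩ U).ncard < p := by
    have hd : Disjoint (Orb G u₀ ∩ U) (Orb G u₁ ∩ U) := Set.disjoint_left.mpr fun z h1 h2 =>
      hne (by rw [← orb_eq h1.1, orb_eq h2.1]; exact mem_orb_self _)
    have hlt : (Orb G u₀ ∩ U ∪ Orb G u₁ ∩ U).ncard < U.ncard := by
      refine Set.ncard_lt_ncard ⟨Set.union_subset Set.inter_subset_right Set.inter_subset_right, ?_⟩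
      intro h
      rcases h (show (0 : ZMod N) ∈ U from mul_zero _) with ⟨h1, -⟩ | ⟨h1, -⟩
      · exact hzero u₀ hu₀0 h1
      · exact hzero u₁ hu₁0 h1
    rw [Set.ncard_union_eq hd, hs u₁ hu₁ hu₁0, show U.ncard = p from card_socle hN ha] at hlt
    omega
  have h1U : (1 : ZMod N) ∉ U := by
    show (p : ZMod N) * 1 ≠ 0
    rw [mul_one, Ne, ZMod.natCast_eq_zero_iff, hN]
    intro hd
    rw [← pow_one p, ← pow_mul, one_mul, Nat.pow_dvd_pow_iff_le_right hp.out.one_lt] at hd
    omega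
  have h10 : (1 : ZMod N) ≠ 0 := fun h => h1U (by show (p : ZMod N) * 1 = 0; rw [h, mul_zero])
  obtain ⟨w, hw, hw0, h1w⟩ := hmeet 1 h10
  -- the part of an orbit outside the socle is stable under all translations
  set R : Set (ZMod N) := Orb G w \ U with hR
  have hRU : ∀ z ∈ R, ∀ v ∈ U, z + v ∈ R := fun z hz v hv =>
    ⟨stable hw z hz.1 hz.2 v hv, fun h => hz.2 (by
      show (p : ZMod N) * z = 0
      have h' : (p : ZMod N) * (z + v) = 0 := h
      rwa [mul_add, (hv : (p : ZMod N) * v = 0), add_zero] at h')⟩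
  have hsub : ∀ z : ZMod N, z ≠ 0 → ∀ r ∈ R, r - z ∈ R := by
    intro z hz r hr
    by_contra hout
    by_cases hzU : z ∈ U
    · exact hout (sub_eq_add_neg r z ▸ hRU r hr (-z)
        (show (p : ZMod N) * -z = 0 by rw [mul_neg, (hzU : (p : ZMod N) * z = 0), neg_zero]))
    obtain ⟨u, hu, hu0, hzu⟩ := hmeet z hz
    have hcount : {q : ZMod N | q ∈ Orb G w ∧ z - q ∈ {v | -v ∈ Orb G w}}.ncard =
        {q : ZMod N | q ∈ Orb G w ∧ u - q ∈ {v | -v ∈ Orb G w}}.ncard := by
      obtain ⟨h, h0, rfl⟩ := hzu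
      exact Inv.count hζ (inv_orb w) ((inv_orb w).neg hζ) h h0 u
    simp only [Set.mem_ofPred_eq, neg_sub] at hcount
    have hlow : R.ncard ≤ {q : ZMod N | q ∈ Orb G w ∧ q - u ∈ Orb G w}.ncard := by
      refine Set.ncard_le_ncard (fun q hq => ⟨hq.1, ?_⟩)
      rw [sub_eq_add_neg]
      exact (hRU q hq (-u) (show (p : ZMod N) * -u = 0 by
        rw [mul_neg, (hu : (p : ZMod N) * u = 0), neg_zero])).1
    have hcoset : (r + ·) '' U ⊆ R \ {q | q - z ∈ R} := by
      rintro _ ⟨v, hv, rfl⟩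
      refine ⟨hRU r hr v hv, fun h => hout ?_⟩
      have := hRU _ h (-v) (show (p : ZMod N) * -v = 0 by
        rw [mul_neg, (hv : (p : ZMod N) * v = 0), neg_zero])
      rwa [show r + v - z + -v = r - z by abel] at this
    have hc1 : (R ∩ {q | q - z ∈ R}).ncard + p ≤ R.ncard := by
      have h1 := Set.ncard_le_ncard hcoset
      rw [Set.ncard_image_of_injective _ (add_right_injective r), hU, card_socle hN ha] at h1
      have h2 := Set.ncard_inter_add_ncard_sdiff_eq_ncard R {q | q - z ∈ R} (Set.toFinite _)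
      omega
    have hup : {q : ZMod N | q ∈ Orb G w ∧ q - z ∈ Orb G w}.ncard ≤
        (R ∩ {q | q - z ∈ R}).ncard + (Orb G w ∩ U).ncard +
          ((· + z) '' (Orb G w ∩ U)).ncard := by
      refine le_trans (Set.ncard_le_ncard ?_) ((Set.ncard_union_le _ _).trans
        (Nat.add_le_add_right (Set.ncard_union_le _ _) _))
      rintro q ⟨hq1, hq2⟩
      by_cases hqU : q ∈ U
      · exact Or.inl (Or.inr ⟨hq1, hqU⟩)
      by_cases hqz : q - z ∈ U
      · exact Or.inr ⟨q - z, ⟨hq2, hqz⟩, sub_add_cancel q z⟩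
      · exact Or.inl (Or.inl ⟨⟨hq1, hqU⟩, hq2, hqz⟩)
    rw [Set.ncard_image_of_injective _ (add_left_injective z), hs w hw hw0] at hup
    omega
  exact (hsub 1 h10 1 ⟨h1w, h1U⟩).2 (by show (p : ZMod N) * _ = 0; rw [sub_self, mul_zero])

end

end Cfsg.Agent.H79.CyclicRegular
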