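import Mathlib
set_option linter.style.haveILetI false

/-!
Rational operators commuting with a fixed-point-free operator of order 11 on a 10-dimensional space.
-/

namespace Cfsg.Agent.H79.Deg22

open Module Polynomial

variable {W : Type*} [AddCommGroup W] [Module ℚ W]

/-- The algebra map out of `ℚ[X]/(p)` determined by a root in endomorphisms. -/
noncomputable def liftEnd (f : End ℚ W) (p : ℚ[X]) (h : aeval f p = 0) :
    AdjoinRoot p →ₐ[ℚ] End ℚ W :=
  let φ : AdjoinRoot p →+* End ℚ W :=
    Ideal.Quotient.lift (Ideal.span {p}) (aeval f).toRingHom (fun g hg => by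
      obtain ⟨k, rfl⟩ := Ideal.mem_span_singleton.1 hg
      simp [h])
  { φ with
    commutes' := fun r => by
      show φ (AdjoinRoot.mk p (C r)) = _
      exact (aeval_C f r) }

theorem liftEnd_mk (f : End ℚ W) (p : ℚ[X]) (h : aeval f p = 0) (g : ℚ[X]) :
    liftEnd f p h (AdjoinRoot.mk p g) = aeval f g := rfl

theorem natDegree_dvd_finrank [FiniteDimensional ℚ W] (f : End ℚ W) {p : ℚ[X]} (hp : Irreducible p)
    (h : aeval f p = 0) : p.natDegree ∣ finrank ℚ W := by
  haveI : Fact (Irreducible p) := ⟨hp⟩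
  letI : Module (AdjoinRoot p) W := Module.compHom W (liftEnd f p h).toRingHom
  haveI : IsScalarTower ℚ (AdjoinRoot p) W := by
    refine ⟨fun r a v => ?_⟩
    show liftEnd f p h (r • a) v = r • liftEnd f p h a v
    rw [map_smul, LinearMap.smul_apply]
  haveI : Module.Free (AdjoinRoot p) W := Module.Free.of_divisionRing _ _
  have h1 := Module.finrank_mul_finrank ℚ (AdjoinRoot p) W
  rw [(AdjoinRoot.powerBasis hp.ne_zero).finrank, AdjoinRoot.powerBasis_dim] at h1
  exact ⟨_, h1.symm⟩

theorem restrict_pow_apply {f : End ℚ W} {S : Submodule ℚ W} (h : ∀ v ∈ S, f v ∈ S) (n : ℕ) (v : S) :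
    (((f.restrict h) ^ n) v : W) = (f ^ n) (v : W) := by
  induction n with
  | zero => rfl
  | succ k ih => simp only [pow_succ', Module.End.mul_apply, LinearMap.coe_restrict_apply, ih]

theorem cyclotomic_aeval (x : End ℚ W) (hx : x ^ 11 = 1) (hfix : ∀ v, x v = v → v = 0) :
    aeval x (cyclotomic 11 ℚ) = 0 := by
  haveI : Fact (Nat.Prime 11) := ⟨by norm_num⟩
  have h1 : (x - 1) * aeval x (cyclotomic 11 ℚ) = 0 := by
    have h := congrArg (aeval x) (cyclotomic_prime_mul_X_sub_one ℚ 11)
    rw [mul_comm (cyclotomic 11 ℚ)] at h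
    simpa [hx] using h
  ext v
  apply hfix
  have h2 := LinearMap.congr_fun h1 v
  rw [Module.End.mul_apply, LinearMap.sub_apply, Module.End.one_apply, LinearMap.zero_apply,
    sub_eq_zero] at h2
  exact h2

theorem irreducible_cyclotomic11 : Irreducible (cyclotomic 11 ℚ) :=
  cyclotomic.irreducible_rat (by norm_num)

theorem natDegree_cyclotomic11 : (cyclotomic 11 ℚ).natDegree = 10 := by
  rw [natDegree_cyclotomic, Nat.totient_prime (by norm_num : Nat.Prime 11)]

theorem ten_dvd [FiniteDimensional ℚ W] (x : End ℚ W) (hx : x ^ 11 = 1) (hfix : ∀ v, x v = v → v = 0) :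
    10 ∣ finrank ℚ W :=
  natDegree_cyclotomic11 ▸ natDegree_dvd_finrank x irreducible_cyclotomic11 (cyclotomic_aeval x hx hfix)

/-- A fixed-point-free invariant subspace has dimension divisible by 10. -/
theorem ten_dvd_subspace [FiniteDimensional ℚ W] (x : End ℚ W) (hx : x ^ 11 = 1) (S : Submodule ℚ W)
    (hS : ∀ v ∈ S, x v ∈ S) (hfix : ∀ v ∈ S, x v = v → v = 0) : 10 ∣ finrank ℚ S := by
  refine ten_dvd (x.restrict hS) ?_ fun v hv => ?_
  · ext v
    rw [restrict_pow_apply, hx]
    rfl
  · exact Subtype.ext (hfix v v.2 (congrArg Subtype.val hv))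

section Ten

variable [FiniteDimensional ℚ W] (x : End ℚ W) (hx : x ^ 11 = 1) (hfix : ∀ v, x v = v → v = 0)
  (hdim : finrank ℚ W = 10)

include hx hfix hdim

theorem invariant_cases (S : Submodule ℚ W) (hS : ∀ v ∈ S, x v ∈ S) : S = ⊥ ∨ S = ⊤ := by
  have h := ten_dvd_subspace x hx S hS (fun v _ => hfix v)
  have hle := S.finrank_le
  rcases eq_or_ne (finrank ℚ S) 0 with h0 | h0
  · exact Or.inl (Submodule.finrank_eq_zero.1 h0)
  · exact Or.inr (Submodule.eq_top_of_finrank_eq (by obtain ⟨k, hk⟩ := h; omega))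

theorem comm_injective {y : End ℚ W} (hy : Commute y x) (h0 : y ≠ 0) : Function.Injective y := by
  rcases invariant_cases x hx hfix hdim (LinearMap.ker y) (fun v hv => by
    rw [LinearMap.mem_ker] at hv ⊢
    rw [← Module.End.mul_apply, hy.eq, Module.End.mul_apply, hv, map_zero]) with h | h
  · exact LinearMap.ker_eq_bot.1 h
  · exact absurd (LinearMap.ker_eq_top.1 h) h0

theorem exists_poly {y : End ℚ W} (hy : Commute y x) : ∃ g : ℚ[X], y = aeval x g := by
  haveI : Nontrivial W := Module.nontrivial_of_finrank_pos (R := ℚ) (by omega)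
  obtain ⟨u, hu⟩ := exists_ne (0 : W)
  let ev : ℚ[X] →ₗ[ℚ] W := (LinearMap.applyₗ u).comp (aeval x).toLinearMap
  have hev : ∀ g, ev g = aeval x g u := fun _ => rfl
  rcases invariant_cases x hx hfix hdim (LinearMap.range ev) (fun v hv => by
    obtain ⟨g, rfl⟩ := hv
    refine ⟨X * g, ?_⟩
    rw [hev, hev, map_mul, aeval_X, Module.End.mul_apply]) with h | h
  · exfalso
    apply hu
    have h1 : ev 1 ∈ LinearMap.range ev := ⟨1, rfl⟩
    rw [h, Submodule.mem_bot, hev, map_one, Module.End.one_apply] at h1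
    exact h1
  · obtain ⟨g, hg⟩ := LinearMap.range_eq_top.1 h (y u)
    refine ⟨g, sub_eq_zero.1 ?_⟩
    by_contra hne
    have hinj := comm_injective x hx hfix hdim (hy.sub_left
      (Algebra.commute_of_mem_adjoin_self (aeval_mem_adjoin_singleton ℚ x)).symm) hne
    apply hu
    apply hinj
    rw [map_zero, LinearMap.sub_apply, ← hev, hg, sub_self]

/-- A symmetric operator commuting with `x` has minimal polynomial of degree 1 or 5. -/
theorem sym_minpoly (B : W →ₗ[ℚ] W →ₗ[ℚ] ℚ) (hdef : ∀ v, B v v = 0 → v = 0)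
    (hBx : ∀ a b, B (x a) b = B a ((x ^ 10) b))
    {y : End ℚ W} (hy : Commute y x) (hsym : ∀ a b, B (y a) b = B a (y b)) :
    Irreducible (minpoly ℚ y) ∧ ((minpoly ℚ y).natDegree = 1 ∨ (minpoly ℚ y).natDegree = 5) := by
  haveI : Fact (Irreducible (cyclotomic 11 ℚ)) := ⟨irreducible_cyclotomic11⟩
  haveI : Nontrivial W := Module.nontrivial_of_finrank_pos (R := ℚ) (by omega)
  obtain ⟨g, hg⟩ := exists_poly x hx hfix hdim hy
  set ψ := liftEnd x (cyclotomic 11 ℚ) (cyclotomic_aeval x hx hfix) with hψ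
  have hψinj : Function.Injective ψ := ψ.toRingHom.injective
  set u := AdjoinRoot.root (cyclotomic 11 ℚ) with hu
  have hψu : ψ u = x := by
    rw [hu, ← AdjoinRoot.mk_X, hψ, liftEnd_mk, aeval_X]
  have hu11 : u * u ^ 10 = 1 := by
    apply hψinj
    rw [← pow_succ', map_pow, hψu, hx, map_one]
  set v := u ^ 10 with hv
  set γ := u + v with hγ
  have hψg : ψ (aeval u g) = y := by rw [← aeval_algHom_apply, hψu, hg]
  have hψv : ψ (aeval v g) = aeval (x ^ 10) g := by
    rw [← aeval_algHom_apply, hv, map_pow, hψu]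
  have hadj : ∀ (g : ℚ[X]) (a b : W), B (aeval x g a) b = B a (aeval (x ^ 10) g b) := by
    intro g
    induction g using Polynomial.induction_on with
    | C r => intro a b; simp [aeval_C, Module.algebraMap_end_apply]
    | add f h hf hh => intro a b; simp [hf, hh]
    | monomial n r ih =>
      intro a b
      have e1 : aeval x (C r * X ^ (n + 1)) = x * aeval x (C r * X ^ n) := by
        simp only [map_mul, aeval_C, map_pow, aeval_X, pow_succ']
        rw [← mul_assoc, Algebra.commutes, mul_assoc]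
      have e2 : aeval (x ^ 10) (C r * X ^ (n + 1)) = aeval (x ^ 10) (C r * X ^ n) * x ^ 10 := by
        rw [pow_succ (X : ℚ[X]), ← mul_assoc, map_mul, aeval_X]
      rw [e1, e2, Module.End.mul_apply, hBx, ih, Module.End.mul_apply]
  have hsame : aeval u g = aeval v g := by
    apply hψinj
    rw [hψg, hψv]
    refine LinearMap.ext fun b => sub_eq_zero.1 (hdef _ ?_)
    have key : ∀ a, B a (y b - aeval (x ^ 10) g b) = 0 := by
      intro a
      rw [map_sub, ← hsym, hg, hadj, sub_self]
    exact key _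
  set K := IntermediateField.adjoin ℚ ({γ} : Set (AdjoinRoot (cyclotomic 11 ℚ))) with hK
  have hγK : γ ∈ K := IntermediateField.subset_adjoin ℚ _ rfl
  have hpow : ∀ n : ℕ, u ^ n + v ^ n ∈ K ∧ u ^ (n + 1) + v ^ (n + 1) ∈ K := by
    intro n
    induction n with
    | zero => exact ⟨by simpa using K.add_mem K.one_mem K.one_mem, by simpa using hγK⟩
    | succ m ih =>
      refine ⟨ih.2, ?_⟩
      have e : u ^ (m + 2) + v ^ (m + 2) = γ * (u ^ (m + 1) + v ^ (m + 1)) - (u ^ m + v ^ m) := by
        rw [hγ]; linear_combination (-(u ^ m + v ^ m)) * hu11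
      rw [e]
      exact K.sub_mem (K.mul_mem hγK ih.2) ih.1
  have hsum : ∀ g : ℚ[X], aeval u g + aeval v g ∈ K := by
    intro g
    induction g using Polynomial.induction_on' with
    | add f h hf hh =>
      have e : aeval u (f + h) + aeval v (f + h) =
          (aeval u f + aeval v f) + (aeval u h + aeval v h) := by simp only [map_add]; ring
      rw [e]; exact K.add_mem hf hh
    | monomial n r =>
      rw [aeval_monomial, aeval_monomial, ← mul_add]
      exact K.mul_mem (K.algebraMap_mem r) (hpow n).1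
  have hθ : aeval u g ∈ K := by
    have h2 := hsum g
    rw [← hsame, ← two_mul] at h2
    have h3 := K.mul_mem (K.inv_mem (K.algebraMap_mem (2 : ℚ))) h2
    rwa [map_ofNat, ← mul_assoc, inv_mul_cancel₀ two_ne_zero, one_mul] at h3
  have hint : IsIntegral ℚ γ := Algebra.IsIntegral.isIntegral γ
  have hq : aeval γ (X ^ 5 + X ^ 4 - 4 * X ^ 3 - 3 * X ^ 2 + 3 * X + 1 : ℚ[X]) = 0 := by
    have hsum0 : ∑ i ∈ Finset.range 11, u ^ i = 0 := by
      haveI : Fact (Nat.Prime 11) := ⟨by norm_num⟩
      have h : aeval u (cyclotomic 11 ℚ) = 0 := by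
        apply hψinj
        rw [← aeval_algHom_apply, hψu, cyclotomic_aeval x hx hfix, map_zero]
      have e := congrArg (aeval u) (cyclotomic_prime ℚ 11)
      rw [h] at e
      simpa using e.symm
    simp only [Finset.sum_range_succ, Finset.sum_range_zero] at hsum0
    have e : u * γ = u ^ 2 + 1 := by rw [hγ, mul_add, hu11]; ring
    have h5 : u ^ 5 * aeval γ (X ^ 5 + X ^ 4 - 4 * X ^ 3 - 3 * X ^ 2 + 3 * X + 1 : ℚ[X]) = 0 := by
      simp only [map_add, map_sub, map_mul, map_pow, aeval_X, map_ofNat, map_one]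
      calc u ^ 5 * (γ ^ 5 + γ ^ 4 - 4 * γ ^ 3 - 3 * γ ^ 2 + 3 * γ + 1)
          = (u * γ) ^ 5 + u * (u * γ) ^ 4 - 4 * (u ^ 2 * (u * γ) ^ 3) - 3 * (u ^ 3 * (u * γ) ^ 2)
            + 3 * (u ^ 4 * (u * γ)) + u ^ 5 := by ring
        _ = 0 := by rw [e]; linear_combination hsum0
    refine (mul_eq_zero.1 h5).resolve_left (pow_ne_zero _ ?_)
    intro h0
    rw [h0, zero_mul] at hu11
    exact zero_ne_one hu11
  have hle : (minpoly ℚ γ).natDegree ≤ 5 := by
    have hdeg : (X ^ 5 + X ^ 4 - 4 * X ^ 3 - 3 * X ^ 2 + 3 * X + 1 : ℚ[X]).natDegree = 5 := by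
      compute_degree!
    have hne : (X ^ 5 + X ^ 4 - 4 * X ^ 3 - 3 * X ^ 2 + 3 * X + 1 : ℚ[X]) ≠ 0 := by
      intro h; rw [h, natDegree_zero] at hdeg; norm_num at hdeg
    exact hdeg ▸ natDegree_le_of_dvd (minpoly.dvd ℚ γ hq) hne
  have hge : 5 ≤ (minpoly ℚ γ).natDegree := by
    set p := minpoly ℚ γ with hp
    set d := p.natDegree with hd
    set G : ℚ[X] := ∑ i ∈ Finset.range (d + 1), C (p.coeff i) * X ^ (d - i) * (X ^ 2 + 1) ^ i with hG
    have hG0 : G.coeff 0 = 1 := by
      have h0 : G.eval 0 = 1 := by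
        rw [hG, eval_finset_sum, Finset.sum_eq_single d]
        · simp [hd, (minpoly.monic hint).coeff_natDegree, hp]
        · intro i hi hne
          have : d - i ≠ 0 := by rw [Finset.mem_range] at hi; omega
          simp [zero_pow this]
        · intro h; exact absurd (Finset.self_mem_range_succ d) h
      rwa [coeff_zero_eq_eval_zero]
    have hGne : G ≠ 0 := fun h => by rw [h, coeff_zero] at hG0; exact zero_ne_one hG0
    have hGdeg : G.natDegree ≤ 2 * d := by
      refine natDegree_sum_le_of_forall_le _ _ fun i hi => ?_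
      rw [Finset.mem_range] at hi
      refine natDegree_mul_le.trans ?_
      have a1 : (C (p.coeff i) * X ^ (d - i)).natDegree ≤ d - i := natDegree_C_mul_X_pow_le _ _
      have a2 : (((X : ℚ[X]) ^ 2 + 1) ^ i).natDegree ≤ i * 2 := by
        refine natDegree_pow_le.trans (Nat.mul_le_mul_left i ?_)
        compute_degree!
      omega
    have hGu : aeval u G = 0 := by
      have e : u * γ = u ^ 2 + 1 := by rw [hγ, mul_add, hu11]; ring
      calc aeval u G = ∑ i ∈ Finset.range (d + 1),
            algebraMap ℚ _ (p.coeff i) * u ^ (d - i) * (u * γ) ^ i := by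
            rw [hG, map_sum]
            refine Finset.sum_congr rfl fun i _ => ?_
            simp [e]
        _ = u ^ d * aeval γ p := by
            rw [aeval_eq_sum_range, Finset.mul_sum]
            refine Finset.sum_congr rfl fun i hi => ?_
            rw [Finset.mem_range] at hi
            have hd' : u ^ d = u ^ (d - i) * u ^ i := by
              rw [← pow_add, Nat.sub_add_cancel (Nat.lt_succ_iff.1 hi)]
            rw [Algebra.smul_def, mul_pow, hd']
            ring
        _ = 0 := by rw [hp, minpoly.aeval, mul_zero]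
    have hdvd : cyclotomic 11 ℚ ∣ G := by
      rw [← AdjoinRoot.mk_eq_zero, ← AdjoinRoot.aeval_eq]
      exact hGu
    have := natDegree_le_of_dvd hdvd hGne
    rw [natDegree_cyclotomic11] at this
    omega
  have hfin : finrank ℚ K = 5 := by
    rw [hK, IntermediateField.adjoin.finrank hint]; omega
  haveI : FiniteDimensional ℚ (AdjoinRoot (cyclotomic 11 ℚ)) :=
    (AdjoinRoot.powerBasis irreducible_cyclotomic11.ne_zero).finite
  have e1 : minpoly ℚ y = minpoly ℚ (aeval u g) := by
    rw [← hψg]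
    exact minpoly.algHom_eq ψ hψinj _
  have e2 : minpoly ℚ (aeval u g) = minpoly ℚ (⟨aeval u g, hθ⟩ : K) :=
    minpoly.algHom_eq K.val K.val.toRingHom.injective ⟨aeval u g, hθ⟩
  refine ⟨?_, ?_⟩
  · rw [e1, e2]
    exact minpoly.irreducible (Algebra.IsIntegral.isIntegral _)
  · have hdvd : (minpoly ℚ y).natDegree ∣ 5 := by
      rw [e1, e2, ← hfin]
      exact minpoly.degree_dvd (Algebra.IsIntegral.isIntegral _)
    exact (Nat.dvd_prime (by norm_num)).1 hdvd

end Ten

/-- An involution commuting with an operator with irreducible quintic minimal polynomial on a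
10-dimensional space has determinant `-1` unless it is `±1`. -/
theorem involution_det [FiniteDimensional ℚ W] (hdim : finrank ℚ W = 10) {t τ : End ℚ W}
    (hirr : Irreducible (minpoly ℚ t)) (hdeg : (minpoly ℚ t).natDegree = 5)
    (hcomm : Commute τ t) (hτ : τ * τ = 1) (hdet : LinearMap.det τ = 1) : τ = 1 ∨ τ = -1 := by
  set P := LinearMap.ker (τ - 1) with hP
  set M := LinearMap.ker (τ + 1) with hM
  have hτ' : ∀ v, τ (τ v) = v := fun v => LinearMap.congr_fun hτ v
  have hPm : ∀ v ∈ P, τ v = v := fun v hv => by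
    rw [hP, LinearMap.mem_ker, LinearMap.sub_apply, sub_eq_zero] at hv; exact hv
  have hMm : ∀ v ∈ M, τ v = -v := fun v hv => by
    rw [hM, LinearMap.mem_ker, LinearMap.add_apply, add_eq_zero_iff_eq_neg] at hv; exact hv
  have hPof : ∀ v, τ v = v → v ∈ P := fun v hv => by
    rw [hP, LinearMap.mem_ker, LinearMap.sub_apply, sub_eq_zero]; exact hv
  have hMof : ∀ v, τ v = -v → v ∈ M := fun v hv => by
    rw [hM, LinearMap.mem_ker, LinearMap.add_apply, add_eq_zero_iff_eq_neg]; exact hv
  have hc : ∀ v, τ (t v) = t (τ v) := fun v => LinearMap.congr_fun hcomm.eq v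
  have hdvd : ∀ S : Submodule ℚ W, (∀ v ∈ S, t v ∈ S) → 5 ∣ finrank ℚ S := by
    intro S hS
    rw [← hdeg]
    refine natDegree_dvd_finrank (t.restrict hS) hirr ?_
    have key : ∀ q : ℚ[X], ∀ v : S,
        ((aeval (t.restrict hS) q) v : W) = aeval t q (v : W) := by
      intro q
      induction q using Polynomial.induction_on' with
      | add f h hf hh => intro v; simp [hf v, hh v]
      | monomial n r =>
        intro v
        simp [aeval_monomial, Module.algebraMap_end_apply, restrict_pow_apply]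
    refine LinearMap.ext fun v => Subtype.ext ?_
    rw [key, minpoly.aeval]
    rfl
  have hcompl : IsCompl P M := by
    refine ⟨?_, ?_⟩
    · rw [Submodule.disjoint_def]
      intro v h1 h2
      have e := (hPm v h1).symm.trans (hMm v h2)
      have e' : (2 : ℚ) • v = 0 := by rw [two_smul]; nth_rewrite 1 [e]; rw [neg_add_cancel]
      exact (smul_eq_zero.1 e').resolve_left two_ne_zero
    · rw [codisjoint_iff, eq_top_iff]
      intro v _
      rw [Submodule.mem_sup]
      refine ⟨(1 / 2 : ℚ) • (v + τ v), P.smul_mem _ (hPof _ ?_), (1 / 2 : ℚ) • (v - τ v),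
        M.smul_mem _ (hMof _ ?_), ?_⟩
      · rw [map_add, hτ', add_comm]
      · rw [map_sub, hτ', neg_sub]
      · module
  obtain ⟨a, ha⟩ := hdvd P (fun v hv => hPof _ (by rw [hc, hPm v hv]))
  obtain ⟨b, hb⟩ := hdvd M (fun v hv => hMof _ (by rw [hc, hMm v hv, map_neg]))
  have hsum := Submodule.finrank_add_eq_of_isCompl hcompl
  rw [ha, hb, hdim] at hsum
  have hτeq : (Submodule.prodEquivOfIsCompl P M hcompl : (P × M) →ₗ[ℚ] W) ∘ₗ
      ((LinearMap.id : P →ₗ[ℚ] P).prodMap ((-1 : ℚ) • (LinearMap.id : M →ₗ[ℚ] M))) ∘ₗ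
      ((Submodule.prodEquivOfIsCompl P M hcompl).symm : W →ₗ[ℚ] (P × M)) = τ := by
    refine LinearMap.ext fun w => ?_
    obtain ⟨⟨p, m⟩, rfl⟩ := (Submodule.prodEquivOfIsCompl P M hcompl).surjective w
    simp [Submodule.coe_prodEquivOfIsCompl', hPm p p.2, hMm m m.2]
  have hdet' : LinearMap.det τ = (-1 : ℚ) ^ (5 * b) := by
    rw [← hτeq, LinearMap.det_conj, LinearMap.det_prodMap, LinearMap.det_id, LinearMap.det_smul,
      LinearMap.det_id, hb, one_mul, mul_one]
  rw [hdet] at hdet'
  rcases (by omega : b = 0 ∨ b = 1 ∨ b = 2) with rfl | rfl | rfl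
  · left
    have hP1 : P = ⊤ := Submodule.eq_top_of_finrank_eq (by omega)
    refine LinearMap.ext fun v => hPm v ?_
    rw [hP1]; trivial
  · norm_num at hdet'
  · right
    have hM1 : M = ⊤ := Submodule.eq_top_of_finrank_eq (by omega)
    refine LinearMap.ext fun v => hMm v ?_
    rw [hM1]; trivial

end Cfsg.Agent.H79.Deg22
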