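import Cfsg.Agent.H79.Deg22Algebra

/-!
Invariant graphs of a simple transitive group of degree 22 with a fixed-point-free element of order 11.
-/

set_option linter.style.haveILetI false

namespace Cfsg.Agent.H79.Deg22

open Module Polynomial MulAction

theorem hom_trivial {G : Type*} [Group G] [IsSimpleGroup G] (hG : ¬ IsMulCommutative G) {M : Type*}
    [CommMonoid M] (f : G →* M) (g : G) : f g = 1 := by
  set F := f.toHomUnits with hF
  have hker : F.ker = ⊤ := by
    rcases IsSimpleGroup.eq_bot_or_eq_top_of_normal F.ker inferInstance with h | h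
    · exact absurd ⟨⟨fun a b => (F.ker_eq_bot_iff.1 h) (by rw [map_mul, map_mul, mul_comm])⟩⟩ hG
    · exact h
  have h1 : g ∈ F.ker := by rw [hker]; trivial
  exact congrArg Units.val (MonoidHom.mem_ker.1 h1)

variable {G X : Type*} [Group G] [Fintype X] [MulAction G X]

/-- The permutation representation on rational functions. -/
def perm22 : G →* End ℚ (X → ℚ) where
  toFun g := LinearMap.funLeft ℚ ℚ (fun a => g⁻¹ • a)
  map_one' := by ext f a; simp [LinearMap.funLeft]
  map_mul' g h := by ext f a; simp [LinearMap.funLeft, mul_smul]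

theorem perm22_apply (g : G) (f : X → ℚ) (a : X) : perm22 g f a = f (g⁻¹ • a) := rfl

/-- The dot product. -/
def dot : (X → ℚ) →ₗ[ℚ] (X → ℚ) →ₗ[ℚ] ℚ :=
  LinearMap.mk₂ ℚ (fun f h => ∑ a, f a * h a)
    (fun _ _ _ => by simp [add_mul, Finset.sum_add_distrib])
    (fun _ _ _ => by simp [mul_assoc, Finset.mul_sum])
    (fun _ _ _ => by simp [mul_add, Finset.sum_add_distrib])
    (fun _ _ _ => by simp [mul_left_comm, Finset.mul_sum])

theorem dot_apply (f h : X → ℚ) : dot f h = ∑ a, f a * h a := rfl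

theorem dot_def {f : X → ℚ} (h : dot f f = 0) : f = 0 :=
  funext fun a => mul_self_eq_zero.1
    ((Finset.sum_eq_zero_iff_of_nonneg fun b _ => mul_self_nonneg (f b)).1 h a (Finset.mem_univ a))

theorem dot_comm (f h : X → ℚ) : dot f h = dot h f := by
  simp [dot_apply, mul_comm]

theorem dot_perm (g : G) (f h : X → ℚ) : dot (perm22 g f) (perm22 g h) = dot f h := by
  simp only [dot_apply, perm22_apply]
  exact Fintype.sum_equiv (MulAction.toPerm g⁻¹) _ _ (fun a => rfl)

theorem dot_perm_left (g : G) (f h : X → ℚ) : dot (perm22 g f) h = dot f (perm22 g⁻¹ h) := by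
  conv_rhs => rw [← dot_perm g, ← Module.End.mul_apply, ← map_mul, mul_inv_cancel, map_one,
    Module.End.one_apply]

/-- Total of a function. -/
def total : (X → ℚ) →ₗ[ℚ] ℚ := dot 1

theorem total_apply (f : X → ℚ) : total f = ∑ a, f a := by simp [total, dot_apply]

theorem perm22_one_vec (g : G) : perm22 (X := X) g 1 = 1 := rfl

theorem total_perm (g : G) (f : X → ℚ) : total (perm22 g f) = total f := by
  rw [total, ← perm22_one_vec (X := X) g, dot_perm, perm22_one_vec]

/-- Adjacency operator of a relation. -/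
def adj (R : X → X → Prop) [DecidableRel R] : End ℚ (X → ℚ) :=
  LinearMap.pi fun a => ∑ b, (if R a b then (1 : ℚ) else 0) • (LinearMap.proj b : (X → ℚ) →ₗ[ℚ] ℚ)

theorem adj_apply (R : X → X → Prop) [DecidableRel R] (f : X → ℚ) (a : X) :
    adj R f a = ∑ b, (if R a b then (1 : ℚ) else 0) * f b := by
  simp [adj]
  refine Finset.sum_congr rfl fun c _ => ?_
  split_ifs <;> simp

theorem graph22 [Finite G] [IsSimpleGroup G] [DecidableEq X] [IsPretransitive G X]
    (hG : ¬ IsMulCommutative G) (hX : Fintype.card X = 22) (h2 : 2 ∣ Nat.card G)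
    (x : G) (hx : orderOf x = 11) (hfix : ∀ a : X, x • a ≠ a)
    (R : X → X → Prop) [DecidableRel R] (hsymm : ∀ a b, R a b → R b a) (hirr : ∀ a, ¬ R a a)
    (hinv : ∀ (g : G) a b, R a b → R (g • a) (g • b)) (a0 : X) :
    (Finset.univ.filter (R a0)).card ∈ ({0, 1, 20, 21} : Finset ℕ) := by
  classical
  set k := (Finset.univ.filter (R a0)).card with hk
  have hiff : ∀ (g : G) a b, R (g • a) (g • b) ↔ R a b := fun g a b =>
    ⟨fun h => by simpa using hinv g⁻¹ _ _ h, hinv g a b⟩
  have hreg : ∀ a, (Finset.univ.filter (R a)).card = k := by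
    intro a
    obtain ⟨g, rfl⟩ := exists_smul_eq G a0 a
    exact (Finset.card_equiv (MulAction.toPerm g) (fun b => by simp [hiff])).symm
  set T := adj R with hT
  have hTone : T 1 = (k : ℚ) • (1 : X → ℚ) := by
    ext a
    simp [hT, adj_apply, Finset.sum_boole, hreg a]
  have hTsym : ∀ f h, dot (T f) h = dot f (T h) := by
    intro f h
    simp only [dot_apply, hT, adj_apply, Finset.sum_mul, Finset.mul_sum]
    rw [Finset.sum_comm]
    refine Finset.sum_congr rfl fun a _ => Finset.sum_congr rfl fun b _ => ?_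
    rw [if_congr ⟨hsymm b a, hsymm a b⟩ rfl rfl]
    ring
  have hTg : ∀ (g : G) f, T (perm22 g f) = perm22 g (T f) := by
    intro g f
    ext a
    simp only [hT, adj_apply, perm22_apply]
    exact Fintype.sum_equiv (MulAction.toPerm g⁻¹) _ _ (fun b => by
      simp [hiff])
  set π : G →* End ℚ (X → ℚ) := perm22 with hπ
  set U : Submodule ℚ (X → ℚ) := LinearMap.ker total with hU
  have hmemU : ∀ f, f ∈ U ↔ total f = 0 := fun f => LinearMap.mem_ker
  have hTU : ∀ f ∈ U, T f ∈ U := by
    intro f hf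
    rw [hmemU, total, ← hTsym, hTone, LinearMap.map_smul₂, ← total, (hmemU f).1 hf, smul_zero]
  have hπU : ∀ g, ∀ f ∈ U, π g f ∈ U := fun g f hf => by
    rw [hmemU, hπ, total_perm]; exact (hmemU f).1 hf
  -- the two orbits of `x`
  have hx11 : x ^ 11 = 1 := hx ▸ pow_orderOf_eq_one x
  have horb : ∀ a : X, Nat.card (orbit (Subgroup.zpowers x) a) = 11 := by
    intro a
    have h1 := Nat.card_congr (orbitEquivQuotientStabilizer (Subgroup.zpowers x) a)
    have hd : Nat.card (orbit (Subgroup.zpowers x) a) ∣ 11 := by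
      rw [h1, ← hx, ← Nat.card_zpowers]
      exact Subgroup.card_quotient_dvd_card _
    rcases (Nat.dvd_prime (by norm_num)).1 hd with h | h
    · exfalso
      have hsub := (Nat.card_eq_one_iff_unique.1 h).1
      exact hfix a (congrArg Subtype.val (hsub.elim
        ⟨x • a, ⟨⟨x, Subgroup.mem_zpowers x⟩, rfl⟩⟩ ⟨a, mem_orbit_self a⟩))
    · exact h
  set A := (orbit (Subgroup.zpowers x) a0).toFinset with hA
  have hAcard : A.card = 11 := by
    rw [hA, Set.toFinset_card, ← Nat.card_eq_fintype_card, horb]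
  obtain ⟨b0, -, hb0⟩ : ∃ b ∈ (Finset.univ : Finset X), b ∉ A :=
    Finset.exists_mem_notMem_of_card_lt_card (by rw [hAcard, Finset.card_univ, hX]; norm_num)
  set B := (orbit (Subgroup.zpowers x) b0).toFinset with hB
  have hBA : B = Aᶜ := by
    refine Finset.eq_of_subset_of_card_le (fun c hc => ?_) ?_
    · rw [hB, Set.mem_toFinset] at hc
      rw [Finset.mem_compl, hA, Set.mem_toFinset]
      intro hca
      apply hb0
      rw [hA, Set.mem_toFinset, ← orbit_eq_iff]
      exact (orbit_eq_iff.2 hc).symm.trans (orbit_eq_iff.2 hca)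
    · rw [Finset.card_compl, hX, hAcard, hB, Set.toFinset_card, ← Nat.card_eq_fintype_card, horb]
  set w : X → ℚ := fun c => if c ∈ A then 1 else -1 with hw
  have hwx : π x w = w := by
    ext c
    have : x⁻¹ • c ∈ A ↔ c ∈ A := by
      simp only [hA, Set.mem_toFinset]
      rw [← orbit_eq_iff, ← orbit_eq_iff]
      have e : orbit (Subgroup.zpowers x) (x⁻¹ • c) = orbit (Subgroup.zpowers x) c :=
        orbit_smul (⟨x⁻¹, inv_mem (Subgroup.mem_zpowers x)⟩ : Subgroup.zpowers x) c
      rw [e]
    simp [hπ, perm22_apply, hw, this]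
  have htotw : ∀ f : X → ℚ, (∀ c ∈ A, f c = f a0) → (∀ c ∈ B, f c = f b0) →
      total f = 11 * f a0 + 11 * f b0 := by
    intro f h1 h2
    rw [total_apply, ← Finset.sum_add_sum_compl A, ← hBA, Finset.sum_congr rfl h1,
      Finset.sum_congr rfl h2]
    simp [hAcard, hB, Set.toFinset_card, ← Nat.card_eq_fintype_card, horb]
  have hwa : w a0 = 1 := by simp [hw, hA]
  have hwb : w b0 = -1 := by simp [hw, hb0]
  have hwU : w ∈ U := by
    rw [hmemU, htotw w (fun c hc => by rw [hwa]; simp [hw, hc])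
      (fun c hc => by rw [hBA, Finset.mem_compl] at hc; simp [hw, hc, hb0]), hwa, hwb]
    norm_num
  have hfixed : ∀ f ∈ U, π x f = f → f = f a0 • w := by
    intro f hf hxf
    let S : Subgroup G :=
      { carrier := {g | π g f = f}
        one_mem' := by show π 1 f = f; rw [map_one]; rfl
        mul_mem' := fun {g h} hg hh => by
          show π (g * h) f = f
          rw [map_mul, Module.End.mul_apply, hh, hg]
        inv_mem' := fun {g} hg => by
          show π g⁻¹ f = f
          conv_lhs => rw [← hg, ← Module.End.mul_apply, ← map_mul, inv_mul_cancel, map_one,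
            Module.End.one_apply] }
    have hz : Subgroup.zpowers x ≤ S := Subgroup.zpowers_le.2 hxf
    have hconst : ∀ a, ∀ c ∈ orbit (Subgroup.zpowers x) a, f c = f a := by
      rintro a _ ⟨⟨g, hg⟩, rfl⟩
      have := congrFun (show π g f = f from hz hg) (g • a)
      rw [hπ, perm22_apply, inv_smul_smul] at this
      exact this.symm
    have h0 := htotw f (fun c hc => hconst a0 c (Set.mem_toFinset.1 hc))
      (fun c hc => hconst b0 c (Set.mem_toFinset.1 hc))
    rw [(hmemU f).1 hf] at h0
    ext c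
    by_cases hc : c ∈ A
    · rw [hconst a0 c (Set.mem_toFinset.1 hc), Pi.smul_apply, smul_eq_mul, hw]
      simp [hc]
    · have hc' : c ∈ B := by rw [hBA]; exact Finset.mem_compl.2 hc
      rw [hconst b0 c (Set.mem_toFinset.1 hc'), Pi.smul_apply, smul_eq_mul, hw]
      simp [hc]
      linarith
  set r : ℚ := T w a0 with hr
  have hTw : T w = r • w := hfixed _ (hTU w hwU) (by rw [← hTg, hwx])
  obtain ⟨z, hz⟩ : ∃ z : ℤ, r = z := by
    refine ⟨∑ b, (if R a0 b then 1 else 0) * (if b ∈ A then 1 else -1), ?_⟩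
    rw [hr, hT, adj_apply]
    push_cast
    rfl
  set E : Submodule ℚ (X → ℚ) := LinearMap.ker (T - r • 1) ⊓ U with hE
  have hmemE : ∀ f, f ∈ E ↔ T f = r • f ∧ f ∈ U := by
    intro f
    rw [hE, Submodule.mem_inf, LinearMap.mem_ker, LinearMap.sub_apply, sub_eq_zero]
    rfl
  have hwE : w ∈ E := (hmemE w).2 ⟨hTw, hwU⟩
  have hπE : ∀ g, ∀ f ∈ E, π g f ∈ E := fun g f hf =>
    (hmemE _).2 ⟨by rw [hTg, ((hmemE f).1 hf).1, map_smul], hπU g f ((hmemE f).1 hf).2⟩
  have hdimU : finrank ℚ U = 21 := by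
    have h := LinearMap.finrank_range_add_finrank_ker (total : (X → ℚ) →ₗ[ℚ] ℚ)
    have hr1 : LinearMap.range (total : (X → ℚ) →ₗ[ℚ] ℚ) = ⊤ := LinearMap.range_eq_top.2 fun q =>
      ⟨Pi.single a0 q, by simp [total_apply]⟩
    rw [hr1, finrank_top, finrank_self, Module.finrank_pi, hX] at h
    rw [hU]; omega
  have hww : dot w w = 22 := by
    rw [dot_apply]
    have : ∀ c, w c * w c = 1 := fun c => by by_cases hc : c ∈ A <;> simp [hw, hc]
    simp [this, hX]
  have hw0 : w ≠ 0 := fun h => by rw [h, map_zero] at hww; norm_num at hww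
  have hπx11 : π x ^ 11 = 1 := by rw [← map_pow, hx11, map_one]
  set E' := E ⊓ LinearMap.ker (dot w) with hE'
  have hE'10 : 10 ∣ finrank ℚ E' := by
    refine ten_dvd_subspace (π x) hπx11 E' (fun f hf => ?_) (fun f hf hxf => ?_)
    · refine ⟨hπE x f hf.1, ?_⟩
      show dot w (π x f) = 0
      rw [← hwx, hπ, dot_perm]
      exact hf.2
    · have h1 := hfixed f ((hmemE f).1 hf.1).2 hxf
      have h2 : dot w f = 0 := hf.2
      rw [h1, map_smul, hww, smul_eq_mul, mul_eq_zero] at h2
      rw [h1, h2.resolve_right (by norm_num), zero_smul]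
  have hdimE : finrank ℚ E = finrank ℚ E' + 1 := by
    have hsup : (ℚ ∙ w) ⊔ E' = E := by
      refine le_antisymm (sup_le ((Submodule.span_singleton_le_iff_mem _ _).2 hwE) inf_le_left) ?_
      intro f hf
      rw [Submodule.mem_sup]
      refine ⟨(dot w f / 22) • w, Submodule.smul_mem _ _ (Submodule.mem_span_singleton_self w),
        f - (dot w f / 22) • w, ⟨E.sub_mem hf (E.smul_mem _ hwE), ?_⟩, by abel⟩
      show dot w (f - (dot w f / 22) • w) = 0
      rw [map_sub, map_smul, hww, smul_eq_mul]; ring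
    have hinf : (ℚ ∙ w) ⊓ E' = ⊥ := by
      rw [eq_bot_iff]
      rintro f ⟨h1, -, h2⟩
      obtain ⟨q, rfl⟩ := Submodule.mem_span_singleton.1 h1
      have h3 : dot w (q • w) = 0 := h2
      rw [map_smul, hww, smul_eq_mul, mul_eq_zero] at h3
      simp [h3.resolve_right (by norm_num)]
    have h := Submodule.finrank_sup_add_finrank_inf_eq (ℚ ∙ w) E'
    rw [hsup, hinf, finrank_span_singleton hw0, finrank_bot] at h
    omega
  have hEleU : finrank ℚ E ≤ 21 := hdimU ▸ Submodule.finrank_mono inf_le_right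
  have htriv : (∀ f ∈ U, T f = r • f) → k = 0 ∨ k = 21 := by
    intro h
    have key : ∀ c a b, a ≠ c → b ≠ c → (R c a ↔ R c b) := by
      intro c a b ha hb
      have h1 := congrFun (h (Pi.single a 1 - Pi.single b 1)
        ((hmemU _).2 (by simp [total_apply]))) c
      simp only [hT, map_sub, Pi.sub_apply, Pi.smul_apply, adj_apply, smul_eq_mul, mul_sub,
        Finset.sum_sub_distrib] at h1
      simp [Pi.single_apply, Finset.sum_ite_eq', Ne.symm ha, Ne.symm hb] at h1
      by_cases hca : R c a <;> by_cases hcb : R c b <;> simp [hca, hcb] at h1 ⊢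
    by_cases h0 : ∃ b, R a0 b
    · right
      obtain ⟨b, hb⟩ := h0
      have hset : Finset.univ.filter (R a0) = Finset.univ.erase a0 := by
        ext c
        simp only [Finset.mem_filter, Finset.mem_univ, true_and, Finset.mem_erase, and_true]
        exact ⟨fun hc he => hirr a0 (he ▸ hc),
          fun hc => (key a0 b c (fun e => hirr a0 (e ▸ hb)) hc).1 hb⟩
      rw [hk, hset, Finset.card_erase_of_mem (Finset.mem_univ _), Finset.card_univ, hX]
    · left
      rw [hk, Finset.card_eq_zero, Finset.filter_eq_empty_iff]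
      exact fun b _ hb => h0 ⟨b, hb⟩
  have htriv' : (∀ f ∈ U, T f = r • f) → k ∈ ({0, 1, 20, 21} : Finset ℕ) := fun h => by
    rcases htriv h with e | e <;> simp [e]
  rcases (show finrank ℚ E' = 0 ∨ finrank ℚ E' = 10 ∨ finrank ℚ E' = 20 by
    obtain ⟨i, hi⟩ := hE'10; omega) with h0 | h10 | h20
  · exfalso
    have hspan : E = ℚ ∙ w :=
      (Submodule.eq_of_le_of_finrank_le ((Submodule.span_singleton_le_iff_mem _ _).2 hwE)
        (by rw [finrank_span_singleton hw0, hdimE, h0])).symm
    have hline : ∀ g, π g w = π g w a0 • w := by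
      intro g
      have hg := hπE g w hwE
      rw [hspan, Submodule.mem_span_singleton] at hg
      obtain ⟨q, hq⟩ := hg
      rw [← hq, Pi.smul_apply, hwa, smul_eq_mul, mul_one]
    let χ : G →* ℚ :=
      { toFun := fun g => π g w a0
        map_one' := by rw [map_one, Module.End.one_apply, hwa]
        map_mul' := fun g h => by
          show π (g * h) w a0 = π g w a0 * π h w a0
          rw [map_mul, Module.End.mul_apply, hline h, map_smul, Pi.smul_apply, smul_eq_mul, mul_comm,
            ← hline h] }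
    obtain ⟨g, hg⟩ := exists_smul_eq G a0 b0
    have h1 : π g w = w := by
      rw [hline g, show π g w a0 = 1 from hom_trivial hG χ g, one_smul]
    have h2 := congrFun h1 b0
    rw [hπ, perm22_apply, ← hg, inv_smul_smul, hg, hwa, hwb] at h2
    norm_num at h2
  swap
  · refine htriv' fun f hf => ?_
    have he : E = U := Submodule.eq_of_le_of_finrank_le inf_le_right (by omega)
    exact ((hmemE f).1 (he ▸ hf)).1
  -- the orthogonal complement
  set U' : Submodule ℚ (X → ℚ) := U ⊓ LinearMap.ker ((dot.domRestrict E).flip) with hU'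
  have hmemU' : ∀ f, f ∈ U' ↔ f ∈ U ∧ ∀ e ∈ E, dot e f = 0 := by
    intro f
    rw [hU', Submodule.mem_inf, LinearMap.mem_ker]
    exact and_congr_right fun _ =>
      ⟨fun h e he => LinearMap.congr_fun h ⟨e, he⟩, fun h => LinearMap.ext fun e => h e e.2⟩
  have hdisj : E ⊓ U' = ⊥ := by
    rw [eq_bot_iff]
    rintro f ⟨h1, h2⟩
    exact dot_def (((hmemU' f).1 h2).2 f h1)
  have hdimU' : finrank ℚ U' = 10 := by
    have hle : finrank ℚ E + finrank ℚ U' ≤ 21 := by
      have h := Submodule.finrank_sup_add_finrank_inf_eq E U'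
      rw [hdisj, finrank_bot, add_zero] at h
      rw [← h, ← hdimU]
      exact Submodule.finrank_mono (sup_le inf_le_right inf_le_left)
    have hge : finrank ℚ U ≤ finrank ℚ U' + finrank ℚ E := by
      have h := LinearMap.finrank_range_add_finrank_ker ((dot.domRestrict E).flip.domRestrict U)
      have hk' : finrank ℚ (LinearMap.ker ((dot.domRestrict E).flip.domRestrict U)) = finrank ℚ U' := by
        rw [hU', LinearMap.domRestrict, LinearMap.ker_comp,
          ← (Submodule.comapSubtypeEquivOfLe (q := U)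
            (inf_le_left : U ⊓ LinearMap.ker ((dot.domRestrict E).flip) ≤ U)).finrank_eq,
          Submodule.comap_inf, Submodule.comap_subtype_self, top_inf_eq]
      have hr' := Submodule.finrank_le (LinearMap.range ((dot.domRestrict E).flip.domRestrict U))
      have hdual : finrank ℚ (E →ₗ[ℚ] ℚ) = finrank ℚ E := Subspace.dual_finrank_eq
      rw [hdual] at hr'
      omega
    omega
  have hsupU : E ⊔ U' = U := by
    refine Submodule.eq_of_le_of_finrank_le (sup_le inf_le_right inf_le_left) ?_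
    have h := Submodule.finrank_sup_add_finrank_inf_eq E U'
    rw [hdisj, finrank_bot, add_zero] at h
    omega
  have hπU' : ∀ g, ∀ f ∈ U', π g f ∈ U' := by
    intro g f hf
    refine (hmemU' _).2 ⟨hπU g f ((hmemU' f).1 hf).1, fun e he => ?_⟩
    rw [dot_comm, hπ, dot_perm_left, dot_comm]
    exact ((hmemU' f).1 hf).2 _ (hπE g⁻¹ e he)
  have hTU' : ∀ f ∈ U', T f ∈ U' := by
    intro f hf
    refine (hmemU' _).2 ⟨hTU f ((hmemU' f).1 hf).1, fun e he => ?_⟩
    rw [← hTsym, ((hmemE e).1 he).1, LinearMap.map_smul₂, ((hmemU' f).1 hf).2 e he, smul_zero]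
  let ρ : G →* End ℚ U' :=
    { toFun := fun g => (π g).restrict (hπU' g)
      map_one' := by ext f; simp
      map_mul' := fun g h => by ext f; simp }
  have hρ : ∀ g (f : U'), (ρ g f : X → ℚ) = π g f := fun g f => rfl
  set t : End ℚ U' := T.restrict hTU' with ht
  have htcomm : ∀ g, Commute (ρ g) t := by
    intro g
    refine LinearMap.ext fun f => Subtype.ext ?_
    show π g (T f) = T (π g f)
    rw [hTg]
  have hρx : ρ x ^ 11 = 1 := by rw [← map_pow, hx11, map_one]
  have hρfix : ∀ f : U', ρ x f = f → f = 0 := by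
    intro f hf
    have h1 := hfixed f ((hmemU' f).1 f.2).1 (congrArg Subtype.val hf)
    have h2 := ((hmemU' f).1 f.2).2 w hwE
    rw [h1, map_smul, hww, smul_eq_mul, mul_eq_zero] at h2
    refine Subtype.ext ?_
    rw [h1, h2.resolve_right (by norm_num), zero_smul]
    rfl
  let B' : U' →ₗ[ℚ] U' →ₗ[ℚ] ℚ := (dot.domRestrict U').compl₂ U'.subtype
  have hB' : ∀ f h : U', B' f h = dot (f : X → ℚ) h := fun f h => rfl
  obtain ⟨hirrm, hdeg⟩ := sym_minpoly (ρ x) hρx hρfix hdimU' B'
    (fun f hf => Subtype.ext (dot_def hf))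
    (fun f h => by
      rw [hB', hB', hρ, ← map_pow, hρ, hπ, dot_perm_left]
      congr 1
      rw [show x⁻¹ = x ^ 10 from inv_eq_of_mul_eq_one_right (by rw [← pow_succ', hx11])])
    (htcomm x).symm
    (fun f h => hTsym _ _)
  rcases hdeg with hd | hd
  swap
  · exfalso
    obtain ⟨τ, hτ⟩ := exists_prime_orderOf_dvd_card' 2 h2
    have hττ : τ * τ = 1 := by rw [← pow_two, ← hτ, pow_orderOf_eq_one]
    have hker : ρ.ker = ⊥ := by
      rcases IsSimpleGroup.eq_bot_or_eq_top_of_normal ρ.ker inferInstance with h | h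
      · exact h
      · exfalso
        have hx1 : ρ x = 1 := MonoidHom.mem_ker.1 (h ▸ Subgroup.mem_top x)
        have : Subsingleton U' := subsingleton_of_forall_eq 0 fun f => hρfix f (by rw [hx1]; rfl)
        rw [finrank_zero_of_subsingleton] at hdimU'
        norm_num at hdimU'
    have hτ1 : τ ≠ 1 := fun h => by rw [h, orderOf_one] at hτ; norm_num at hτ
    rcases involution_det hdimU' hirrm hd (htcomm τ) (by rw [← map_mul, hττ, map_one])
      (hom_trivial hG (LinearMap.det.comp ρ) τ) with h | h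
    · exact hτ1 (Subgroup.mem_bot.1 (hker ▸ MonoidHom.mem_ker.2 h))
    · have hc : τ ∈ Subgroup.center G := by
        rw [Subgroup.mem_center_iff]
        intro g
        apply ρ.ker_eq_bot_iff.1 hker
        rw [map_mul, map_mul, h]
        refine LinearMap.ext fun v => ?_
        simp
      rcases IsSimpleGroup.eq_bot_or_eq_top_of_normal (Subgroup.center G) inferInstance with h' | h'
      · exact hτ1 (Subgroup.mem_bot.1 (h' ▸ hc))
      · exact hG ⟨⟨fun a b => (Subgroup.mem_center_iff.1 (h' ▸ Subgroup.mem_top b) a)⟩⟩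
  have hmon : (minpoly ℚ t).Monic := minpoly.monic (Algebra.IsIntegral.isIntegral t)
  set s : ℚ := -(minpoly ℚ t).coeff 0 with hs
  have hts : ∀ f ∈ U', T f = s • f := by
    intro f hf
    have h1 := minpoly.aeval ℚ t
    rw [hmon.eq_X_add_C hd, map_add, aeval_X, aeval_C] at h1
    have h2 := congrArg Subtype.val (LinearMap.congr_fun h1 ⟨f, hf⟩)
    simp [ht, Module.algebraMap_end_apply] at h2
    rw [hs, neg_smul, eq_neg_iff_add_eq_zero]
    exact h2
  have hdecomp : ∀ f ∈ U, ∃ e ∈ E, ∃ u ∈ U', f = e + u := by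
    intro f hf
    rw [← hsupU, Submodule.mem_sup] at hf
    obtain ⟨e, he, u, hu, h⟩ := hf
    exact ⟨e, he, u, hu, h.symm⟩
  by_cases hrs : r = s
  · refine htriv' fun f hf => ?_
    obtain ⟨e, he, u, hu, rfl⟩ := hdecomp f hf
    rw [map_add, ((hmemE e).1 he).1, hts u hu, smul_add, hrs]
  have hquad : ∀ f ∈ U, T (T f) - (r + s) • T f + (r * s) • f = 0 := by
    intro f hf
    obtain ⟨e, he, u, hu, rfl⟩ := hdecomp f hf
    simp only [map_add, ((hmemE e).1 he).1, hts u hu, map_smul, smul_smul, smul_add]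
    module
  set f0 : X → ℚ := Pi.single a0 1 - (1 / 22 : ℚ) • 1 with hf0
  have hTd : ∀ a c : X, T (Pi.single a 1) c = if R c a then 1 else 0 := by
    intro a c
    simp [hT, adj_apply, Pi.single_apply]
  have hf0U : ∀ a : X, (Pi.single a 1 - (1 / 22 : ℚ) • 1 : X → ℚ) ∈ U := by
    intro a
    rw [hmemU, total_apply]
    simp [Finset.sum_sub_distrib, hX]
  have heq1 : 22 * ((k : ℚ) + r * s) = (k - r) * (k - s) := by
    have h := congrFun (hquad f0 (hf0U a0)) a0
    have e1 : T (T (Pi.single a0 1)) a0 = (k : ℚ) := by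
      rw [hT, adj_apply, ← hT, hk, Finset.card_filter]
      push_cast
      refine Finset.sum_congr rfl fun b _ => ?_
      rw [hTd]
      by_cases hb : R a0 b
      · simp [hb, hsymm _ _ hb]
      · simp [hb]
    have e2 : T (Pi.single a0 1) a0 = (0 : ℚ) := by simp [hTd, hirr a0]
    simp only [hf0, map_sub, map_smul, hTone, Pi.add_apply, Pi.sub_apply, Pi.smul_apply, e1, e2,
      Pi.one_apply, Pi.single_eq_same, smul_eq_mul, Pi.zero_apply] at h
    linarith
  have heq2 : (k : ℚ) + 11 * r + 10 * s = 0 := by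
    let J : End ℚ (X → ℚ) := (total : (X → ℚ) →ₗ[ℚ] ℚ).smulRight ((1 / 22 : ℚ) • 1)
    let Pm : End ℚ (X → ℚ) := (r - s)⁻¹ • ((T - s • 1) ∘ₗ (1 - J))
    have hPm : ∀ f, Pm f = (r - s)⁻¹ • (T (f - total f • (1 / 22 : ℚ) • 1)
        - s • (f - total f • (1 / 22 : ℚ) • 1)) := fun f => by simp [Pm, J]
    have hproj : LinearMap.IsProj E Pm := by
      refine ⟨fun f => ?_, fun e he => ?_⟩
      · have hf : f - total f • (1 / 22 : ℚ) • 1 ∈ U := by
          rw [hmemU, map_sub, map_smul, map_smul]
          simp [total_apply, hX]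
        obtain ⟨e, he, u, hu, h⟩ := hdecomp _ hf
        rw [hPm, h, map_add, ((hmemE e).1 he).1, hts u hu, smul_add, add_sub_add_comm, sub_self,
          add_zero, ← sub_smul, smul_smul, inv_mul_cancel₀ (sub_ne_zero.2 hrs), one_smul]
        exact he
      · rw [hPm, (hmemU e).1 ((hmemE e).1 he).2, zero_smul, sub_zero, ((hmemE e).1 he).1,
          ← sub_smul, smul_smul, inv_mul_cancel₀ (sub_ne_zero.2 hrs), one_smul]
    have htr := hproj.trace
    rw [hdimE, h10, LinearMap.trace_eq_matrix_trace ℚ (Pi.basisFun ℚ X) Pm] at htr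
    have hdiag : ∀ a, LinearMap.toMatrix (Pi.basisFun ℚ X) (Pi.basisFun ℚ X) Pm a a =
        (r - s)⁻¹ * (-(k : ℚ) / 22 - s * (21 / 22)) := by
      intro a
      rw [LinearMap.toMatrix_apply, Pi.basisFun_apply, Pi.basisFun_repr, hPm]
      simp only [map_sub, map_smul, hTone, Pi.sub_apply, Pi.smul_apply, hTd, hirr a, if_false,
        Pi.one_apply, Pi.single_eq_same, smul_eq_mul, total_apply, Finset.sum_pi_single',
        Finset.mem_univ, if_true]
      ring
    simp only [Matrix.trace, Matrix.diag_apply, hdiag, Finset.sum_const, Finset.card_univ, hX,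
      nsmul_eq_mul, Nat.cast_ofNat, Nat.cast_add, Nat.cast_one] at htr
    field_simp [sub_ne_zero.2 hrs] at htr
    linarith
  have hint : 21 * z ^ 2 + 2 * (k : ℤ) * z + (k : ℤ) ^ 2 - 20 * k = 0 := by
    have : 21 * r ^ 2 + 2 * (k : ℚ) * r + (k : ℚ) ^ 2 - 20 * k = 0 := by
      have hs' : s = -((k : ℚ) + 11 * r) / 10 := by linarith
      rw [hs'] at heq1
      linarith
    rw [hz] at this
    exact_mod_cast this
  have hk21 : k ≤ 21 := by
    rw [hk]
    refine (Finset.card_le_card (t := Finset.univ.erase a0) fun b hb => ?_).trans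
      (by rw [Finset.card_erase_of_mem (Finset.mem_univ _), Finset.card_univ, hX])
    rw [Finset.mem_filter] at hb
    exact Finset.mem_erase.2 ⟨fun e => hirr a0 (e ▸ hb.2), Finset.mem_univ _⟩
  have hzb : -4 ≤ z ∧ z ≤ 4 := by
    constructor <;> nlinarith [sq_nonneg (z + (k : ℤ))]
  have key : ∀ k : Fin 22, ∀ i : Fin 9,
      21 * ((i : ℤ) - 4) ^ 2 + 2 * (k : ℤ) * ((i : ℤ) - 4) + (k : ℤ) ^ 2 - 20 * (k : ℤ) = 0 →
      (k : ℕ) ∈ ({0, 1, 20, 21} : Finset ℕ) := by decide +kernel
  refine key ⟨k, by omega⟩ ⟨(z + 4).toNat, by omega⟩ ?_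
  simp only
  rw [Int.toNat_of_nonneg (by omega)]
  simpa using hint

end Cfsg.Agent.H79.Deg22
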