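import Mathlib

/-!
# An element of prime order at least five fixes less than half of an irreducible module

Flavell's lemma: if the conjugates of an element `x` of prime order `p ≥ 5` generate a finite
solvable group `K` and `V` is a faithful irreducible module, then `2 dim C_V(x) < dim V`.
The proof: a minimal noncentral normal subgroup `A` is an `r`-group of class at most two.  If it is
abelian, either `V` splits into blocks permuted by `K`, of which `x` fixes at most one in `p`, or
`x` acts semilinearly over a field.  If not, conjugation by `A` splits the endomorphisms into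
`|A : Z(A)|` pieces permuted by `x`, which bounds the centraliser of `x` below what a fixed space
of dimension `dim V / 2` would need.
-/

set_option autoImplicit false
set_option maxHeartbeats 1000000
set_option linter.style.haveILetI false

namespace Cfsg.Agent.H79.FixedHalf

open MulAction
open scoped commutatorElement

universe u v w

section count

variable {K : Type u} [Group K] {p : ℕ} [hp : Fact p.Prime]

/-- The orbits of a subgroup of prime order. -/
theorem mul_card_orbits {x : K} (hx : orderOf x = p) {O : Type*} [MulAction K O] [Finite O] :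
    p * Nat.card (Quotient (orbitRel (Subgroup.zpowers x) O)) =
      (p - 1) * Nat.card {o : O // x • o = o} + Nat.card O := by
  classical
  haveI : Finite (Subgroup.zpowers x) :=
    Nat.finite_of_card_ne_zero (by rw [Nat.card_zpowers, hx]; exact hp.out.ne_zero)
  haveI := Fintype.ofFinite O
  haveI := Fintype.ofFinite (Subgroup.zpowers x)
  haveI : Fintype (Quotient (orbitRel (Subgroup.zpowers x) O)) := Fintype.ofFinite _
  have key := MulAction.sum_card_fixedBy_eq_card_orbits_mul_card_group (Subgroup.zpowers x) O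
  have hcard : Fintype.card (Subgroup.zpowers x) = p := by
    rw [← Nat.card_eq_fintype_card, Nat.card_zpowers, hx]
  have hfix : ∀ g : Subgroup.zpowers x, g ≠ 1 →
      Fintype.card (fixedBy O g) = Nat.card {o : O // x • o = o} := by
    intro g hg
    rw [← Nat.card_eq_fintype_card]
    refine Nat.card_congr (Equiv.subtypeEquivRight fun o => ?_)
    obtain ⟨n, hn⟩ := g.2
    show (g : K) • o = o ↔ x • o = o
    constructor
    · intro h
      haveI : Fact (Nat.card (Subgroup.zpowers x)).Prime := ⟨by rw [Nat.card_zpowers, hx]; exact hp.out⟩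
      have : (⟨x, Subgroup.mem_zpowers x⟩ : Subgroup.zpowers x) ∈ Subgroup.zpowers g :=
        mem_zpowers_of_prime_card (p := p) (by rw [Nat.card_zpowers, hx]) hg
      obtain ⟨m, hm⟩ := this
      have h2 : g • o = o := h
      have h3 := MulAction.mem_stabilizer_iff.mp
        (Subgroup.zpow_mem (stabilizer (Subgroup.zpowers x) o) h2 m)
      change (((g ^ m : Subgroup.zpowers x)) : K) • o = o at h3
      rwa [show ((g ^ m : Subgroup.zpowers x) : K) = x from congrArg Subtype.val hm] at h3
    · intro h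
      rw [← hn]
      exact MulAction.mem_stabilizer_iff.mp
        (Subgroup.zpow_mem (stabilizer K o) (MulAction.mem_stabilizer_iff.mpr h) n)
  rw [← Finset.add_sum_erase _ _ (Finset.mem_univ (1 : Subgroup.zpowers x)),
    Finset.sum_congr rfl (fun g hg => hfix g (Finset.ne_of_mem_erase hg)), Finset.sum_const,
    smul_eq_mul, Finset.card_erase_of_mem (Finset.mem_univ _), Finset.card_univ, hcard] at key
  have h1 : Fintype.card (fixedBy O (1 : Subgroup.zpowers x)) = Nat.card O := by
    rw [← Nat.card_eq_fintype_card]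
    exact Nat.card_congr (Equiv.subtypeUnivEquiv fun o => one_smul _ o)
  rw [h1] at key
  rw [mul_comm p, Nat.card_eq_fintype_card (α := Quotient _)]
  omega

/-- An endomorphism `q ↦ σ q / q` of an abelian group with `σ` of order `p` is zero or has image of
order at least `p`. -/
theorem le_card_range {Q : Type*} [CommGroup Q] [Finite Q] (σ : Q →* Q)
    (hσ : ∀ q, σ^[p] q = q) (ψ : Q →* Q) (hψ : ∀ q, ψ q = σ q * q⁻¹) {q₀ : Q} (h₀ : ψ q₀ ≠ 1) :
    p ≤ Nat.card ψ.range := by
  classical
  set w := ψ q₀ with hw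
  have hcomm : ∀ q, σ (ψ q) = ψ (σ q) := fun q => by rw [hψ, hψ, map_mul, map_inv]
  by_cases hfix : σ w = w
  · have hiter : ∀ i : ℕ, σ^[i] q₀ = w ^ i * q₀ := by
      intro i
      induction i with
      | zero => simp
      | succ i ih =>
        rw [Function.iterate_succ_apply', ih, map_mul, map_pow, hfix, pow_succ, mul_assoc, hw, hψ,
          inv_mul_cancel_right]
    have h1 : w ^ p = 1 := mul_eq_right.mp ((hiter p).symm.trans (hσ q₀))
    rw [← orderOf_eq_prime h1 h₀, ← Nat.card_zpowers]
    exact Nat.le_of_dvd Nat.card_pos (Subgroup.card_dvd_of_le (Subgroup.zpowers_le.mpr ⟨q₀, rfl⟩))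
  · have hper : Function.minimalPeriod σ w = p := by
      have hd : Function.minimalPeriod σ w ∣ p :=
        Function.IsPeriodicPt.minimalPeriod_dvd (hσ w)
      refine ((Nat.dvd_prime hp.out).mp hd).resolve_left fun h1 => hfix ?_
      exact Function.minimalPeriod_eq_one_iff_isFixedPt.mp h1
    have hmem : ∀ i : ℕ, σ^[i] w ∈ ψ.range := by
      intro i
      induction i with
      | zero => exact ⟨q₀, rfl⟩
      | succ i ih =>
        obtain ⟨q, hq⟩ := ih
        exact ⟨σ q, by rw [Function.iterate_succ_apply', ← hq, hcomm]⟩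
    have hinj : Function.Injective fun i : Fin p => (⟨σ^[(i : ℕ)] w, hmem i⟩ : ψ.range) := by
      intro i j h
      exact Fin.ext (Function.iterate_injOn_Iio_minimalPeriod (by rw [hper]; exact i.2)
        (by rw [hper]; exact j.2) (congrArg Subtype.val h))
    simpa using Nat.card_le_card_of_injective _ hinj

/-- In a solvable group generated by the conjugates of an element of order `p`, that element fixes
at most one in `p` cosets of a maximal subgroup. -/
theorem card_fixed_coatom [Finite K] [Group.IsSolvable K] {x : K} (hx : orderOf x = p)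
    (hgen : Subgroup.normalClosure ({x} : Set K) = ⊤) {M : Subgroup K} (hM : IsCoatom M) :
    p * Nat.card {c : K ⧸ M // x • c = c} ≤ M.index := by
  classical
  by_cases hnone : IsEmpty {c : K ⧸ M // x • c = c}
  · simp
  rw [not_isEmpty_iff] at hnone
  obtain ⟨⟨c₀, hc₀⟩⟩ := hnone
  obtain ⟨g₀, rfl⟩ := QuotientGroup.mk_surjective c₀
  set y := g₀⁻¹ * x * g₀ with hy
  have hyM : y ∈ M := by
    have h := QuotientGroup.eq.mp hc₀.symm
    rwa [hy, mul_assoc]
  have hyp : y ^ p = 1 := by
    have : y = g₀⁻¹ * x * g₀⁻¹⁻¹ := by rw [hy, inv_inv]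
    rw [this, conj_pow, ← hx, pow_orderOf_eq_one, mul_one, mul_inv_cancel]
  have hgen' : ∀ S : Subgroup K, (∀ g : K, g * y * g⁻¹ ∈ S) → S = ⊤ := by
    intro S hS
    rw [eq_top_iff, ← hgen, Subgroup.normalClosure, Subgroup.closure_le]
    intro t ht
    obtain ⟨u, hu, hcj⟩ := Group.mem_conjugatesOfSet_iff.1 ht
    obtain rfl : u = x := hu
    obtain ⟨g, rfl⟩ := isConj_iff.1 hcj
    have := hS (g * g₀)
    rwa [hy, show g * g₀ * (g₀⁻¹ * u * g₀) * (g * g₀)⁻¹ = g * u * g⁻¹ by group] at this
  -- a normal subgroup minimal among those outside M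
  let P : ℕ → Prop := fun n => ∃ N : Subgroup K, N.Normal ∧ ¬ N ≤ M ∧ Nat.card N = n
  have hex : ∃ n, P n := ⟨_, ⊤, inferInstance, fun h => hM.1 (top_le_iff.mp h), rfl⟩
  obtain ⟨N, hNn, hNM, hNc⟩ := Nat.find_spec hex
  haveI := hNn
  have hN' : ⁅N, N⁆ ≤ M := by
    by_contra hle
    have hlt : ⁅N, N⁆ < N := by
      refine lt_of_le_of_ne (Subgroup.commutator_le_self N) fun he => hNM ?_
      obtain ⟨n, hn⟩ := Group.IsSolvable.solvable (G := K)
      have : ∀ i, N ≤ derivedSeries K i := by
        intro i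
        induction i with
        | zero => simp
        | succ i ih => rw [derivedSeries_succ, ← he]; exact Subgroup.commutator_mono ih ih
      have := this n
      rw [hn] at this
      exact this.trans bot_le
    have h1 := Nat.find_min' hex ⟨⁅N, N⁆, inferInstance, hle, rfl⟩
    rw [← hNc] at h1
    exact hlt.ne (Subgroup.eq_of_le_of_card_ge hlt.le h1)
  set R := M.subgroupOf N with hR
  have hcm : ∀ a b : N, (a * b * a⁻¹ * b⁻¹ : N) ∈ R := fun a b =>
    hN' (Subgroup.commutator_mem_commutator a.2 b.2)
  haveI hRn : R.Normal := ⟨fun n hn g => by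
    have := R.mul_mem (hcm g n) hn
    rwa [inv_mul_cancel_right] at this⟩
  letI : CommGroup (N ⧸ R) :=
    { (inferInstance : Group (N ⧸ R)) with
      mul_comm := fun a b => by
        obtain ⟨a, rfl⟩ := QuotientGroup.mk_surjective a
        obtain ⟨b, rfl⟩ := QuotientGroup.mk_surjective b
        rw [← QuotientGroup.mk_mul, ← QuotientGroup.mk_mul, QuotientGroup.eq]
        have := hcm b⁻¹ a⁻¹
        rwa [inv_inv, inv_inv, show b⁻¹ * a⁻¹ * b * a = (a * b)⁻¹ * (b * a) by group] at this }
  let cy : N →* N := ((MulAut.conjNormal (H := N) y : MulAut N) : N →* N)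
  have hcy : ∀ n : N, (cy n : K) = y * n * y⁻¹ := fun n => MulAut.conjNormal_apply y n
  let σ : N ⧸ R →* N ⧸ R := QuotientGroup.map R R cy (fun n hn => by
    rw [Subgroup.mem_comap, hR, Subgroup.mem_subgroupOf, hcy]
    exact M.mul_mem (M.mul_mem hyM hn) (M.inv_mem hyM))
  have hσmk : ∀ n : N, σ n = (cy n : N ⧸ R) := fun n => rfl
  have hσp : ∀ q, σ^[p] q = q := by
    intro q
    obtain ⟨n, rfl⟩ := QuotientGroup.mk_surjective q
    have : ∀ i : ℕ, ∃ m : N, σ^[i] (n : N ⧸ R) = m ∧ (m : K) = y ^ i * n * (y ^ i)⁻¹ := by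
      intro i
      induction i with
      | zero => exact ⟨n, rfl, by simp⟩
      | succ i ih =>
        obtain ⟨m, hm, hm'⟩ := ih
        refine ⟨cy m, by rw [Function.iterate_succ_apply', hm, hσmk], ?_⟩
        rw [hcy, hm', pow_succ']
        group
    obtain ⟨m, hm, hm'⟩ := this p
    rw [hyp, inv_one, one_mul, mul_one] at hm'
    rw [hm, Subtype.ext hm']
  let ψ : N ⧸ R →* N ⧸ R :=
    { toFun := fun q => σ q * q⁻¹
      map_one' := by simp
      map_mul' := fun a b => by rw [map_mul, mul_inv, mul_mul_mul_comm] }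
  have hfun : ∀ q, ψ q = σ q * q⁻¹ := fun _ => rfl
  -- the cosets of M
  let f : N ⧸ R → K ⧸ M := Quotient.map' (fun n => (n : K)) fun a b h => by
    rw [QuotientGroup.leftRel_apply] at h ⊢
    exact h
  have hsup : M ⊔ N = ⊤ := hM.2 _ (lt_of_le_of_ne le_sup_left fun h => hNM (h ▸ le_sup_right))
  have hf : Function.Bijective f := by
    constructor
    · intro a b h
      obtain ⟨a, rfl⟩ := QuotientGroup.mk_surjective a
      obtain ⟨b, rfl⟩ := QuotientGroup.mk_surjective b
      have h' : ((a : K) : K ⧸ M) = ((b : K) : K ⧸ M) := h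
      exact QuotientGroup.eq.mpr (QuotientGroup.eq.mp h' :)
    · intro c
      obtain ⟨g, rfl⟩ := QuotientGroup.mk_surjective c
      obtain ⟨n, hn, m, hm, rfl⟩ := Subgroup.mem_sup_of_normal_left.mp
        (show g ∈ N ⊔ M from (sup_comm M N ▸ hsup) ▸ Subgroup.mem_top g)
      refine ⟨((⟨n, hn⟩ : N) : N ⧸ R), QuotientGroup.eq.mpr ?_⟩
      rwa [inv_mul_cancel_left]
  have hfix : ∀ q, ψ q = 1 ↔ y • f q = f q := by
    intro q
    obtain ⟨n, rfl⟩ := QuotientGroup.mk_surjective q
    show σ (n : N ⧸ R) * (n : N ⧸ R)⁻¹ = 1 ↔ y • ((n : K) : K ⧸ M) = ((n : K) : K ⧸ M)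
    rw [MulAction.Quotient.smul_mk, mul_inv_eq_one, hσmk, QuotientGroup.eq, QuotientGroup.eq]
    show ((cy n : K))⁻¹ * (n : K) ∈ M ↔ (y * (n : K))⁻¹ * (n : K) ∈ M
    rw [hcy]
    constructor <;> intro h
    · have := M.mul_mem (M.inv_mem hyM) h
      rwa [show y⁻¹ * ((y * (n : K) * y⁻¹)⁻¹ * (n : K)) = (y * (n : K))⁻¹ * (n : K) by group] at this
    · have := M.mul_mem hyM h
      rwa [show y * ((y * (n : K))⁻¹ * (n : K)) = (y * (n : K) * y⁻¹)⁻¹ * (n : K) by group] at this
  obtain ⟨q₀, hq₀⟩ : ∃ q, ψ q ≠ 1 := by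
    by_contra hcon
    push Not at hcon
    refine hM.1 (hgen' M fun g => ?_)
    obtain ⟨m, hm, n, hn, rfl⟩ := Subgroup.mem_sup_of_normal_right.mp
      (show g ∈ M ⊔ N from hsup ▸ Subgroup.mem_top g)
    have h := (hfix _).mp (hcon (⟨n⁻¹, inv_mem hn⟩ : N))
    change y • ((n⁻¹ : K) : K ⧸ M) = ((n⁻¹ : K) : K ⧸ M) at h
    rw [MulAction.Quotient.smul_mk, eq_comm, QuotientGroup.eq, inv_inv, smul_eq_mul] at h
    have := M.mul_mem (M.mul_mem hm h) (M.inv_mem hm)
    rwa [show m * (n * (y * n⁻¹)) * m⁻¹ = m * n * y * (m * n)⁻¹ by group] at this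
  have hk : Nat.card ψ.ker = Nat.card {c : K ⧸ M // x • c = c} := by
    let e : K ⧸ M ≃ K ⧸ M := MulAction.toPerm g₀
    have e₁ : ψ.ker ≃ {c : K ⧸ M // y • c = c} :=
      Equiv.subtypeEquiv (p := fun q => q ∈ ψ.ker) (Equiv.ofBijective f hf) fun q => hfix q
    have e₂ : {c : K ⧸ M // y • c = c} ≃ {c : K ⧸ M // x • c = c} :=
      Equiv.subtypeEquiv e fun c => by
        show y • c = c ↔ x • g₀ • c = g₀ • c
        rw [hy, mul_smul, mul_smul, inv_smul_eq_iff]
    exact Nat.card_congr (e₁.trans e₂)
  have hidx : M.index = Nat.card (N ⧸ R) := (Nat.card_congr (Equiv.ofBijective f hf)).symm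
  rw [← hk, hidx, ← Subgroup.card_mul_index ψ.ker, mul_comm p, Subgroup.index_ker ψ]
  exact Nat.mul_le_mul_left _ (le_card_range σ hσp ψ hfun hq₀)

/-- The same on the cosets of any proper subgroup. -/
theorem card_fixed [Finite K] [Group.IsSolvable K] {x : K} (hx : orderOf x = p)
    (hgen : Subgroup.normalClosure ({x} : Set K) = ⊤) {L : Subgroup K} (hL : L ≠ ⊤) :
    p * Nat.card {c : K ⧸ L // x • c = c} ≤ L.index := by
  classical
  obtain ⟨M, hM, hLM⟩ := (eq_top_or_exists_le_coatom L).resolve_left hL
  let e := Subgroup.quotientEquivProdOfLE hLM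
  have he : ∀ g : K, (e (g : K ⧸ L)).1 = (g : K ⧸ M) := fun g => rfl
  let emb : {c : K ⧸ L // x • c = c} → {c : K ⧸ M // x • c = c} × (M ⧸ L.subgroupOf M) :=
    fun c => (⟨(e c.1).1, by
      obtain ⟨g, hg⟩ := QuotientGroup.mk_surjective c.1
      have h1 := c.2
      rw [← hg] at h1 ⊢
      rw [MulAction.Quotient.smul_mk] at h1
      rw [he, MulAction.Quotient.smul_mk, ← he, h1, he]⟩, (e c.1).2)
  have hinj : Function.Injective emb := by
    intro a b h
    exact Subtype.ext (e.injective (Prod.ext (congrArg (fun t => (t.1 : K ⧸ M)) h)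
      (congrArg Prod.snd h :)))
  have h1 := Nat.card_le_card_of_injective emb hinj
  rw [Nat.card_prod] at h1
  calc p * Nat.card {c : K ⧸ L // x • c = c}
      ≤ p * (Nat.card {c : K ⧸ M // x • c = c} * Nat.card (M ⧸ L.subgroupOf M)) :=
        Nat.mul_le_mul_left _ h1
    _ ≤ M.index * L.relIndex M := by
        rw [← mul_assoc]
        exact Nat.mul_le_mul_right _ (card_fixed_coatom hx hgen hM)
    _ = L.index := by rw [mul_comm, Subgroup.relIndex_mul_index hLM]

end count

section linear

variable {K : Type u} [Group K] {k : Type v} [Field k] {V : Type w} [AddCommGroup V] [Module k V]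

/-- No invariant subspaces. -/
def Irr (ρ : K →* Module.End k V) : Prop :=
  ∀ W : Submodule k V, (∀ g, ∀ v ∈ W, ρ g v ∈ W) → W = ⊥ ∨ W = ⊤

variable {ρ : K →* Module.End k V}

theorem apply_inv_apply (ρ : K →* Module.End k V) (g : K) (v : V) : ρ g (ρ g⁻¹ v) = v := by
  rw [← Module.End.mul_apply, ← map_mul, mul_inv_cancel, map_one, Module.End.one_apply]

theorem injective_of_commute (hirr : Irr ρ) {T : Module.End k V}
    (hT : ∀ g, ρ g * T = T * ρ g) (hne : T ≠ 0) : Function.Injective T := by
  rcases hirr (LinearMap.ker T) (fun g v hv => by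
    rw [LinearMap.mem_ker] at hv ⊢
    rw [← Module.End.mul_apply, ← hT g, Module.End.mul_apply, hv, map_zero]) with h | h
  · exact LinearMap.ker_eq_bot.mp h
  · exact absurd (LinearMap.ker_eq_top.mp h) hne

/-- A nontrivial normal subgroup fixes no nonzero vector. -/
theorem eq_zero_of_fixed (hirr : Irr ρ) (hinj : Function.Injective ρ) {N : Subgroup K} [hN : N.Normal]
    (hne : N ≠ ⊥) {v : V} (hv : ∀ g ∈ N, ρ g v = v) : v = 0 := by
  let W : Submodule k V := ⨅ g : N, LinearMap.ker (ρ (g : K) - 1)
  have hW : ∀ u : V, u ∈ W ↔ ∀ g ∈ N, ρ g u = u := fun u => by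
    simp [W, Submodule.mem_iInf, sub_eq_zero]
  rcases hirr W (fun h u hu => (hW _).mpr fun g hg => by
    rw [hW] at hu
    have := hu _ (hN.conj_mem g hg h⁻¹)
    rw [inv_inv] at this
    calc ρ g (ρ h u) = ρ h (ρ (h⁻¹ * g * h) u) := by
          rw [← Module.End.mul_apply, ← Module.End.mul_apply, ← map_mul, ← map_mul]
          congr 2
          group
      _ = ρ h u := by rw [this]) with h | h
  · have := (hW v).mpr hv
    rwa [h, Submodule.mem_bot] at this
  · exfalso
    apply hne
    rw [eq_bot_iff]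
    intro g hg
    refine Subgroup.mem_bot.mpr (hinj ?_)
    rw [map_one]
    exact LinearMap.ext fun u => (hW u).mp (h ▸ Submodule.mem_top) g hg

/-- In the characteristic of the field, a group of prime power order fixes a nonzero vector. -/
theorem exists_fixed [Finite K] [Nontrivial V] {r : ℕ} [hr : Fact r.Prime] (hrk : (r : k) = 0)
    {N : Subgroup K} (hN : IsPGroup r N) : ∃ v : V, v ≠ 0 ∧ ∀ g ∈ N, ρ g v = v := by
  obtain ⟨v₀, hv₀⟩ := exists_ne (0 : V)
  let M : AddSubgroup V := AddSubgroup.closure (Set.range fun g : N => ρ (g : K) v₀)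
  have hMinv : ∀ g ∈ N, ∀ m ∈ M, ρ g m ∈ M := by
    intro g hg m hm
    induction hm using AddSubgroup.closure_induction with
    | mem y hy =>
      obtain ⟨h, rfl⟩ := hy
      exact AddSubgroup.subset_closure ⟨⟨g, hg⟩ * h, by simp⟩
    | zero => rw [map_zero]; exact M.zero_mem
    | add y z _ _ hy hz => rw [map_add]; exact M.add_mem hy hz
    | neg y _ hy => rw [map_neg]; exact M.neg_mem hy
  haveI : AddGroup.FG M := (AddGroup.fg_iff_addSubgroup_fg M).mpr
    (AddSubgroup.fg_iff _ |>.mpr ⟨_, rfl, Set.finite_range _⟩)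
  have hrM : ∀ m : M, r • m = 0 := fun m => by
    refine Subtype.ext ?_
    show r • (m : V) = 0
    rw [← Nat.cast_smul_eq_nsmul k, hrk, zero_smul]
  haveI : Finite M := AddCommGroup.finite_of_fg_isAddTorsion M fun m =>
    isOfFinAddOrder_iff_nsmul_eq_zero.mpr ⟨r, hr.out.pos, hrM m⟩
  letI : MulAction N M :=
    { smul := fun g m => ⟨ρ (g : K) m, hMinv g g.2 m m.2⟩
      one_smul := fun m => Subtype.ext (by show ρ (1 : K) (m : V) = m; simp)
      mul_smul := fun g h m => Subtype.ext (by
        show ρ ((g : K) * h) (m : V) = ρ (g : K) (ρ (h : K) m)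
        simp) }
  have hv' : v₀ ∈ M := AddSubgroup.subset_closure ⟨1, by simp⟩
  have hdvd : r ∣ Nat.card M := by
    have hne : (⟨v₀, hv'⟩ : M) ≠ 0 := fun h => hv₀ (congrArg Subtype.val h)
    exact (addOrderOf_eq_prime (hrM ⟨v₀, hv'⟩) hne) ▸ addOrderOf_dvd_natCard _
  obtain ⟨m, hm, hm0⟩ := hN.exists_fixed_point_of_prime_dvd_card_of_fixed_point M hdvd
    (a := 0) (fun g => Subtype.ext (map_zero (ρ (g : K))))
  exact ⟨m, fun h => hm0 (Subtype.ext h.symm),
    fun g hg => congrArg Subtype.val (hm ⟨g, hg⟩)⟩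

theorem cast_card_ne_zero [Finite K] [Nontrivial V] (hirr : Irr ρ) (hinj : Function.Injective ρ)
    {r : ℕ} [Fact r.Prime] {A : Subgroup K} [A.Normal] (hA : IsPGroup r A) (hne : A ≠ ⊥) :
    (Nat.card A : k) ≠ 0 := by
  obtain ⟨n, hn⟩ := IsPGroup.iff_card.mp hA
  rw [hn, Nat.cast_pow]
  refine pow_ne_zero n fun hrk => ?_
  obtain ⟨v, hv, hfix⟩ := exists_fixed (ρ := ρ) hrk hA
  exact hv (eq_zero_of_fixed hirr hinj hne hfix)

variable (ρ) in
/-- The vectors fixed by `g`. -/
def fixedSub (g : K) : Submodule k V := LinearMap.ker (ρ g - 1)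

theorem mem_fixedSub {g : K} {v : V} : v ∈ fixedSub ρ g ↔ ρ g v = v := by
  simp [fixedSub, sub_eq_zero]

variable (ρ) in
/-- Conjugation of endomorphisms. -/
def cj (g : K) : Module.End k V →ₐ[k] Module.End k V :=
  AlgHom.ofLinearMap
    ((LinearMap.mulLeft k (ρ g)).comp (LinearMap.mulRight k (ρ g⁻¹)))
    (by simp [← map_mul])
    (fun S T => by
      simp only [LinearMap.comp_apply, LinearMap.mulLeft_apply, LinearMap.mulRight_apply]
      calc ρ g * (S * T * ρ g⁻¹) = ρ g * (S * (ρ g⁻¹ * ρ g) * T * ρ g⁻¹) := by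
            rw [← map_mul, inv_mul_cancel, map_one, mul_one]
        _ = ρ g * (S * ρ g⁻¹) * (ρ g * (T * ρ g⁻¹)) := by simp only [mul_assoc])

theorem cj_apply (g : K) (T : Module.End k V) : cj ρ g T = ρ g * T * ρ g⁻¹ := by
  simp [cj, mul_assoc]

theorem cj_apply_apply (g : K) (T : Module.End k V) (v : V) :
    cj ρ g T v = ρ g (T (ρ g⁻¹ v)) := by
  rw [cj_apply]; rfl

theorem cj_mul (g h : K) (T : Module.End k V) : cj ρ (g * h) T = cj ρ g (cj ρ h T) := by
  rw [cj_apply, cj_apply, cj_apply, mul_inv_rev, map_mul, map_mul]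
  simp only [mul_assoc]

theorem cj_one (T : Module.End k V) : cj ρ 1 T = T := by simp [cj_apply]

theorem cj_ρ (g h : K) : cj ρ g (ρ h) = ρ (g * h * g⁻¹) := by
  simp [cj_apply]

theorem cj_eq_iff (g : K) (T : Module.End k V) : cj ρ g T = T ↔ ρ g * T = T * ρ g := by
  constructor
  · intro h
    conv_rhs => rw [← h]
    rw [cj_apply, mul_assoc _ (ρ g⁻¹), ← map_mul, inv_mul_cancel, map_one, mul_one]
  · intro h
    rw [cj_apply, h, mul_assoc, ← map_mul, mul_inv_cancel, map_one, mul_one]

variable [Finite K] [FiniteDimensional k V]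
variable {p : ℕ} [hp : Fact p.Prime]

/-- An abelian normal noncentral subgroup. -/
theorem two_mul_lt_of_abelian [Group.IsSolvable K] [Nontrivial V] (hirr : Irr ρ)
    (hinj : Function.Injective ρ) (hp5 : 5 ≤ p) {x : K} (hx : orderOf x = p)
    (hgen : Subgroup.normalClosure ({x} : Set K) = ⊤)
    (A : Subgroup K) [hAn : A.Normal] (hA : ∀ a ∈ A, ∀ b ∈ A, a * b = b * a)
    (hcard : (Nat.card A : k) ≠ 0) {a₀ : K} (ha₀ : a₀ ∈ A) (hnc : x * a₀ ≠ a₀ * x) :
    2 * Module.finrank k (fixedSub ρ x) < Module.finrank k V := by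
  classical
  have hn : 0 < Module.finrank k V := Module.finrank_pos
  letI : CommGroup A := { (inferInstance : Group A) with
    mul_comm := fun a b => Subtype.ext (hA a a.2 b b.2) }
  haveI : NeZero (Nat.card A : k) := ⟨hcard⟩
  let L : MonoidAlgebra k A →ₐ[k] Module.End k V :=
    MonoidAlgebra.lift k (Module.End k V) A (ρ.comp A.subtype)
  set S := L.range with hS
  have hmemS : ∀ a ∈ A, ρ a ∈ S := fun a ha =>
    ⟨MonoidAlgebra.of k A ⟨a, ha⟩, MonoidAlgebra.lift_of _ _⟩
  have hScomm : ∀ s ∈ S, ∀ t ∈ S, s * t = t * s := by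
    rintro _ ⟨s, rfl⟩ _ ⟨t, rfl⟩
    show L s * L t = L t * L s
    rw [← map_mul, mul_comm, map_mul]
  have hScj : ∀ (g : K), ∀ s ∈ S, cj ρ g s ∈ S := by
    rintro g _ ⟨s, rfl⟩
    show cj ρ g (L s) ∈ S
    induction s using MonoidAlgebra.induction_on with
    | of a =>
      rw [MonoidAlgebra.lift_of]
      show cj ρ g (ρ (a : K)) ∈ S
      rw [cj_ρ]
      exact hmemS _ (hAn.conj_mem a a.2 g)
    | add s t hs ht => rw [map_add, map_add]; exact S.add_mem hs ht
    | smul c s hs => rw [map_smul, map_smul]; exact S.smul_mem hs c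
  letI : CommRing S := { (inferInstance : Ring S) with
    mul_comm := fun s t => Subtype.ext (hScomm s s.2 t t.2) }
  haveI : IsSemisimpleRing S :=
    RingHom.isSemisimpleRing_of_surjective (L.rangeRestrict.toRingHom) L.rangeRestrict_surjective
  by_cases hdom : ∀ s ∈ S, ∀ t ∈ S, s * t = 0 → s = 0 ∨ t = 0
  · -- semilinear
    haveI : Nontrivial S := ⟨0, 1, fun h => by
      obtain ⟨v, hv⟩ := exists_ne (0 : V)
      exact hv (congrArg (fun T : S => (T : Module.End k V) v) h).symm⟩
    let u : ℕ → Module.End k V := fun j => cj ρ (x ^ j) (ρ a₀)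
    have huS : ∀ j, u j ∈ S := fun j => hScj _ _ (hmemS a₀ ha₀)
    have hune : ∀ i j, i < j → j < p → u i - u j ≠ 0 := by
      intro i j hij hjp h
      rw [sub_eq_zero] at h
      simp only [u, cj_ρ] at h
      have h' := hinj h
      have h1 : x ^ (j - i) ∈ Subgroup.centralizer ({a₀} : Set K) := by
        rw [Subgroup.mem_centralizer_singleton_iff]
        have h2 : x ^ j = x ^ i * x ^ (j - i) := by rw [← pow_add]; congr 1; omega
        rw [h2] at h'
        have h3 : a₀ = x ^ (j - i) * a₀ * (x ^ (j - i))⁻¹ := by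
          have h4 := congrArg (fun t => (x ^ i)⁻¹ * t * x ^ i) h'
          simpa [mul_assoc] using h4
        nth_rewrite 2 [h3]
        group
      apply hnc
      haveI : Fact (Nat.card (Subgroup.zpowers x)).Prime := ⟨by rw [Nat.card_zpowers, hx]; exact hp.out⟩
      have h5 : (⟨x, Subgroup.mem_zpowers x⟩ : Subgroup.zpowers x) ∈
          Subgroup.zpowers (⟨x, Subgroup.mem_zpowers x⟩ ^ (j - i) : Subgroup.zpowers x) := by
        refine mem_zpowers_of_prime_card (p := p) (by rw [Nat.card_zpowers, hx]) ?_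
        intro h6
        have h7 : x ^ (j - i) = 1 := congrArg Subtype.val h6
        have := orderOf_dvd_of_pow_eq_one h7
        rw [hx] at this
        have := Nat.le_of_dvd (by omega) this
        omega
      obtain ⟨m, hm⟩ := h5
      have h8 := Subgroup.zpow_mem _ h1 m
      rw [Subgroup.mem_centralizer_singleton_iff] at h8
      have h9 : (x ^ (j - i)) ^ m = x := congrArg Subtype.val hm
      rwa [h9] at h8
    have hinjv : ∀ i j, i < j → j < p → ∀ v, (u i - u j) v = 0 → v = 0 := by
      intro i j hij hjp v hv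
      by_contra hv0
      have hne := hune i j hij hjp
      have hfield : IsField S := by
        haveI : NoZeroDivisors S := ⟨fun {s t} h =>
          (hdom s s.2 t t.2 (congrArg Subtype.val h)).imp Subtype.ext Subtype.ext⟩
        haveI : IsDomain S := NoZeroDivisors.to_isDomain _
        haveI : Module.Finite k S := inferInstance
        exact isField_of_isIntegral_of_isField' (R := k) (Field.toIsField k)
      obtain ⟨t, ht⟩ := hfield.mul_inv_cancel
        (show (⟨u i - u j, S.sub_mem (huS i) (huS j)⟩ : S) ≠ 0 from fun h => hne (congrArg Subtype.val h))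
      rw [mul_comm] at ht
      have h1 := congrArg (fun T : S => (T : Module.End k V) v) ht
      simp only [MulMemClass.coe_mul, Module.End.mul_apply, OneMemClass.coe_one,
        Module.End.one_apply, hv, map_zero] at h1
      exact hv0 h1.symm
    set C := fixedSub ρ x
    let Φ : C × C × C →ₗ[k] V :=
      C.subtype.comp (LinearMap.fst k C (C × C)) +
        (u 0).comp (C.subtype.comp ((LinearMap.fst k C C).comp (LinearMap.snd k C (C × C)))) +
        (u 0 * u 0).comp (C.subtype.comp ((LinearMap.snd k C C).comp (LinearMap.snd k C (C × C))))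
    have hΦ : Function.Injective Φ := by
      rw [injective_iff_map_eq_zero]
      rintro ⟨⟨a, ha⟩, ⟨b, hb⟩, ⟨c, hc⟩⟩ h
      change a + u 0 b + (u 0 * u 0) c = 0 at h
      rw [mem_fixedSub] at ha hb hc
      have hfix : ∀ (v : V), ρ x v = v → ∀ j : ℕ, ρ (x ^ j) v = v ∧ ρ (x ^ j)⁻¹ v = v := by
        intro v hv j
        have h1 : ρ (x ^ j) v = v := by
          induction j with
          | zero => simp
          | succ j ih => rw [pow_succ, map_mul, Module.End.mul_apply, hv, ih]
        refine ⟨h1, ?_⟩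
        conv_lhs => rw [← h1]
        rw [← Module.End.mul_apply, ← map_mul, inv_mul_cancel, map_one, Module.End.one_apply]
      have hj : ∀ j : ℕ, a + u j b + (u j * u j) c = 0 := by
        intro j
        have h0 : u 0 = ρ a₀ := by simp [u, cj_one]
        have h1 := congrArg (ρ (x ^ j)) h
        have h2 : ∀ v, ρ x v = v → ∀ T : Module.End k V, ρ (x ^ j) (T v) = cj ρ (x ^ j) T v := by
          intro v hv T
          rw [cj_apply_apply, (hfix v hv j).2]
        rw [map_add, map_add, map_zero, (hfix a ha j).1, h2 b hb, h2 c hc, map_mul, h0] at h1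
        exact h1
      have e1 : (u 0 - u 1) (b + (u 0 + u 1) c) = 0 := by
        have h3 : (u 0 - u 1) * (u 0 + u 1) = u 0 * u 0 - u 1 * u 1 := by
          rw [sub_mul, mul_add, mul_add, hScomm _ (huS 1) _ (huS 0)]; abel
        rw [map_add, ← Module.End.mul_apply, h3, LinearMap.sub_apply, LinearMap.sub_apply]
        rw [show u 0 b - u 1 b + ((u 0 * u 0) c - (u 1 * u 1) c) =
          (a + u 0 b + (u 0 * u 0) c) - (a + u 1 b + (u 1 * u 1) c) by abel, hj 0, hj 1, sub_zero]
      have e2 : (u 0 - u 2) (b + (u 0 + u 2) c) = 0 := by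
        have h3 : (u 0 - u 2) * (u 0 + u 2) = u 0 * u 0 - u 2 * u 2 := by
          rw [sub_mul, mul_add, mul_add, hScomm _ (huS 2) _ (huS 0)]; abel
        rw [map_add, ← Module.End.mul_apply, h3, LinearMap.sub_apply, LinearMap.sub_apply]
        rw [show u 0 b - u 2 b + ((u 0 * u 0) c - (u 2 * u 2) c) =
          (a + u 0 b + (u 0 * u 0) c) - (a + u 2 b + (u 2 * u 2) c) by abel, hj 0, hj 2, sub_zero]
      have f1 := hinjv 0 1 (by norm_num) (by omega) _ e1
      have f2 := hinjv 0 2 (by norm_num) (by omega) _ e2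
      have f3 : (u 1 - u 2) c = 0 := by
        rw [LinearMap.sub_apply]
        have : (b + (u 0 + u 1) c) - (b + (u 0 + u 2) c) = 0 := by rw [f1, f2, sub_zero]
        simpa [LinearMap.add_apply] using this
      have hc0 := hinjv 1 2 (by norm_num) (by omega) _ f3
      subst hc0
      rw [map_zero, add_zero] at f1
      subst f1
      rw [map_zero, map_zero, add_zero, add_zero] at h
      subst h
      rfl
    have := LinearMap.finrank_le_finrank_of_injective hΦ
    rw [Module.finrank_prod, Module.finrank_prod] at this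
    omega
  · -- blocks
    push Not at hdom
    obtain ⟨s, hs, t, ht, hst, hs0, ht0⟩ := hdom
    obtain ⟨e₁, he₁, hspan⟩ := IsSemisimpleRing.ideal_eq_span_idempotent
      (Ideal.span {(⟨s, hs⟩ : S)})
    have hne0 : e₁ ≠ 0 := by
      rintro rfl
      have : (⟨s, hs⟩ : S) ∈ Ideal.span ({0} : Set S) := hspan ▸ Ideal.mem_span_singleton_self _
      rw [Ideal.span_singleton_zero, Ideal.mem_bot] at this
      exact hs0 (congrArg Subtype.val this)
    have hne1 : e₁ ≠ 1 := by
      rintro rfl
      have : (1 : S) ∈ Ideal.span ({⟨s, hs⟩} : Set S) := hspan ▸ Ideal.mem_span_singleton_self _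
      obtain ⟨w, hw⟩ := Ideal.mem_span_singleton'.mp this
      apply ht0
      have hw' := congrArg Subtype.val hw
      simp only [MulMemClass.coe_mul, OneMemClass.coe_one] at hw'
      rw [← one_mul t, ← hw', mul_assoc, hst, mul_zero]
    let Pr : Module.End k V → Prop := fun e => e ∈ S ∧ e * e = e ∧ e ≠ 0 ∧ e ≠ 1
    have hex : ∃ n, ∃ e, Pr e ∧ Module.finrank k (LinearMap.range e) = n :=
      ⟨_, (e₁ : Module.End k V), ⟨e₁.2, congrArg Subtype.val he₁, fun h => hne0 (Subtype.ext h),
        fun h => hne1 (Subtype.ext h)⟩, rfl⟩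
    obtain ⟨e, ⟨heS, hee, hene0, hene1⟩, hed⟩ := Nat.find_spec hex
    have hmin : ∀ f ∈ S, f * f = f → f * e = 0 ∨ f * e = e := by
      intro f hf hff
      by_cases hz : f * e = 0
      · exact Or.inl hz
      right
      have hef := hScomm e heS f hf
      have hidem : (f * e) * (f * e) = f * e := by
        rw [mul_assoc f e, ← mul_assoc e f, hef, mul_assoc f e e, hee, ← mul_assoc, hff]
      have hee' : e * (f * e) = f * e := by rw [← mul_assoc, hef, mul_assoc, hee]
      have h1 : f * e ≠ 1 := fun h => hene1 (by rw [h, mul_one] at hee'; exact hee')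
      have hle := Nat.find_min' hex ⟨f * e, ⟨S.mul_mem hf heS, hidem, hz, h1⟩, rfl⟩
      rw [← hed] at hle
      have hsub : LinearMap.range (f * e) ≤ LinearMap.range e := by
        rintro _ ⟨v, rfl⟩
        exact ⟨(f * e) v, congrArg (fun T : Module.End k V => T v) hee'⟩
      have heq := Submodule.eq_of_le_of_finrank_le hsub hle
      refine LinearMap.ext fun v => ?_
      obtain ⟨w, hw⟩ : e v ∈ LinearMap.range (f * e) := heq ▸ LinearMap.mem_range_self e v
      calc (f * e) v = (f * e) (e v) := by
            rw [← Module.End.mul_apply, mul_assoc, hee]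
        _ = e v := by rw [← hw, ← Module.End.mul_apply, hidem]
    let Lst : Subgroup K :=
      { carrier := {g | cj ρ g e = e}
        one_mem' := cj_one e
        mul_mem' := fun {a b} ha hb => by
          show cj ρ (a * b) e = e
          rw [cj_mul, hb, ha]
        inv_mem' := fun {a} ha => by
          show cj ρ a⁻¹ e = e
          conv_lhs => rw [← show cj ρ a e = e from ha]
          rw [← cj_mul, inv_mul_cancel, cj_one] }
    let blk : K ⧸ Lst → Module.End k V := fun c => Quotient.liftOn' c (fun g => cj ρ g e)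
      fun a b h => by
        rw [QuotientGroup.leftRel_apply] at h
        have h' : cj ρ (a⁻¹ * b) e = e := h
        conv_lhs => rw [← h']
        rw [← cj_mul, mul_inv_cancel_left]
    have hblk : ∀ g : K, blk (g : K ⧸ Lst) = cj ρ g e := fun g => rfl
    have hsmul : ∀ (g : K) c, blk (g • c) = cj ρ g (blk c) := by
      intro g c
      obtain ⟨h, rfl⟩ := QuotientGroup.mk_surjective c
      rw [MulAction.Quotient.smul_mk, smul_eq_mul, hblk, hblk, cj_mul]
    have hblkS : ∀ c, blk c ∈ S := by
      intro c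
      obtain ⟨h, rfl⟩ := QuotientGroup.mk_surjective c
      exact hScj h e heS
    have hidem : ∀ c, blk c * blk c = blk c := by
      intro c
      obtain ⟨h, rfl⟩ := QuotientGroup.mk_surjective c
      rw [hblk, ← map_mul, hee]
    have hbinj : Function.Injective blk := by
      intro c c' h
      obtain ⟨a, rfl⟩ := QuotientGroup.mk_surjective c
      obtain ⟨b, rfl⟩ := QuotientGroup.mk_surjective c'
      rw [hblk, hblk] at h
      refine QuotientGroup.eq.mpr ?_
      show cj ρ (a⁻¹ * b) e = e
      rw [cj_mul, ← h, ← cj_mul, inv_mul_cancel, cj_one]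
    have horth : ∀ c c', c ≠ c' → blk c * blk c' = 0 := by
      intro c c' hne
      have key : ∀ c c', blk c * blk c' = 0 ∨ blk c * blk c' = blk c' := by
        intro c c'
        obtain ⟨a, rfl⟩ := QuotientGroup.mk_surjective c
        obtain ⟨b, rfl⟩ := QuotientGroup.mk_surjective c'
        rcases hmin _ (hScj (b⁻¹ * a) e heS) (by rw [← map_mul, hee]) with h | h
        · left
          have := congrArg (cj ρ b) h
          rwa [map_mul, ← cj_mul, map_zero, mul_inv_cancel_left] at this
        · right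
          have := congrArg (cj ρ b) h
          rwa [map_mul, ← cj_mul, mul_inv_cancel_left] at this
      refine (key c c').resolve_right fun h => ?_
      rcases key c' c with h' | h'
      · rw [hScomm _ (hblkS c') _ (hblkS c), h] at h'
        obtain ⟨b, rfl⟩ := QuotientGroup.mk_surjective c'
        rw [hblk] at h'
        apply hene0
        have := congrArg (cj ρ b⁻¹) h'
        rwa [← cj_mul, inv_mul_cancel, cj_one, map_zero] at this
      · exact hne (hbinj (h'.symm.trans ((hScomm _ (hblkS c') _ (hblkS c)).trans h)))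
    haveI : Fintype (K ⧸ Lst) := Fintype.ofFinite _
    set σ := ∑ c, blk c with hσ
    have hσinv : ∀ g, ρ g * σ = σ * ρ g := fun g => by
      rw [← cj_eq_iff, hσ, map_sum]
      exact Fintype.sum_equiv (MulAction.toPerm g) _ _ fun c => (hsmul g c).symm
    have hσblk : ∀ c, σ * blk c = blk c := fun c => by
      rw [hσ, Finset.sum_mul, Finset.sum_eq_single c (fun c' _ hne => horth c' c hne) (by simp)]
      exact hidem c
    have hσσ : σ * σ = σ := by
      conv_lhs => arg 2; rw [hσ]
      rw [Finset.mul_sum, Finset.sum_congr rfl fun c _ => hσblk c]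
    have hblk1 : blk ((1 : K) : K ⧸ Lst) = e := by rw [hblk, cj_one]
    have hσ1 : σ = 1 := by
      have hσe : σ * e = e := hblk1 ▸ hσblk _
      have hinjσ := injective_of_commute hirr hσinv fun h => hene0 (by rw [← hσe, h, zero_mul])
      refine LinearMap.ext fun v => hinjσ ?_
      rw [← Module.End.mul_apply, hσσ, Module.End.one_apply]
    have hLst : Lst ≠ ⊤ := by
      intro h
      apply hene1
      rw [← hσ1, hσ]
      haveI : Subsingleton (K ⧸ Lst) := by rw [h]; exact QuotientGroup.subsingleton_quotient_top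
      rw [Finset.sum_eq_single ((1 : K) : K ⧸ Lst) (fun c _ hc => absurd (Subsingleton.elim _ _) hc)
        (by simp), hblk1]
    -- dimensions
    have hsplit : ∀ v, ∑ c, blk c v = v := fun v => by
      rw [← LinearMap.sum_apply, ← hσ, hσ1, Module.End.one_apply]
    let Ψ : V →ₗ[k] (c : K ⧸ Lst) → LinearMap.range (blk c) :=
      LinearMap.pi fun c => (blk c).rangeRestrict
    have hΨ : Function.Bijective Ψ := by
      constructor
      · intro v w h
        rw [← hsplit v, ← hsplit w]
        exact Finset.sum_congr rfl fun c _ => congrArg Subtype.val (congrFun h c)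
      · intro f
        refine ⟨∑ c, (f c : V), funext fun c => Subtype.ext ?_⟩
        show blk c (∑ c', (f c' : V)) = f c
        have hf : ∀ c', blk c' (f c') = (f c' : V) := fun c' => by
          obtain ⟨w, hw⟩ := (f c').2
          rw [← hw, ← Module.End.mul_apply, hidem]
        rw [map_sum, Finset.sum_eq_single c (fun c' _ hne => by
          rw [← hf c', ← Module.End.mul_apply, horth c c' hne.symm, LinearMap.zero_apply]) (by simp)]
        exact hf c
    set d := Module.finrank k (LinearMap.range e) with hd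
    have hdim : ∀ c, Module.finrank k (LinearMap.range (blk c)) = d := by
      intro c
      obtain ⟨g, rfl⟩ := QuotientGroup.mk_surjective c
      rw [hblk]
      let E : V ≃ₗ[k] V := LinearEquiv.ofLinearMap (ρ g) (ρ g⁻¹)
        (LinearMap.ext fun v => apply_inv_apply ρ g v)
        (LinearMap.ext fun v => by simpa using apply_inv_apply ρ g⁻¹ v)
      have : LinearMap.range (cj ρ g e) = (LinearMap.range e).map (E : V →ₗ[k] V) := by
        apply le_antisymm
        · rintro _ ⟨v, rfl⟩
          exact ⟨e (ρ g⁻¹ v), ⟨_, rfl⟩, (cj_apply_apply g e v).symm⟩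
        · rintro _ ⟨_, ⟨v, rfl⟩, rfl⟩
          refine ⟨ρ g v, ?_⟩
          rw [cj_apply_apply]
          show ρ g (e (ρ g⁻¹ (ρ g v))) = ρ g (e v)
          congr 2
          simpa using apply_inv_apply ρ g⁻¹ v
      rw [this, LinearEquiv.finrank_map_eq]
    have hndim : Module.finrank k V = Lst.index * d := by
      rw [(LinearEquiv.ofBijective Ψ hΨ).finrank_eq, Module.finrank_pi_fintype,
        Finset.sum_congr rfl fun c _ => hdim c, Finset.sum_const, Finset.card_univ, smul_eq_mul,
        ← Nat.card_eq_fintype_card]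
      rfl
    haveI : Fintype (Quotient (orbitRel (Subgroup.zpowers x) (K ⧸ Lst))) := Fintype.ofFinite _
    let Θ : fixedSub ρ x →ₗ[k] (t : Quotient (orbitRel (Subgroup.zpowers x) (K ⧸ Lst))) →
        LinearMap.range (blk t.out) :=
      LinearMap.pi fun t => (blk t.out).rangeRestrict.comp (fixedSub ρ x).subtype
    have hΘ : Function.Injective Θ := by
      rw [injective_iff_map_eq_zero]
      rintro ⟨v, hv⟩ h
      rw [mem_fixedSub] at hv
      refine Subtype.ext ?_
      show v = 0
      rw [← hsplit v]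
      refine Finset.sum_eq_zero fun c _ => ?_
      set t : Quotient (orbitRel (Subgroup.zpowers x) (K ⧸ Lst)) := Quotient.mk'' c
      have h1 : blk t.out v = 0 := congrArg Subtype.val (congrFun h t)
      obtain ⟨⟨g, hg⟩, hgc⟩ : c ∈ MulAction.orbit (Subgroup.zpowers x) t.out := by
        rw [← MulAction.orbitRel_apply]
        exact Quotient.exact' (Quotient.out_eq' t).symm
      have hgv : ρ g⁻¹ v = v := by
        obtain ⟨n, rfl⟩ := hg
        let St : Subgroup K :=
          { carrier := {g | ρ g v = v}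
            one_mem' := by simp
            mul_mem' := fun {a b} ha hb => by
              show ρ (a * b) v = v
              rw [map_mul, Module.End.mul_apply, hb, ha]
            inv_mem' := fun {a} ha => by
              show ρ a⁻¹ v = v
              conv_lhs => rw [← show ρ a v = v from ha]
              simpa using apply_inv_apply ρ a⁻¹ v }
        exact St.inv_mem (St.zpow_mem (show x ∈ St from hv) n)
      rw [← hgc]
      show blk (g • t.out) v = 0
      rw [hsmul, cj_apply_apply, hgv, h1, map_zero]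
    have hle := LinearMap.finrank_le_finrank_of_injective hΘ
    rw [Module.finrank_pi_fintype, Finset.sum_congr rfl fun t _ => hdim t.out, Finset.sum_const,
      Finset.card_univ, smul_eq_mul, ← Nat.card_eq_fintype_card] at hle
    have horb := mul_card_orbits (p := p) hx (O := K ⧸ Lst)
    have hfx := card_fixed (p := p) hx hgen hLst
    change p * Nat.card (Quotient (orbitRel (Subgroup.zpowers x) (K ⧸ Lst))) =
      (p - 1) * Nat.card {c : K ⧸ Lst // x • c = c} + Lst.index at horb
    set O := Lst.index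
    set F := Nat.card {c : K ⧸ Lst // x • c = c}
    set T := Nat.card (Quotient (orbitRel (Subgroup.zpowers x) (K ⧸ Lst)))
    have h1 : 2 * T < O := by
      have hO : 0 < O := Nat.pos_of_ne_zero Subgroup.index_ne_zero_of_finite
      obtain ⟨q, rfl⟩ : ∃ q, p = q + 1 := ⟨p - 1, by omega⟩
      rw [Nat.add_sub_cancel] at horb
      nlinarith
    have hd0 : 0 < d := by
      by_contra h
      rw [show d = 0 by omega, mul_zero] at hndim
      omega
    calc 2 * Module.finrank k (fixedSub ρ x) ≤ 2 * (T * d) := Nat.mul_le_mul_left _ hle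
      _ < O * d := by rw [← mul_assoc]; exact Nat.mul_lt_mul_of_pos_right h1 hd0
      _ = _ := hndim.symm

end linear

section pieces

variable {K : Type u} [Group K] {k : Type v} [Field k] {V : Type w} [AddCommGroup V] [Module k V]
variable {ρ : K →* Module.End k V}

/-- Conjugation on a normal subgroup modulo its centre. -/
def conjQ (A : Subgroup K) [A.Normal] (g : K) :
    (↥A ⧸ Subgroup.center ↥A) →* ↥A ⧸ Subgroup.center ↥A :=
  QuotientGroup.map _ _ (MulAut.conjNormal (H := A) g).toMonoidHom fun a ha => by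
    rw [Subgroup.mem_comap, Subgroup.mem_center_iff]
    intro b
    have h := congrArg (MulAut.conjNormal (H := A) g)
      (Subgroup.mem_center_iff.mp ha ((MulAut.conjNormal (H := A) g).symm b))
    simpa using h

theorem conjQ_mk (A : Subgroup K) [A.Normal] (g : K) (a : A) :
    conjQ A g (a : ↥A ⧸ Subgroup.center ↥A) =
      ((MulAut.conjNormal (H := A) g a : A) : ↥A ⧸ Subgroup.center ↥A) := rfl

/-- The action by conjugation on a normal subgroup modulo its centre. -/
@[reducible]
def conjAction (A : Subgroup K) [A.Normal] : MulAction K (↥A ⧸ Subgroup.center ↥A) where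
  smul g q := conjQ A g q
  one_smul q := by
    obtain ⟨a, rfl⟩ := QuotientGroup.mk_surjective q
    show conjQ A 1 _ = _
    rw [conjQ_mk, map_one]
    rfl
  mul_smul g h q := by
    obtain ⟨a, rfl⟩ := QuotientGroup.mk_surjective q
    show conjQ A (g * h) _ = conjQ A g (conjQ A h _)
    rw [conjQ_mk, conjQ_mk, conjQ_mk, map_mul]
    rfl

/-- Conjugation by `A` splits the endomorphisms into pieces indexed by `A` modulo its centre. -/
theorem card_mul_le [Finite K] [FiniteDimensional k V] [Nontrivial V] (hinj : Function.Injective ρ)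
    (A : Subgroup K) [A.Normal] (hA' : ∀ a b : A, ⁅a, b⁆ ∈ Subgroup.center ↥A)
    (hsc : ∀ z : A, z ∈ Subgroup.center ↥A → ∃ μ : k, ρ (z : K) = μ • 1)
    (hM : (Nat.card (↥A ⧸ Subgroup.center ↥A) : k) ≠ 0) {x : K} (hx1 : x ≠ 1) :
    letI := conjAction A
    Nat.card (↥A ⧸ Subgroup.center ↥A) *
        (Module.finrank k (fixedSub ρ x) * Module.finrank k (fixedSub ρ x) + 1) ≤
      Nat.card (Quotient (orbitRel (Subgroup.zpowers x) (↥A ⧸ Subgroup.center ↥A))) *
        (Module.finrank k V * Module.finrank k V) := by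
  classical
  letI := conjAction A
  haveI : Fintype (↥A ⧸ Subgroup.center ↥A) := Fintype.ofFinite _
  haveI : Fintype (Quotient (orbitRel (Subgroup.zpowers x) (↥A ⧸ Subgroup.center ↥A))) :=
    Fintype.ofFinite _
  have h1ne : (1 : Module.End k V) ≠ 0 := one_ne_zero
  choose ω hω using fun a b : A => hsc _ (hA' a b)
  have huniq : ∀ μ ν : k, μ • (1 : Module.End k V) = ν • 1 → μ = ν := fun μ ν h =>
    smul_left_injective k h1ne h
  have hcom : ∀ a b : A, ((⁅a, b⁆ : A) : K) = a * b * (a : K)⁻¹ * (b : K)⁻¹ := fun a b => by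
    simp [commutatorElement_def]
  have hcenK : ∀ z : A, z ∈ Subgroup.center ↥A → ∀ g : A, g * z * g⁻¹ = z := fun z hz g => by
    rw [Subgroup.mem_center_iff.mp hz g, mul_inv_cancel_right]
  have hωl : ∀ a b c : A, ω (a * b) c = ω a c * ω b c := by
    intro a b c
    have h : ⁅a * b, c⁆ = ⁅a, c⁆ * ⁅b, c⁆ := by
      calc ⁅a * b, c⁆ = a * ⁅b, c⁆ * a⁻¹ * ⁅a, c⁆ := by simp only [commutatorElement_def]; group
        _ = ⁅b, c⁆ * ⁅a, c⁆ := by rw [hcenK _ (hA' b c)]
        _ = ⁅a, c⁆ * ⁅b, c⁆ := Subgroup.mem_center_iff.mp (hA' a c) _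
    apply huniq
    rw [← hω, h, Subgroup.coe_mul, map_mul, hω, hω, smul_mul_smul_comm, mul_one]
  have hωr : ∀ a b c : A, ω a (b * c) = ω a b * ω a c := by
    intro a b c
    have h : ⁅a, b * c⁆ = ⁅a, b⁆ * ⁅a, c⁆ := by
      calc ⁅a, b * c⁆ = ⁅a, b⁆ * (b * ⁅a, c⁆ * b⁻¹) := by simp only [commutatorElement_def]; group
        _ = ⁅a, b⁆ * ⁅a, c⁆ := by rw [hcenK _ (hA' a c)]
    apply huniq
    rw [← hω, h, Subgroup.coe_mul, map_mul, hω, hω, smul_mul_smul_comm, mul_one]
  have hω1 : ∀ a b : A, a * b = b * a → ω a b = 1 := by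
    intro a b h
    apply huniq
    rw [← hω, show ⁅a, b⁆ = 1 from commutatorElement_eq_one_iff_mul_comm.mpr h, Subgroup.coe_one,
      map_one, one_smul]
  have hωzl : ∀ z b : A, z ∈ Subgroup.center ↥A → ω z b = 1 := fun z b hz =>
    hω1 z b (Subgroup.mem_center_iff.mp hz b).symm
  have hωzr : ∀ b z : A, z ∈ Subgroup.center ↥A → ω b z = 1 := fun b z hz =>
    hω1 b z (Subgroup.mem_center_iff.mp hz b)
  have hωconj : ∀ (g : K) (a b : A),
      ω (MulAut.conjNormal g a) (MulAut.conjNormal g b) = ω a b := by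
    intro g a b
    apply huniq
    rw [← hω, ← map_commutatorElement, MulAut.conjNormal_apply, ← cj_ρ, hω, map_smul, map_one]
  -- the pairing on the quotient
  let Q := ↥A ⧸ Subgroup.center ↥A
  let w : Q → Q → k := fun α β => ω α.out β.out
  have hw : ∀ a b : A, w (a : Q) (b : Q) = ω a b := by
    intro a b
    obtain ⟨z, hz⟩ := QuotientGroup.mk_out_eq_mul (Subgroup.center ↥A) a
    obtain ⟨z', hz'⟩ := QuotientGroup.mk_out_eq_mul (Subgroup.center ↥A) b
    show ω (a : Q).out (b : Q).out = ω a b
    rw [hz, hz', hωl, hωzl _ _ z.2, mul_one, hωr, hωzr _ _ z'.2, mul_one]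
  have hwl : ∀ α β γ, w (α * β) γ = w α γ * w β γ := by
    intro α β γ
    obtain ⟨a, rfl⟩ := QuotientGroup.mk_surjective α
    obtain ⟨b, rfl⟩ := QuotientGroup.mk_surjective β
    obtain ⟨c, rfl⟩ := QuotientGroup.mk_surjective γ
    rw [← QuotientGroup.mk_mul, hw, hw, hw, hωl]
  have hwr : ∀ α β γ, w α (β * γ) = w α β * w α γ := by
    intro α β γ
    obtain ⟨a, rfl⟩ := QuotientGroup.mk_surjective α
    obtain ⟨b, rfl⟩ := QuotientGroup.mk_surjective β
    obtain ⟨c, rfl⟩ := QuotientGroup.mk_surjective γ
    rw [← QuotientGroup.mk_mul, hw, hw, hw, hωr]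
  have hw1l : ∀ β : Q, w 1 β = 1 := by
    intro β
    obtain ⟨b, rfl⟩ := QuotientGroup.mk_surjective β
    rw [← QuotientGroup.mk_one, hw, hω1 1 b (by simp)]
  have hw1r : ∀ α : Q, w α 1 = 1 := by
    intro α
    obtain ⟨a, rfl⟩ := QuotientGroup.mk_surjective α
    rw [← QuotientGroup.mk_one, hw, hω1 a 1 (by simp)]
  have hwne : ∀ α β, w α β ≠ 0 := fun α β h => by
    have := hwl α⁻¹ α β
    rw [h, mul_zero, inv_mul_cancel, hw1l] at this
    exact one_ne_zero this
  have hwii : ∀ α β, w α⁻¹ β⁻¹ = w α β := fun α β => by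
    have h1 : w α⁻¹ β⁻¹ * w α β⁻¹ = 1 := by rw [← hwl, inv_mul_cancel, hw1l]
    have h2 : w α β * w α β⁻¹ = 1 := by rw [← hwr, mul_inv_cancel, hw1r]
    exact mul_right_cancel₀ (hwne α β⁻¹) (h1.trans h2.symm)
  have hnd : ∀ q : Q, q ≠ 1 → (∃ γ, w γ q ≠ 1) ∧ ∃ γ, w q γ ≠ 1 := by
    intro q hq
    obtain ⟨a, rfl⟩ := QuotientGroup.mk_surjective q
    have ha : a ∉ Subgroup.center ↥A := fun h => hq ((QuotientGroup.eq_one_iff a).mpr h)
    simp only [Subgroup.mem_center_iff, not_forall] at ha
    obtain ⟨b, hb⟩ := ha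
    have key : ∀ c d : A, c * d ≠ d * c → ω c d ≠ 1 := by
      intro c d hne h
      refine hne (commutatorElement_eq_one_iff_mul_comm.mp (Subtype.ext (hinj ?_)))
      rw [hω, h, one_smul, Subgroup.coe_one, map_one]
    exact ⟨⟨(b : Q), by rw [hw]; exact key b a hb⟩,
      ⟨(b : Q), by rw [hw]; exact key a b (Ne.symm hb)⟩⟩
  have hsum : ∀ q : Q, (∑ γ, w γ q = if q = 1 then (Nat.card Q : k) else 0) ∧
      (∑ γ, w q γ = if q = 1 then (Nat.card Q : k) else 0) := by
    intro q
    by_cases hq : q = 1
    · simp [hq, hw1l, hw1r]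
    · rw [if_neg hq]
      obtain ⟨⟨γ₀, h₀⟩, γ₁, h₁⟩ := hnd q hq
      constructor
      · have : ∑ γ, w γ q = w γ₀ q * ∑ γ, w γ q := by
          rw [Finset.mul_sum]
          refine (Fintype.sum_equiv (Equiv.mulLeft γ₀) _ _ fun γ => ?_).symm
          rw [Equiv.coe_mulLeft, hwl]
        by_contra hne
        exact h₀ (mul_right_cancel₀ hne (this.symm.trans (one_mul _).symm))
      · have : ∑ γ, w q γ = w q γ₁ * ∑ γ, w q γ := by
          rw [Finset.mul_sum]
          refine (Fintype.sum_equiv (Equiv.mulLeft γ₁) _ _ fun γ => ?_).symm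
          rw [Equiv.coe_mulLeft, hwr]
        by_contra hne
        exact h₁ (mul_right_cancel₀ hne (this.symm.trans (one_mul _).symm))
  -- conjugation depends on the classes only
  let cA : Q → Module.End k V →ₐ[k] Module.End k V := fun α => cj ρ ((α.out : A) : K)
  have hcA : ∀ (a : A) T, cA (a : Q) T = cj ρ (a : K) T := by
    intro a T
    obtain ⟨z, hz⟩ := QuotientGroup.mk_out_eq_mul (Subgroup.center ↥A) a
    obtain ⟨μ, hμ⟩ := hsc z z.2
    show cj ρ (((a : Q).out : A) : K) T = _
    rw [hz, Subgroup.coe_mul, cj_mul]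
    congr 1
    rw [cj_eq_iff, hμ, smul_mul_assoc, one_mul, mul_smul_comm, mul_one]
  -- the pieces
  let E : Q → Submodule k (Module.End k V) := fun α =>
    ⨅ b : A, LinearMap.ker ((cj ρ (b : K)).toLinearMap - w (b : Q) α • LinearMap.id)
  have hE : ∀ α T, T ∈ E α ↔ ∀ b : A, cj ρ (b : K) T = w (b : Q) α • T := fun α T => by
    simp [E, Submodule.mem_iInf, sub_eq_zero]
  have hρE : ∀ a : A, ρ (a : K) ∈ E (a : Q) := fun a => (hE _ _).mpr fun b => by
    rw [cj_ρ, hw, show (b : K) * a * (b : K)⁻¹ = ((⁅b, a⁆ : A) : K) * a by rw [hcom]; group,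
      map_mul, hω, smul_mul_assoc, one_mul]
  let π : Q → Module.End k V →ₗ[k] Module.End k V := fun α =>
    ∑ γ, w γ α⁻¹ • (cA γ).toLinearMap
  have hπ : ∀ α T, π α T = ∑ γ, w γ α⁻¹ • cA γ T := fun α T => by simp [π]
  have hπE : ∀ α T, π α T ∈ E α := by
    intro α T
    refine (hE _ _).mpr fun b => ?_
    rw [hπ, map_sum, Finset.smul_sum]
    refine Fintype.sum_equiv (Equiv.mulLeft (b : Q)) _ _ fun γ => ?_
    obtain ⟨c, rfl⟩ := QuotientGroup.mk_surjective γ
    rw [Equiv.coe_mulLeft, map_smul, hcA, ← cj_mul, ← Subgroup.coe_mul, ← hcA, smul_smul, hwl,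
      QuotientGroup.mk_mul, ← mul_assoc, ← hwr, mul_inv_cancel, hw1r, one_mul]
  have hπid : ∀ T, ∑ α, π α T = (Nat.card Q : k) • T := by
    intro T
    simp only [hπ]
    rw [Finset.sum_comm]
    have : ∀ γ, ∑ α, w γ α⁻¹ • cA γ T = if γ = 1 then (Nat.card Q : k) • T else 0 := by
      intro γ
      rw [← Finset.sum_smul, Fintype.sum_equiv (Equiv.inv Q) (fun α => w γ α⁻¹) (fun α => w γ α)
        (fun α => rfl), (hsum γ).2]
      split_ifs with h
      · subst h; rw [← QuotientGroup.mk_one, hcA, Subgroup.coe_one, cj_one]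
      · rw [zero_smul]
    rw [Finset.sum_congr rfl fun γ _ => this γ,
      Finset.sum_eq_single (1 : Q) (fun γ _ hγ => if_neg hγ) (by simp), if_pos rfl]
  have hπδ : ∀ α β T, T ∈ E α → π β T = if α = β then (Nat.card Q : k) • T else 0 := by
    intro α β T hT
    rw [hπ]
    have : ∀ γ, w γ β⁻¹ • cA γ T = w γ (α * β⁻¹) • T := by
      intro γ
      obtain ⟨c, rfl⟩ := QuotientGroup.mk_surjective γ
      rw [hcA, (hE _ _).mp hT c, smul_smul, hwr, mul_comm]
    rw [Finset.sum_congr rfl fun γ _ => this γ, ← Finset.sum_smul, (hsum _).1]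
    by_cases h : α = β
    · rw [if_pos h, if_pos (by rw [h, mul_inv_cancel])]
    · rw [if_neg h, if_neg (fun h' => h (mul_inv_eq_one.mp h')), zero_smul]
  -- the dimensions of the pieces
  set C₁ := E 1
  have hEle : ∀ α, Module.finrank k (E α) ≤ Module.finrank k C₁ := by
    intro α
    obtain ⟨a, rfl⟩ := QuotientGroup.mk_surjective α
    let m : E (a : Q) →ₗ[k] C₁ := LinearMap.codRestrict C₁
      ((LinearMap.mulLeft k (ρ ((a⁻¹ : A) : K))).comp (E (a : Q)).subtype) fun T => by
        refine (hE _ _).mpr fun b => ?_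
        show cj ρ (b : K) (ρ ((a⁻¹ : A) : K) * (T : Module.End k V)) =
          w (b : Q) 1 • (ρ ((a⁻¹ : A) : K) * (T : Module.End k V))
        rw [map_mul, (hE _ _).mp (hρE a⁻¹) b, (hE _ _).mp T.2 b, smul_mul_smul_comm, ← hwr,
          ← QuotientGroup.mk_mul, inv_mul_cancel, QuotientGroup.mk_one]
    refine LinearMap.finrank_le_finrank_of_injective (f := m) fun S T h => Subtype.ext ?_
    have h' := congrArg (fun U : C₁ => ρ (a : K) * (U : Module.End k V)) h
    change ρ (a : K) * (ρ ((a⁻¹ : A) : K) * (S : Module.End k V)) =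
      ρ (a : K) * (ρ ((a⁻¹ : A) : K) * (T : Module.End k V)) at h'
    simpa [← mul_assoc, ← map_mul] using h'
  have hbig : Nat.card Q * Module.finrank k C₁ ≤ Module.finrank k V * Module.finrank k V := by
    let Φ : (Q → C₁) →ₗ[k] Module.End k V :=
      ∑ α, (LinearMap.mulLeft k (ρ ((α.out : A) : K))).comp (C₁.subtype.comp (LinearMap.proj α))
    have hΦ : Function.Injective Φ := by
      rw [injective_iff_map_eq_zero]
      intro f hf
      funext β
      have hmem : ∀ α, ρ ((α.out : A) : K) * (f α : Module.End k V) ∈ E α := by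
        intro α
        refine (hE _ _).mpr fun b => ?_
        rw [map_mul, (hE _ _).mp (hρE α.out) b, (hE _ _).mp (f α).2 b, smul_mul_smul_comm,
          ← hwr, mul_one, QuotientGroup.out_eq']
      have h := congrArg (π β) hf
      simp only [Φ, LinearMap.sum_apply, LinearMap.comp_apply, LinearMap.mulLeft_apply,
        LinearMap.proj_apply, Submodule.coe_subtype, map_sum, map_zero] at h
      rw [Finset.sum_congr rfl fun α _ => hπδ α β _ (hmem α),
        Finset.sum_ite_eq' _ _ _, if_pos (Finset.mem_univ _), smul_eq_zero] at h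
      have h0 := h.resolve_left hM
      refine Subtype.ext ?_
      show (f β : Module.End k V) = 0
      have h' := congrArg (fun U => ρ ((β.out : A) : K)⁻¹ * U) h0
      simpa [← mul_assoc, ← map_mul] using h'
    have := LinearMap.finrank_le_finrank_of_injective hΦ
    rwa [Module.finrank_pi_fintype, Finset.sum_const, Finset.card_univ, smul_eq_mul,
      Module.finrank_linearMap, ← Nat.card_eq_fintype_card] at this
  -- the centraliser of x
  let Cx : Submodule k (Module.End k V) := LinearMap.ker ((cj ρ x).toLinearMap - LinearMap.id)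
  have hCx : ∀ T, T ∈ Cx ↔ cj ρ x T = T := fun T => by simp [Cx, sub_eq_zero]
  have hlow : Module.finrank k (fixedSub ρ x) * Module.finrank k (fixedSub ρ x) + 1 ≤
      Module.finrank k Cx := by
    set R := LinearMap.range (ρ x - 1)
    let m : ((V ⧸ R) →ₗ[k] fixedSub ρ x) × k →ₗ[k] Cx := LinearMap.codRestrict Cx
      (((LinearMap.compRight k (fixedSub ρ x).subtype).comp (LinearMap.lcomp k _ R.mkQ)).coprod
        (LinearMap.toSpanSingleton k _ (1 : Module.End k V))) fun φt => by
        obtain ⟨φ, t⟩ := φt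
        rw [hCx, cj_eq_iff]
        refine LinearMap.ext fun v => ?_
        show ρ x ((φ (R.mkQ v) : V) + t • v) = (φ (R.mkQ (ρ x v)) : V) + t • ρ x v
        rw [map_add, map_smul, mem_fixedSub.mp (φ (R.mkQ v)).2,
          show R.mkQ (ρ x v) = R.mkQ v from (Submodule.Quotient.eq R).mpr ⟨v, rfl⟩]
    have hm : Function.Injective m := by
      rw [injective_iff_map_eq_zero]
      rintro ⟨φ, t⟩ h
      have h' : ∀ v, (φ (R.mkQ v) : V) + t • v = 0 := fun v =>
        congrArg (fun U : Cx => (U : Module.End k V) v) h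
      obtain ⟨v₀, hv₀⟩ : ∃ v, (ρ x - 1) v ≠ 0 := by
        by_contra hcon
        push Not at hcon
        refine hx1 (hinj ?_)
        rw [map_one, ← sub_eq_zero]
        exact LinearMap.ext hcon
      have ht : t = 0 := by
        have := h' ((ρ x - 1) v₀)
        rw [show R.mkQ ((ρ x - 1) v₀) = 0 from
          (Submodule.Quotient.mk_eq_zero R).mpr ⟨v₀, rfl⟩, map_zero, Submodule.coe_zero, zero_add,
          smul_eq_zero] at this
        exact this.resolve_right hv₀
      subst ht
      refine Prod.ext (LinearMap.ext fun q => ?_) rfl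
      obtain ⟨v, rfl⟩ := R.mkQ_surjective q
      refine Subtype.ext ?_
      simpa using h' v
    have := LinearMap.finrank_le_finrank_of_injective hm
    rw [Module.finrank_prod, Module.finrank_linearMap, Module.finrank_self] at this
    have h1 := R.finrank_quotient_add_finrank
    have h2 : Module.finrank k R + Module.finrank k (fixedSub ρ x) = Module.finrank k V :=
      LinearMap.finrank_range_add_finrank_ker (ρ x - 1)
    rw [show Module.finrank k (V ⧸ R) = Module.finrank k (fixedSub ρ x) by omega] at this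
    exact this
  have hup : Module.finrank k Cx ≤
      Nat.card (Quotient (orbitRel (Subgroup.zpowers x) Q)) * Module.finrank k C₁ := by
    let Θ : Cx →ₗ[k] (t : Quotient (orbitRel (Subgroup.zpowers x) Q)) → E t.out :=
      LinearMap.pi fun t => LinearMap.codRestrict (E t.out) ((π t.out).comp Cx.subtype)
        fun T => hπE _ _
    have hΘ : Function.Injective Θ := by
      rw [injective_iff_map_eq_zero]
      rintro ⟨T, hT⟩ h
      rw [hCx] at hT
      refine Subtype.ext ?_
      show T = 0
      refine (smul_eq_zero.mp ?_).resolve_left hM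
      rw [← hπid]
      refine Finset.sum_eq_zero fun α _ => ?_
      set t : Quotient (orbitRel (Subgroup.zpowers x) Q) := Quotient.mk'' α
      have h1 : π t.out T = 0 := congrArg Subtype.val (congrFun h t)
      obtain ⟨⟨g, hg⟩, hgα⟩ : α ∈ MulAction.orbit (Subgroup.zpowers x) t.out := by
        rw [← MulAction.orbitRel_apply]
        exact Quotient.exact' (Quotient.out_eq' t).symm
      have hgT : cj ρ g T = T := by
        obtain ⟨n, rfl⟩ := hg
        let St : Subgroup K :=
          { carrier := {g | cj ρ g T = T}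
            one_mem' := cj_one T
            mul_mem' := fun {a b} ha hb => by
              show cj ρ (a * b) T = T
              rw [cj_mul, hb, ha]
            inv_mem' := fun {a} ha => by
              show cj ρ a⁻¹ T = T
              conv_lhs => rw [← show cj ρ a T = T from ha]
              rw [← cj_mul, inv_mul_cancel, cj_one] }
        exact St.zpow_mem (show x ∈ St from hT) n
      have hgπ : π (g • t.out) T = cj ρ g (π t.out T) := by
        conv_lhs => rw [← hgT]
        rw [hπ, hπ, map_sum]
        refine (Fintype.sum_equiv (MulAction.toPerm g) _ _ fun γ => ?_).symm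
        show cj ρ g (w γ t.out⁻¹ • cA γ T) =
          w (conjQ A g γ) (conjQ A g t.out)⁻¹ • cA (conjQ A g γ) (cj ρ g T)
        rw [← map_inv (conjQ A g)]
        generalize t.out⁻¹ = β
        obtain ⟨c, rfl⟩ := QuotientGroup.mk_surjective γ
        obtain ⟨b, rfl⟩ := QuotientGroup.mk_surjective β
        rw [conjQ_mk, conjQ_mk, hw, hw, hωconj, map_smul, hcA, hcA, MulAut.conjNormal_apply,
          ← cj_mul, ← cj_mul, inv_mul_cancel_right]
      rw [← hgα]
      show π (g • t.out) T = 0
      rw [hgπ, h1, map_zero]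
    have := LinearMap.finrank_le_finrank_of_injective hΘ
    rw [Module.finrank_pi_fintype] at this
    refine this.trans ((Finset.sum_le_sum fun t _ => hEle t.out).trans (le_of_eq ?_))
    rw [Finset.sum_const, Finset.card_univ, smul_eq_mul, ← Nat.card_eq_fintype_card]
  calc Nat.card Q * (Module.finrank k (fixedSub ρ x) * Module.finrank k (fixedSub ρ x) + 1)
      ≤ Nat.card Q * (Nat.card (Quotient (orbitRel (Subgroup.zpowers x) Q)) *
          Module.finrank k C₁) := Nat.mul_le_mul_left _ (hlow.trans hup)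
    _ = Nat.card (Quotient (orbitRel (Subgroup.zpowers x) Q)) *
          (Nat.card Q * Module.finrank k C₁) := by ring
    _ ≤ _ := Nat.mul_le_mul_left _ hbig

end pieces

section main

variable {K : Type u} [Group K] {k : Type v} [Field k] {V : Type w} [AddCommGroup V] [Module k V]
variable {ρ : K →* Module.End k V} {p : ℕ} [hp : Fact p.Prime]

/-- A minimal normal noncentral subgroup is abelian or a special group. -/
theorem exists_special [Finite K] [Group.IsSolvable K] (hne : Subgroup.center K ≠ ⊤) :
    ∃ A : Subgroup K, A.Normal ∧ ¬ A ≤ Subgroup.center K ∧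
      (∀ N : Subgroup K, N.Normal → N ≤ A → ¬ N ≤ Subgroup.center K → N = A) ∧
      ∃ r : ℕ, r.Prime ∧ IsPGroup r A ∧
        (Subgroup.center ↥A ≠ ⊤ →
          (∀ a b : A, ⁅a, b⁆ ∈ Subgroup.center ↥A) ∧
          (∀ z : A, z ∈ Subgroup.center ↥A → (z : K) ∈ Subgroup.center K) ∧
          ∀ a : A, a ^ r ∈ Subgroup.center ↥A) := by
  classical
  let Pr : ℕ → Prop := fun n =>
    ∃ N : Subgroup K, N.Normal ∧ ¬ N ≤ Subgroup.center K ∧ Nat.card N = n
  have hex : ∃ n, Pr n := ⟨_, ⊤, inferInstance, fun h => hne (top_le_iff.mp h), rfl⟩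
  obtain ⟨A, hAn, hAnc, hAc⟩ := Nat.find_spec hex
  have hmin : ∀ N : Subgroup K, N.Normal → N ≤ A → ¬ N ≤ Subgroup.center K → N = A := by
    intro N hN hle hnc
    have h := Nat.find_min' hex ⟨N, hN, hnc, rfl⟩
    rw [← hAc] at h
    exact Subgroup.eq_of_le_of_card_ge hle h
  haveI := hAn
  have hcomm : ∀ a b : A, (⁅a, b⁆ : A) ∈ (Subgroup.center K).subgroupOf A := by
    have hle : ⁅A, A⁆ ≤ Subgroup.center K := by
      by_contra hle
      have he := hmin ⁅A, A⁆ inferInstance (Subgroup.commutator_le_self A) hle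
      obtain ⟨n, hn⟩ := Group.IsSolvable.solvable (G := K)
      have hall : ∀ i, A ≤ derivedSeries K i := by
        intro i
        induction i with
        | zero => simp
        | succ i ih => rw [derivedSeries_succ, ← he]; exact Subgroup.commutator_mono ih ih
      exact hAnc (((hall n).trans hn.le).trans bot_le)
    intro a b
    rw [Subgroup.mem_subgroupOf]
    have := hle (Subgroup.commutator_mem_commutator a.2 b.2)
    simpa [commutatorElement_def] using this
  have hsub : (Subgroup.center K).subgroupOf A ≤ Subgroup.center ↥A := by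
    intro z hz
    rw [Subgroup.mem_center_iff]
    exact fun g => Subtype.ext (Subgroup.mem_center_iff.mp (Subgroup.mem_subgroupOf.mp hz) g)
  have hA' : ∀ a b : A, ⁅a, b⁆ ∈ Subgroup.center ↥A := fun a b => hsub (hcomm a b)
  haveI : Group.IsNilpotent ↥A := by
    letI : CommGroup (↥A ⧸ Subgroup.center ↥A) :=
      { (inferInstance : Group (↥A ⧸ Subgroup.center ↥A)) with
        mul_comm := fun a b => by
          obtain ⟨a, rfl⟩ := QuotientGroup.mk_surjective a
          obtain ⟨b, rfl⟩ := QuotientGroup.mk_surjective b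
          rw [← commutatorElement_eq_one_iff_mul_comm]
          exact (map_commutatorElement (QuotientGroup.mk' _) a b).symm.trans
            ((QuotientGroup.eq_one_iff _).mpr (hA' a b)) }
    exact Group.of_quotient_center_nilpotent inferInstance
  set Z := (Subgroup.center K).subgroupOf A
  have hZ : Z.index ≠ 1 := fun h =>
    hAnc (Subgroup.subgroupOf_eq_top.mp (Subgroup.index_eq_one.mp h))
  obtain ⟨r, hr, hrd⟩ := Nat.exists_prime_and_dvd hZ
  haveI : Fact r.Prime := ⟨hr⟩
  obtain ⟨S⟩ : Nonempty (Sylow r A) := inferInstance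
  have hSn : (S : Subgroup A).Normal :=
    ((Group.isNilpotent_of_finite_tfae (G := A)).out 0 3 rfl rfl).mp ‹_› r ⟨hr⟩ S
  haveI := Sylow.characteristic_of_normal S hSn
  have hS : (S : Subgroup A).map A.subtype = A := by
    refine hmin _ inferInstance (Subgroup.map_subtype_le _) fun hle => ?_
    have hSZ : (S : Subgroup A) ≤ Z := fun a ha =>
      Subgroup.mem_subgroupOf.mpr (hle ⟨a, ha, rfl⟩)
    exact S.not_dvd_index (hrd.trans (Subgroup.index_dvd_of_le hSZ))
  have hpg : IsPGroup r A := hS ▸ S.2.map A.subtype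
  refine ⟨A, hAn, hAnc, hmin, r, hr, hpg, fun hnab => ?_⟩
  have hcen : ∀ z : A, z ∈ Subgroup.center ↥A → (z : K) ∈ Subgroup.center K := by
    intro z hz
    by_contra hzc
    refine hnab ?_
    have he := hmin ((Subgroup.center ↥A).map A.subtype) inferInstance (Subgroup.map_subtype_le _)
      fun hle => hzc (hle ⟨z, hz, rfl⟩)
    rw [eq_top_iff]
    intro a _
    obtain ⟨b, hb, hba⟩ : (a : K) ∈ (Subgroup.center ↥A).map A.subtype := he.symm ▸ a.2
    rwa [show a = b from Subtype.ext hba.symm]
  refine ⟨hA', hcen, ?_⟩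
  let Ω : Subgroup A :=
    { carrier := {a | a ^ r ∈ Subgroup.center ↥A}
      one_mem' := by simp
      mul_mem' := fun {a b} ha hb => by
        show (a * b) ^ r ∈ Subgroup.center ↥A
        rw [← QuotientGroup.eq_one_iff, QuotientGroup.mk_pow, QuotientGroup.mk_mul, Commute.mul_pow,
          ← QuotientGroup.mk_pow, ← QuotientGroup.mk_pow, (QuotientGroup.eq_one_iff _).mpr ha,
          (QuotientGroup.eq_one_iff _).mpr hb, mul_one]
        exact commutatorElement_eq_one_iff_mul_comm.mp ((map_commutatorElement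
          (QuotientGroup.mk' _) a b).symm.trans ((QuotientGroup.eq_one_iff _).mpr (hA' a b)))
      inv_mem' := fun {a} ha => by
        show a⁻¹ ^ r ∈ Subgroup.center ↥A
        rw [inv_pow]
        exact inv_mem ha }
  have hΩn : (Ω.map A.subtype).Normal := ⟨by
    rintro _ ⟨a, ha, rfl⟩ g
    refine ⟨MulAut.conjNormal g a, ?_, MulAut.conjNormal_apply g a⟩
    show MulAut.conjNormal g a ^ r ∈ Subgroup.center ↥A
    rw [← map_pow, Subgroup.mem_center_iff]
    intro b
    have h := congrArg (MulAut.conjNormal (H := A) g)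
      (Subgroup.mem_center_iff.mp ha ((MulAut.conjNormal (H := A) g).symm b))
    simpa using h⟩
  have hΩ := hmin _ hΩn (Subgroup.map_subtype_le _) fun hle => by
    obtain ⟨n, hn⟩ := IsPGroup.iff_card.mp (hpg.to_quotient (Subgroup.center ↥A))
    have hn0 : n ≠ 0 := by
      rintro rfl
      exact hnab (Subgroup.index_eq_one.mp (by rw [Subgroup.index]; simpa using hn))
    obtain ⟨q, hq⟩ := exists_prime_orderOf_dvd_card' (G := ↥A ⧸ Subgroup.center ↥A) r
      (hn ▸ dvd_pow_self r hn0)
    obtain ⟨a, rfl⟩ := QuotientGroup.mk_surjective q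
    have haΩ : a ^ r ∈ Subgroup.center ↥A := by
      rw [← QuotientGroup.eq_one_iff, QuotientGroup.mk_pow, ← hq, pow_orderOf_eq_one]
    have ha : a ∈ Subgroup.center ↥A :=
      hsub (Subgroup.mem_subgroupOf.mpr (hle ⟨a, haΩ, rfl⟩))
    rw [(QuotientGroup.eq_one_iff a).mpr ha, orderOf_one] at hq
    exact hr.one_lt.ne hq
  intro a
  obtain ⟨b, hb, hba⟩ : (a : K) ∈ Ω.map A.subtype := hΩ.symm ▸ a.2
  rw [show a = b from Subtype.ext hba.symm]
  exact hb

/-- The bound for representations over the prime field of groups of order less than `m`. -/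
def Below (p m : ℕ) [Fact p.Prime] : Prop :=
  ∀ (H : Type u) [Group H] [Finite H], Group.IsSolvable H → Nat.card H < m →
    ∀ (W : Type u) [AddCommGroup W] [Module (ZMod p) W] [FiniteDimensional (ZMod p) W]
      [Nontrivial W] (σ : H →* Module.End (ZMod p) W), Irr σ → Function.Injective σ →
      ∀ y : H, orderOf y = p → Subgroup.normalClosure ({y} : Set H) = ⊤ →
        2 * Module.finrank (ZMod p) (fixedSub σ y) < Module.finrank (ZMod p) W

theorem Irr.fixed_eq_top_or_bot (hirr : Irr ρ) {g : K} (hg : g ∈ Subgroup.center K) :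
    fixedSub ρ g = ⊥ ∨ fixedSub ρ g = ⊤ :=
  hirr _ fun h v hv => by
    rw [mem_fixedSub] at hv ⊢
    rw [← Module.End.mul_apply, ← map_mul, ← Subgroup.mem_center_iff.mp hg h, map_mul,
      Module.End.mul_apply, hv]

/-- The induction hypothesis for automorphisms of an elementary abelian group. -/
theorem exists_lt_of_below {Q : Type u} [CommGroup Q] [Finite Q] [Nontrivial Q] {m : ℕ}
    (hbelow : Below.{u} p m) (hexp : ∀ q : Q, q ^ p = 1) (S : Subgroup (MulAut Q))
    (hsol : Group.IsSolvable S) (hlt : Nat.card S < m)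
    (hirrS : ∀ W : Subgroup Q, (∀ φ ∈ S, ∀ q ∈ W, φ q ∈ W) → W = ⊥ ∨ W = ⊤)
    (y : S) (hord : orderOf y = p) (hgen : Subgroup.normalClosure ({y} : Set S) = ⊤) :
    ∃ N c : ℕ, Nat.card Q = p ^ N ∧ Nat.card {q : Q // (y : MulAut Q) q = q} = p ^ c ∧ 2 * c < N := by
  have hz : ∀ q : Additive Q, p • q = 0 := fun q =>
    Additive.toMul.injective (hexp (Additive.toMul q))
  letI : Module (ZMod p) (Additive Q) := by exact AddCommGroup.zmodModule hz
  let σ₀ : S → Module.End (ZMod p) (Additive Q) := fun φ =>
    (MonoidHom.toAdditive (φ : MulAut Q).toMonoidHom).toZModLinearMap p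
  have h1 : σ₀ 1 = 1 := by
    refine LinearMap.ext fun q => ?_
    rw [Module.End.one_apply]
    rfl
  have h2 : ∀ φ φ', σ₀ (φ * φ') = σ₀ φ * σ₀ φ' := by
    intro φ φ'
    refine LinearMap.ext fun q => ?_
    rw [Module.End.mul_apply]
    rfl
  let σ : S →* Module.End (ZMod p) (Additive Q) :=
    { toFun := σ₀
      map_one' := h1
      map_mul' := h2 }
  have hσinj : Function.Injective σ := fun φ φ' h =>
    Subtype.ext (MulEquiv.ext fun q =>
      congrArg (fun T : Module.End (ZMod p) (Additive Q) =>
        Additive.toMul (T (Additive.ofMul q))) h)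
  have hσirr : Irr σ := by
    intro W hW
    rcases hirrS
      { carrier := {q | Additive.ofMul q ∈ W}
        one_mem' := W.zero_mem
        mul_mem' := fun ha hb => W.add_mem ha hb
        inv_mem' := fun ha => W.neg_mem ha }
      (fun φ hφ q hq => hW ⟨φ, hφ⟩ _ hq) with h | h
    · left
      rw [Submodule.eq_bot_iff]
      intro q hq
      have h1 : Additive.toMul q ∈ (⊥ : Subgroup Q) := h ▸ hq
      exact Additive.toMul.injective (Subgroup.mem_bot.mp h1)
    · right
      rw [eq_top_iff]
      intro q _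
      have h1 : Additive.toMul q ∈ (⊤ : Subgroup Q) := Subgroup.mem_top _
      rw [← h] at h1
      exact h1
  have hb := hbelow S hsol hlt (Additive Q) σ hσirr hσinj y hord hgen
  refine ⟨_, _, ?_, ?_, hb⟩
  · rw [← Nat.card_congr (Additive.ofMul (α := Q)).symm,
      Module.natCard_eq_pow_finrank (K := ZMod p), Nat.card_zmod]
  · have e1 : Nat.card (fixedSub σ y) = Nat.card {q : Q // (y : MulAut Q) q = q} :=
      Nat.card_congr (Equiv.subtypeEquiv (p := fun v => v ∈ fixedSub σ y) Additive.toMul fun v => by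
        rw [mem_fixedSub]
        exact ⟨fun h => congrArg Additive.toMul h, fun h => congrArg Additive.ofMul h⟩)
    rw [← e1, Module.natCard_eq_pow_finrank (K := ZMod p), Nat.card_zmod]

/-- The case of a nonabelian minimal noncentral normal subgroup with scalar centre. -/
theorem two_mul_lt_of_special [Finite K] [Group.IsSolvable K] [FiniteDimensional k V]
    [Nontrivial V] (hirr : Irr ρ) (hinj : Function.Injective ρ) (hp5 : 5 ≤ p)
    (hbelow : Below.{u} p (Nat.card K)) {x : K} (hx : orderOf x = p)
    (hgen : Subgroup.normalClosure ({x} : Set K) = ⊤) (A : Subgroup K) [A.Normal]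
    (hmin : ∀ N : Subgroup K, N.Normal → N ≤ A → ¬ N ≤ Subgroup.center K → N = A)
    {r : ℕ} [hr : Fact r.Prime] (hpg : IsPGroup r A) (hnab : Subgroup.center ↥A ≠ ⊤)
    (hA' : ∀ a b : A, ⁅a, b⁆ ∈ Subgroup.center ↥A)
    (hcen : ∀ z : A, z ∈ Subgroup.center ↥A → (z : K) ∈ Subgroup.center K)
    (hpow : ∀ a : A, a ^ r ∈ Subgroup.center ↥A)
    (hsc : ∀ z : A, z ∈ Subgroup.center ↥A → ∃ μ : k, ρ (z : K) = μ • 1) :
    2 * Module.finrank k (fixedSub ρ x) < Module.finrank k V := by
  classical
  letI := conjAction A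
  let Q := ↥A ⧸ Subgroup.center ↥A
  letI : CommGroup Q :=
    { (inferInstance : Group Q) with
      mul_comm := fun a b => by
        obtain ⟨a, rfl⟩ := QuotientGroup.mk_surjective a
        obtain ⟨b, rfl⟩ := QuotientGroup.mk_surjective b
        rw [← commutatorElement_eq_one_iff_mul_comm]
        exact (map_commutatorElement (QuotientGroup.mk' _) a b).symm.trans
          ((QuotientGroup.eq_one_iff _).mpr (hA' a b)) }
  have hnc2 : ¬ ∀ a b : A, a * b = b * a := fun h =>
    hnab (eq_top_iff.mpr fun a _ => Subgroup.mem_center_iff.mpr fun g => h g a)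
  have hxp : x ^ p = 1 := hx ▸ pow_orderOf_eq_one x
  have hx1 : x ≠ 1 := fun h => hp.out.one_lt.ne (by rw [← hx, h, orderOf_one])
  let τ : K →* MulAut Q :=
    { toFun := fun g => MulEquiv.ofBijective (conjQ A g) (MulAction.bijective g)
      map_one' := MulEquiv.ext fun q => one_smul K q
      map_mul' := fun g h => MulEquiv.ext fun q => mul_smul g h q }
  have hτ : ∀ g q, τ g q = conjQ A g q := fun _ _ => rfl
  -- x moves the quotient
  have hτx : τ x ≠ 1 := by
    intro h
    have hall : τ.ker = ⊤ := by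
      rw [eq_top_iff, ← hgen]
      exact Subgroup.normalClosure_le_normal (Set.singleton_subset_iff.mpr h)
    have hz : ∀ (g : K) (b : A), g * b * g⁻¹ * (b : K)⁻¹ ∈ Subgroup.center K := by
      intro g b
      have h1 : τ g (b : Q) = (b : Q) := by
        rw [MonoidHom.mem_ker.mp (hall ▸ Subgroup.mem_top g : g ∈ τ.ker)]
        rfl
      rw [hτ, conjQ_mk, ← mul_inv_eq_one, ← QuotientGroup.mk_inv, ← QuotientGroup.mk_mul,
        QuotientGroup.eq_one_iff] at h1
      simpa [MulAut.conjNormal_apply] using hcen _ h1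
    have hcK : ∀ g ∈ commutator K, ∀ b : A, g * b * g⁻¹ * (b : K)⁻¹ = 1 := by
      intro g hg b
      letI : CommGroup (Subgroup.center K) :=
        { (inferInstance : Group (Subgroup.center K)) with
          mul_comm := fun a b => Subtype.ext (Subgroup.mem_center_iff.mp b.2 a) }
      let f : K →* Subgroup.center K :=
        { toFun := fun g => ⟨g * b * g⁻¹ * (b : K)⁻¹, hz g b⟩
          map_one' := Subtype.ext (by simp)
          map_mul' := fun g h => Subtype.ext (by
            show g * h * b * (g * h)⁻¹ * (b : K)⁻¹ =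
              g * b * g⁻¹ * (b : K)⁻¹ * (h * b * h⁻¹ * (b : K)⁻¹)
            calc g * h * b * (g * h)⁻¹ * (b : K)⁻¹ =
                g * (h * b * h⁻¹ * (b : K)⁻¹) * ((b : K) * g⁻¹ * (b : K)⁻¹) := by group
              _ = (h * b * h⁻¹ * (b : K)⁻¹) * g * ((b : K) * g⁻¹ * (b : K)⁻¹) := by
                rw [Subgroup.mem_center_iff.mp (hz h b) g]
              _ = (h * b * h⁻¹ * (b : K)⁻¹) * (g * b * g⁻¹ * (b : K)⁻¹) := by group
              _ = _ := (Subgroup.mem_center_iff.mp (hz h b) _).symm) }
      exact congrArg Subtype.val (MonoidHom.mem_ker.mp (Abelianization.commutator_subset_ker f hg))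
    by_cases hle : A ≤ commutator K
    · refine hnc2 fun a b => Subtype.ext ?_
      have := hcK a (hle a.2) b
      rw [mul_inv_eq_one, mul_inv_eq_iff_eq_mul] at this
      exact this
    have hAK : A ⊓ commutator K ≤ Subgroup.center K := by
      by_contra hc
      exact hle (inf_eq_left.mp (hmin _ inferInstance inf_le_left hc))
    obtain ⟨a₀, ha₀, ha₀'⟩ := SetLike.not_le_iff_exists.mp hle
    set y := Abelianization.of x
    have hy : ∀ g, Abelianization.of g ∈ Subgroup.zpowers y := by
      intro g
      have h1 : (⊤ : Subgroup K) ≤ (Subgroup.zpowers y).comap Abelianization.of := by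
        rw [← hgen]
        exact Subgroup.normalClosure_le_normal
          (Set.singleton_subset_iff.mpr (Subgroup.mem_zpowers y))
      exact h1 (Subgroup.mem_top g)
    have ha₁ : Abelianization.of a₀ ≠ 1 := fun h1 => ha₀' (by
      rw [← Abelianization.ker_of]; exact h1)
    have hy1 : y ≠ 1 := by
      intro h1
      obtain ⟨n, hn⟩ := hy a₀
      exact ha₁ (hn.symm.trans (by rw [h1]; exact one_zpow n))
    have hcy : Nat.card (Subgroup.zpowers y) = p := by
      rw [Nat.card_zpowers]
      exact orderOf_eq_prime (by rw [← map_pow, hxp, map_one]) hy1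
    haveI : Fact (Nat.card (Subgroup.zpowers y)).Prime := ⟨hcy ▸ hp.out⟩
    have hdec : ∀ b : A, ∃ m : ℤ, ∃ c ∈ Subgroup.center K, (b : K) = a₀ ^ m * c := by
      intro b
      obtain ⟨m, hm⟩ : (⟨_, hy b⟩ : Subgroup.zpowers y) ∈
          Subgroup.zpowers (⟨_, hy a₀⟩ : Subgroup.zpowers y) :=
        mem_zpowers_of_prime_card (p := p) hcy (fun h1 => ha₁ (congrArg Subtype.val h1))
      refine ⟨m, (a₀ ^ m)⁻¹ * b,
        hAK (Subgroup.mem_inf.mpr ⟨mul_mem (inv_mem (zpow_mem ha₀ m)) b.2, ?_⟩),
        (mul_inv_cancel_left _ _).symm⟩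
      rw [← Abelianization.ker_of, MonoidHom.mem_ker, map_mul, map_inv, map_zpow]
      have h1 : Abelianization.of a₀ ^ m = Abelianization.of (b : K) := congrArg Subtype.val hm
      rw [h1, inv_mul_cancel]
    refine hnc2 fun a b => Subtype.ext ?_
    obtain ⟨m, c, hc, hm⟩ := hdec a
    obtain ⟨m', c', hc', hm'⟩ := hdec b
    show (a : K) * b = b * a
    rw [hm, hm']
    have e1 : Commute (a₀ ^ m * c) (a₀ ^ m' * c') := by
      refine Commute.mul_left ?_ (fun_comm hc _)
      exact Commute.mul_right ((Commute.refl a₀).zpow_zpow m m') (fun_comm hc' _).symm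
    exact e1
  -- the commutator map with x
  let ψ : Q →* Q :=
    { toFun := fun q => conjQ A x q * q⁻¹
      map_one' := by simp
      map_mul' := fun a b => by rw [map_mul, mul_inv, mul_mul_mul_comm] }
  have hfun : ∀ q, ψ q = conjQ A x q * q⁻¹ := fun _ => rfl
  have hiter : ∀ (i : ℕ) q, (conjQ A x)^[i] q = conjQ A (x ^ i) q := by
    intro i q
    induction i with
    | zero =>
      rw [pow_zero]
      exact (one_smul K q).symm
    | succ i ih =>
      rw [Function.iterate_succ_apply', ih, pow_succ']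
      exact (mul_smul x (x ^ i) q).symm
  have hσp : ∀ q, (conjQ A x)^[p] q = q := fun q => by
    rw [hiter, hxp]
    exact one_smul K q
  obtain ⟨q₀, hq₀⟩ : ∃ q, ψ q ≠ 1 := by
    by_contra hcon
    push Not at hcon
    exact hτx (MulEquiv.ext fun q => mul_inv_eq_one.mp (hcon q))
  have hpD := le_card_range (p := p) (conjQ A x) hσp ψ hfun hq₀
  set D := Nat.card ψ.range with hD
  set F := Nat.card ψ.ker with hF
  have hMDF : Nat.card Q = F * D := by
    rw [← Subgroup.card_mul_index ψ.ker, Subgroup.index_ker]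
  have hfix : Nat.card {q : Q // x • q = q} = F :=
    Nat.card_congr (Equiv.subtypeEquivRight fun q => (mul_inv_eq_one (a := conjQ A x q)).symm)
  have horb := mul_card_orbits (p := p) hx (O := Q)
  rw [hfix] at horb
  have hQp : IsPGroup r Q := hpg.to_quotient _
  obtain ⟨e, he⟩ := IsPGroup.iff_card.mp (hQp.to_subgroup ψ.range)
  obtain ⟨e', he'⟩ := IsPGroup.iff_card.mp (hQp.to_subgroup ψ.ker)
  rw [← hD] at he
  rw [← hF] at he'
  -- D is not too small
  have hkey : 4 * (p - 1) ≤ (p - 4) * D := by
    rcases Nat.lt_or_ge p 8 with hp8 | hp8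
    swap
    · obtain ⟨t, rfl⟩ : ∃ t, p = t + 8 := ⟨p - 8, by omega⟩
      calc 4 * (t + 8 - 1) ≤ (t + 8 - 4) * (t + 8) := by
            rw [show t + 8 - 1 = t + 7 by omega, show t + 8 - 4 = t + 4 by omega]; nlinarith
        _ ≤ _ := Nat.mul_le_mul_left _ hpD
    have hp57 : p = 5 ∨ p = 7 := by
      have := hp.out
      interval_cases p <;> simp_all (config := { decide := true })
    by_cases hrp : r = p
    · -- the quotient is a smaller module
      subst hrp
      have hDne : D ≠ r := by
        intro hDr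
        haveI : Nontrivial Q := ⟨_, _, hq₀⟩
        have hexp : ∀ q : Q, q ^ r = 1 := by
          intro q
          obtain ⟨a, rfl⟩ := QuotientGroup.mk_surjective q
          rw [← QuotientGroup.mk_pow, QuotientGroup.eq_one_iff]
          exact hpow a
        have hlt : Nat.card τ.range < Nat.card K := by
          haveI : Nontrivial A := by
            by_contra hn
            rw [not_nontrivial_iff_subsingleton] at hn
            exact hnc2 fun a b => Subsingleton.elim _ _
          haveI := hpg.center_nontrivial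
          obtain ⟨z, hz⟩ := exists_ne (1 : Subgroup.center ↥A)
          have hzK : (((z : A) : K)) ∈ τ.ker := by
            refine MulEquiv.ext fun q => ?_
            obtain ⟨a, rfl⟩ := QuotientGroup.mk_surjective q
            rw [hτ, conjQ_mk]
            refine congrArg _ (Subtype.ext ?_)
            rw [MulAut.conjNormal_apply, ← Subgroup.mem_center_iff.mp (hcen z z.2) (a : K),
              mul_inv_cancel_right]
          rw [← Subgroup.card_mul_index τ.ker, Subgroup.index_ker]
          refine lt_mul_of_one_lt_left Nat.card_pos ?_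
          rw [Subgroup.one_lt_card_iff_ne_bot]
          intro hb
          rw [hb, Subgroup.mem_bot] at hzK
          exact hz (Subtype.ext (Subtype.ext hzK))
        have hirrS : ∀ W : Subgroup Q, (∀ φ ∈ τ.range, ∀ q ∈ W, φ q ∈ W) → W = ⊥ ∨ W = ⊤ := by
          intro W hW
          set S : Subgroup K := (W.comap (QuotientGroup.mk' (Subgroup.center ↥A))).map A.subtype
          have hSn : S.Normal := ⟨by
            rintro _ ⟨a, ha, rfl⟩ g
            exact ⟨MulAut.conjNormal g a, hW _ ⟨g, rfl⟩ _ ha, MulAut.conjNormal_apply g a⟩⟩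
          by_cases hc : S ≤ Subgroup.center K
          · left
            rw [Subgroup.eq_bot_iff_forall]
            intro q hq
            obtain ⟨a, rfl⟩ := QuotientGroup.mk_surjective q
            refine (QuotientGroup.eq_one_iff a).mpr (Subgroup.mem_center_iff.mpr fun g => ?_)
            exact Subtype.ext (Subgroup.mem_center_iff.mp (hc ⟨a, hq, rfl⟩ : (a : K) ∈ _) g)
          · right
            have hSA := hmin S hSn (Subgroup.map_subtype_le _) hc
            rw [eq_top_iff]
            intro q _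
            obtain ⟨a, rfl⟩ := QuotientGroup.mk_surjective q
            obtain ⟨b, hb, hba⟩ : (a : K) ∈ S := hSA.symm ▸ a.2
            rw [show a = b from Subtype.ext hba.symm]
            exact hb
        have hgen' : Subgroup.normalClosure ({τ.rangeRestrict x} : Set τ.range) = ⊤ := by
          rw [← Set.image_singleton, ← Subgroup.map_normalClosure _ _ τ.rangeRestrict_surjective,
            hgen, Subgroup.map_top_of_surjective _ τ.rangeRestrict_surjective]
        have hord : orderOf (τ.rangeRestrict x) = r :=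
          orderOf_eq_prime (by rw [← map_pow, hxp, map_one])
            (fun h => hτx (congrArg Subtype.val h))
        have hsol : Group.IsSolvable τ.range :=
          Group.isSolvable_of_surjective τ.rangeRestrict_surjective
        obtain ⟨N, c, e2, e1, hb⟩ :=
          exists_lt_of_below hbelow hexp τ.range hsol hlt hirrS _ hord hgen'
        change Nat.card {q : Q // x • q = q} = r ^ c at e1
        rw [hfix] at e1
        rw [e1, hDr, e2, ← pow_succ] at hMDF
        have := Nat.pow_right_injective hr.out.two_le hMDF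
        have hcard : Nat.card Q = r := by
          rw [e2, show N = 1 by omega, pow_one]
        haveI : IsCyclic Q := isCyclic_of_prime_card hcard
        haveI := MonoidHom.isMulCommutative_of_isCyclic_of_ker_le_center
          (QuotientGroup.mk' (Subgroup.center ↥A)) (QuotientGroup.ker_mk' _).le
        exact hnc2 mul_comm'
      rcases e with _ | _ | e
      · simp only [pow_zero] at he; omega
      · simp only [zero_add, pow_one] at he; exact absurd he hDne
      · have : r * r ≤ D := by
          rw [he, pow_succ, pow_succ, mul_assoc]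
          exact Nat.le_mul_of_pos_left _ (pow_pos hr.out.pos e)
        rcases hp57 with rfl | rfl <;> omega
    · -- coprime action
      have hcop : Nat.Coprime p r := (Nat.coprime_primes hp.out hr.out).mpr (Ne.symm hrp)
      have hdvd : p ∣ D - 1 := by
        have h1 : p ∣ (p - 1) * F + Nat.card Q := ⟨_, horb.symm⟩
        have h2 : p ∣ F * (D - 1) := by
          have h3 : p * F + F * (D - 1) = (p - 1) * F + Nat.card Q := by
            obtain ⟨t, ht⟩ : ∃ t, D = t + 1 := ⟨D - 1, by omega⟩
            obtain ⟨s, hs⟩ : ∃ s, p = s + 1 := ⟨p - 1, by omega⟩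
            rw [hMDF, ht, hs]
            simp only [Nat.add_sub_cancel]
            ring
          rw [← h3] at h1
          exact (Nat.dvd_add_right ⟨F, rfl⟩).mp h1
        exact Nat.Coprime.dvd_of_dvd_mul_left (he' ▸ hcop.pow_right e') h2
      rcases hp57 with rfl | rfl
      swap
      · omega
      by_contra hlt
      have hD2 : D = 6 ∨ D = 11 := by omega
      rcases hD2 with hD6 | hD11
      · rw [hD6] at he
        have h2 := Nat.prime_two.dvd_of_dvd_pow (he ▸ (by norm_num : 2 ∣ 6))
        have h3 := Nat.prime_three.dvd_of_dvd_pow (he ▸ (by norm_num : 3 ∣ 6))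
        rw [Nat.prime_dvd_prime_iff_eq Nat.prime_two hr.out] at h2
        rw [Nat.prime_dvd_prime_iff_eq Nat.prime_three hr.out] at h3
        omega
      -- a group of order 11 commuting with its complement
      haveI : Fact (Nat.Prime 11) := ⟨by norm_num⟩
      have hdisj : ∀ q, ψ q ∈ ψ.ker → ψ q = 1 := by
        intro q hq
        rw [MonoidHom.mem_ker, hfun, mul_inv_eq_one] at hq
        have hit : ∀ i : ℕ, (conjQ A x)^[i] q = ψ q ^ i * q := by
          intro i
          induction i with
          | zero => simp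
          | succ i ih =>
            rw [Function.iterate_succ_apply', ih, map_mul, map_pow, hq, pow_succ, mul_assoc,
              hfun q, inv_mul_cancel_right]
        have h1 : ψ q ^ 5 = 1 := mul_eq_right.mp ((hit 5).symm.trans (hσp q))
        obtain ⟨j, hj⟩ := hQp (ψ q)
        have h2 := Nat.dvd_gcd (orderOf_dvd_of_pow_eq_one h1) (orderOf_dvd_of_pow_eq_one hj)
        rw [(hcop.pow_right j).gcd_eq_one, Nat.dvd_one, orderOf_eq_one_iff] at h2
        exact h2
      obtain ⟨d, hd⟩ := QuotientGroup.mk_surjective q₀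
      set d' : A := MulAut.conjNormal x d with hd'
      have ha : ψ q₀ = ((d⁻¹ * d' : A) : Q) := by rw [hfun, ← hd, mul_comm]; rfl
      refine hq₀ ?_
      rw [ha, QuotientGroup.eq_one_iff, Subgroup.mem_center_iff]
      -- commutes with the fixed classes
      have hfixc : ∀ c : A, (c : Q) ∈ ψ.ker → Commute (d⁻¹ * d') c := by
        intro c hc
        rw [MonoidHom.mem_ker, hfun, conjQ_mk, mul_inv_eq_one, QuotientGroup.eq] at hc
        set z := (MulAut.conjNormal x c)⁻¹ * c with hz
        have hzc : MulAut.conjNormal x c = c * z⁻¹ := by rw [hz]; group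
        have hzcom : ∀ g : A, g * z⁻¹ = z⁻¹ * g :=
          Subgroup.mem_center_iff.mp (inv_mem hc)
        have hstab : MulAut.conjNormal x ⁅d, c⁆ = ⁅d, c⁆ := Subtype.ext (by
          rw [MulAut.conjNormal_apply, Subgroup.mem_center_iff.mp (hcen _ (hA' d c)) x,
            mul_inv_cancel_right])
        rw [map_commutatorElement, ← hd', hzc] at hstab
        have h1 : ⁅d', c * z⁻¹⁆ = ⁅d', c⁆ := by
          simp only [commutatorElement_def, mul_inv_rev, inv_inv]
          calc d' * (c * z⁻¹) * d'⁻¹ * (z * c⁻¹) = d' * c * (z⁻¹ * d'⁻¹) * z * c⁻¹ := by group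
            _ = d' * c * (d'⁻¹ * z⁻¹) * z * c⁻¹ := by rw [hzcom d'⁻¹]
            _ = _ := by group
        rw [h1] at hstab
        have h2 : d' * c * d'⁻¹ = d * c * d⁻¹ := mul_right_cancel hstab
        show d⁻¹ * d' * c = c * (d⁻¹ * d')
        calc d⁻¹ * d' * c = d⁻¹ * (d' * c * d'⁻¹) * d' := by group
          _ = d⁻¹ * (d * c * d⁻¹) * d' := by rw [h2]
          _ = _ := by group
      intro b
      let m : ψ.range × ψ.ker → Q := fun t => (t.1 : Q) * t.2
      have hm : Function.Bijective m := by
        haveI := Fintype.ofFinite Q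
        haveI := Fintype.ofFinite ψ.range
        haveI := Fintype.ofFinite ψ.ker
        refine (Fintype.bijective_iff_injective_and_card m).mpr ⟨?_, ?_⟩
        · rintro ⟨⟨i, q, rfl⟩, c⟩ ⟨⟨i', q', rfl⟩, c'⟩ h
          change ψ q * (c : Q) = ψ q' * (c' : Q) at h
          have h1 : ψ (q * q'⁻¹) = (c' : Q) * (c : Q)⁻¹ := by
            rw [map_mul, map_inv, eq_mul_inv_iff_mul_eq, mul_right_comm, h, mul_right_comm,
              mul_inv_cancel, one_mul]
          have h2 := hdisj _ (h1 ▸ ψ.ker.mul_mem c'.2 (ψ.ker.inv_mem c.2))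
          rw [h2] at h1
          rw [map_mul, map_inv, mul_inv_eq_one] at h2
          refine Prod.ext (Subtype.ext h2) (Subtype.ext ?_)
          exact (mul_inv_eq_one.mp h1.symm).symm
        · rw [Fintype.card_prod, ← Nat.card_eq_fintype_card, ← Nat.card_eq_fintype_card,
            ← Nat.card_eq_fintype_card, hMDF, mul_comm]
      obtain ⟨⟨i, c⟩, hic⟩ := hm.2 (b : Q)
      haveI : Fact (Nat.card ψ.range).Prime := ⟨by rw [← hD, hD11]; norm_num⟩
      obtain ⟨j, hj⟩ : i ∈ Subgroup.zpowers (⟨ψ q₀, q₀, rfl⟩ : ψ.range) :=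
        mem_zpowers_of_prime_card (p := 11) hD11 (fun h => hq₀ (congrArg Subtype.val h))
      have hj' : ψ q₀ ^ j = (i : Q) := congrArg Subtype.val hj
      obtain ⟨c₀, hc₀⟩ := QuotientGroup.mk_surjective (c : Q)
      have hb : (b : Q) = (((d⁻¹ * d') ^ j * c₀ : A) : Q) := by
        rw [← hic, QuotientGroup.mk_mul, QuotientGroup.mk_zpow, ← ha, hj', hc₀]
      have hz := QuotientGroup.eq.mp hb.symm
      rw [show b = (d⁻¹ * d') ^ j * c₀ * (((d⁻¹ * d') ^ j * c₀)⁻¹ * b) by group]
      refine (Commute.mul_right (Commute.mul_right ((Commute.refl _).zpow_right j)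
        (hfixc c₀ (hc₀ ▸ c.2))) ?_).symm
      exact Subgroup.mem_center_iff.mp hz _
  -- the inequality
  have hM : (Nat.card Q : k) ≠ 0 := by
    have hne : A ≠ ⊥ := by
      rintro rfl
      exact hnc2 fun a b => Subsingleton.elim _ _
    have := cast_card_ne_zero (ρ := ρ) hirr hinj hpg hne
    rw [Subgroup.card_eq_card_quotient_mul_card_subgroup (Subgroup.center ↥A), Nat.cast_mul] at this
    exact left_ne_zero_of_mul this
  have hbnd := card_mul_le hinj A hA' hsc hM hx1
  by_contra hnot
  push Not at hnot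
  set f := Module.finrank k (fixedSub ρ x)
  set n := Module.finrank k V
  set T := Nat.card (Quotient (orbitRel (Subgroup.zpowers x) Q))
  change Nat.card Q * (f * f + 1) ≤ T * (n * n) at hbnd
  have h1 : T * (n * n) ≤ T * (4 * (f * f)) := Nat.mul_le_mul_left _ (by nlinarith)
  have h2 := Nat.mul_le_mul_left p (hbnd.trans h1)
  rw [← mul_assoc p T, horb, hMDF] at h2
  have hF0 : 0 < F := Nat.card_pos
  have hD0 : 0 < D := Nat.card_pos
  obtain ⟨t, rfl⟩ : ∃ t, p = t + 4 := ⟨p - 4, by omega⟩
  rw [show t + 4 - 1 = t + 3 by omega] at hkey h2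
  rw [Nat.add_sub_cancel] at hkey
  have h4 := Nat.mul_le_mul_left (F * (f * f)) hkey
  have h5 : 0 < (t + 4) * (F * D) := by positivity
  nlinarith
where
  fun_comm {K : Type u} [Group K] {c : K} (hc : c ∈ Subgroup.center K) (g : K) : Commute c g :=
    (Subgroup.mem_center_iff.mp hc g).symm

/-- The special case, over a field of scalars containing the centre. -/
theorem two_mul_lt_of_scalars [Finite K] [Group.IsSolvable K] [FiniteDimensional k V]
    [Nontrivial V] (hirr : Irr ρ) (hinj : Function.Injective ρ) (hp5 : 5 ≤ p)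
    (hbelow : Below.{u} p (Nat.card K)) {x : K} (hx : orderOf x = p)
    (hgen : Subgroup.normalClosure ({x} : Set K) = ⊤) (A : Subgroup K) [A.Normal]
    (hmin : ∀ N : Subgroup K, N.Normal → N ≤ A → ¬ N ≤ Subgroup.center K → N = A)
    {r : ℕ} [Fact r.Prime] (hpg : IsPGroup r A) (hnab : Subgroup.center ↥A ≠ ⊤)
    (hA' : ∀ a b : A, ⁅a, b⁆ ∈ Subgroup.center ↥A)
    (hcen : ∀ z : A, z ∈ Subgroup.center ↥A → (z : K) ∈ Subgroup.center K)
    (hpow : ∀ a : A, a ^ r ∈ Subgroup.center ↥A)
    (L : Type w) [Field L] [Algebra k L] [Module L V] [IsScalarTower k L V] [Module.Finite k L]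
    (hLρ : ∀ (g : K) (s : L) (v : V), ρ g (s • v) = s • ρ g v)
    (hsc : ∀ z : A, z ∈ Subgroup.center ↥A → ∃ μ : L, ∀ v : V, ρ (z : K) v = μ • v) :
    2 * Module.finrank k (fixedSub ρ x) < Module.finrank k V := by
  haveI : Module.Finite L V := Module.Finite.of_restrictScalars_finite k L V
  let ρL : K →* Module.End L V :=
    { toFun := fun g =>
        { toFun := fun v => ρ g v
          map_add' := map_add (ρ g)
          map_smul' := fun s v => hLρ g s v }
      map_one' := LinearMap.ext fun v => by simp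
      map_mul' := fun g h => LinearMap.ext fun v => by simp }
  have hinjL : Function.Injective ρL := fun g h e =>
    hinj (LinearMap.ext fun v => congrArg (fun T : Module.End L V => T v) e)
  have hirrL : Irr ρL := by
    intro W hW
    rcases hirr (W.restrictScalars k) hW with h | h
    · exact Or.inl (((Submodule.restrictScalars_eq_bot_iff _ _ _).mp h))
    · exact Or.inr (((Submodule.restrictScalars_eq_top_iff _ _ _).mp h))
  have hscL : ∀ z : A, z ∈ Subgroup.center ↥A → ∃ μ : L, ρL (z : K) = μ • 1 := fun z hz => by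
    obtain ⟨μ, hμ⟩ := hsc z hz
    exact ⟨μ, LinearMap.ext hμ⟩
  have hmain :=
    two_mul_lt_of_special hirrL hinjL hp5 hbelow hx hgen A hmin hpg hnab hA' hcen hpow hscL
  have e1 : Module.finrank k (fixedSub ρ x) =
      Module.finrank k L * Module.finrank L (fixedSub ρL x) := by
    rw [Module.finrank_mul_finrank k L (fixedSub ρL x)]
    exact LinearEquiv.finrank_eq
      { toFun := fun v => ⟨v.1, mem_fixedSub.mpr (mem_fixedSub (g := x).mp v.2 :)⟩
        invFun := fun v => ⟨v.1, mem_fixedSub.mpr (mem_fixedSub (g := x).mp v.2 :)⟩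
        map_add' := fun _ _ => rfl
        map_smul' := fun _ _ => rfl
        left_inv := fun _ => rfl
        right_inv := fun _ => rfl }
  rw [e1, ← Module.finrank_mul_finrank k L V, mul_left_comm]
  exact Nat.mul_lt_mul_of_pos_left hmain Module.finrank_pos

/-- The bound, given it for smaller groups over the prime field. -/
theorem two_mul_lt_of_below [Finite K] [Group.IsSolvable K] [FiniteDimensional k V] [Nontrivial V]
    (hirr : Irr ρ) (hinj : Function.Injective ρ) (hp5 : 5 ≤ p)
    (hbelow : Below.{u} p (Nat.card K)) {x : K} (hx : orderOf x = p)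
    (hgen : Subgroup.normalClosure ({x} : Set K) = ⊤) :
    2 * Module.finrank k (fixedSub ρ x) < Module.finrank k V := by
  classical
  have hn : 0 < Module.finrank k V := Module.finrank_pos
  have hx1 : x ≠ 1 := fun h => hp.out.one_lt.ne (by rw [← hx, h, orderOf_one])
  by_cases hab : Subgroup.center K = ⊤
  · rcases hirr.fixed_eq_top_or_bot (g := x) (hab ▸ Subgroup.mem_top x) with h | h
    · rw [h, finrank_bot]; omega
    · exfalso
      refine hx1 (hinj ?_)
      rw [map_one]
      exact LinearMap.ext fun v => mem_fixedSub.mp (h ▸ Submodule.mem_top)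
  obtain ⟨A, hAn, hAnc, hmin, r, hr, hpg, hspec⟩ := exists_special hab
  haveI := hAn
  haveI : Fact r.Prime := ⟨hr⟩
  by_cases hnab : Subgroup.center ↥A = ⊤
  · obtain ⟨a₀, ha₀, hnc⟩ : ∃ a₀ ∈ A, x * a₀ ≠ a₀ * x := by
      by_contra hcon
      push Not at hcon
      refine hAnc ?_
      have h : (⊤ : Subgroup K) ≤ Subgroup.centralizer (A : Set K) := by
        rw [← hgen]
        exact Subgroup.normalClosure_le_normal (Set.singleton_subset_iff.mpr
          (Subgroup.mem_centralizer_iff.mpr fun a ha => (hcon a ha).symm))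
      exact fun a ha => Subgroup.mem_center_iff.mpr fun g =>
        (Subgroup.mem_centralizer_iff.mp (h (Subgroup.mem_top g)) a ha).symm
    have hA : ∀ a ∈ A, ∀ b ∈ A, a * b = b * a := fun a ha b hb =>
      congrArg Subtype.val (Subgroup.mem_center_iff.mp
        (hnab ▸ Subgroup.mem_top _ : (⟨b, hb⟩ : A) ∈ Subgroup.center ↥A) ⟨a, ha⟩)
    refine two_mul_lt_of_abelian hirr hinj hp5 hx hgen A hA
      (cast_card_ne_zero (ρ := ρ) hirr hinj hpg fun h => hAnc (h ▸ bot_le)) ha₀ hnc
  obtain ⟨hA', hcen, hpow⟩ := hspec hnab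
  -- make the centre scalar
  let L := Algebra.adjoin k (ρ '' (Subgroup.center K : Set K))
  have hLρ : ∀ s ∈ L, ∀ g, ρ g * s = s * ρ g := by
    intro s hs g
    have hle : L ≤ Subalgebra.centralizer k {ρ g} := Algebra.adjoin_le (by
      rintro _ ⟨z, hz, rfl⟩
      refine Subalgebra.mem_centralizer_iff k |>.mpr ?_
      rintro _ rfl
      rw [← map_mul, ← map_mul, Subgroup.mem_center_iff.mp hz g])
    exact Subalgebra.mem_centralizer_iff k |>.mp (hle hs) _ rfl
  have hLcomm : ∀ s ∈ L, ∀ t ∈ L, s * t = t * s := by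
    intro s hs t ht
    have hle : L ≤ Subalgebra.centralizer k {s} := Algebra.adjoin_le (by
      rintro _ ⟨z, hz, rfl⟩
      refine Subalgebra.mem_centralizer_iff k |>.mpr ?_
      rintro _ rfl
      exact (hLρ _ hs z).symm)
    exact Subalgebra.mem_centralizer_iff k |>.mp (hle ht) _ rfl
  have hfield : IsField L := by
    letI : CommRing L := { (inferInstance : Ring L) with
      mul_comm := fun s t => Subtype.ext (hLcomm s s.2 t t.2) }
    haveI : Nontrivial L := ⟨0, 1, fun h => by
      obtain ⟨v, hv⟩ := exists_ne (0 : V)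
      exact hv (congrArg (fun T : L => (T : Module.End k V) v) h).symm⟩
    haveI : NoZeroDivisors L := ⟨fun {s t} h => by
      by_cases hs : (s : Module.End k V) = 0
      · exact Or.inl (Subtype.ext hs)
      · right
        refine Subtype.ext (LinearMap.ext fun v => ?_)
        refine injective_of_commute hirr (hLρ s s.2) hs ?_
        show (s : Module.End k V) ((t : Module.End k V) v) = _
        rw [show (s : Module.End k V) ((t : Module.End k V) v) = ((s * t : L) : Module.End k V) v
          from rfl, h]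
        simp⟩
    haveI : IsDomain L := NoZeroDivisors.to_isDomain _
    exact isField_of_isIntegral_of_isField' (R := k) (Field.toIsField k)
  letI : Field L := hfield.toField
  exact two_mul_lt_of_scalars hirr hinj hp5 hbelow hx hgen A hmin hpg hnab hA' hcen hpow L
    (fun g s v => congrArg (fun T : Module.End k V => T v) (hLρ (s : Module.End k V) s.2 g))
    (fun z hz => ⟨⟨ρ (z : K), Algebra.subset_adjoin ⟨_, hcen z hz, rfl⟩⟩, fun v => rfl⟩)

theorem below (p : ℕ) [Fact p.Prime] (hp5 : 5 ≤ p) : ∀ m, Below.{u} p m := by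
  intro m
  induction m using Nat.strong_induction_on with
  | _ m ih =>
    intro H _ _ hsol hlt W _ _ _ _ σ hirr hinj y hy hgen
    haveI := hsol
    exact two_mul_lt_of_below hirr hinj hp5 (ih _ hlt) hy hgen

/-- **An element of prime order at least five fixes less than half.** -/
theorem two_mul_lt [Finite K] [Group.IsSolvable K] [FiniteDimensional k V] [Nontrivial V]
    (hirr : Irr ρ) (hinj : Function.Injective ρ) (hp5 : 5 ≤ p) {x : K} (hx : orderOf x = p)
    (hgen : Subgroup.normalClosure ({x} : Set K) = ⊤) :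
    2 * Module.finrank k (fixedSub ρ x) < Module.finrank k V :=
  two_mul_lt_of_below hirr hinj hp5 (below p hp5 _) hx hgen

end main

end Cfsg.Agent.H79.FixedHalf
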