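import Cfsg.Agent.H79.SpanField
import Cfsg.Agent.H32.PermModule

/-!
# The imprimitive case

If some abelian normal subgroup of the Sylow `p`-subgroup spans a ring with a proper idempotent,
the space splits into `p` summands permuted by `H`; orbits of pairs of neighbours show that the
induced group on the summands is affine.
-/

set_option autoImplicit false
set_option linter.style.haveILetI false

namespace Cfsg.Agent.H79.PPowerOrbits

open MulAction

universe u

variable {H : Type u} [Group H] {V : Type u} [AddCommGroup V] [DistribMulAction H V]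

theorem exists_minimal_idempotent [Finite V] {S : Subring (AddMonoid.End V)}
    (hcomm : ∀ x ∈ S, ∀ y ∈ S, x * y = y * x) {e : AddMonoid.End V} (heS : e ∈ S)
    (he : e * e = e) (he0 : e ≠ 0) (he1 : e ≠ 1) :
    ∃ e' ∈ S, e' * e' = e' ∧ e' ≠ 0 ∧ e' ≠ 1 ∧
      ∀ f ∈ S, f * f = f → f * e' = 0 ∨ f * e' = e' := by
  classical
  let P : AddMonoid.End V → Prop := fun x => x ∈ S ∧ x * x = x ∧ x ≠ 0 ∧ x ≠ 1
  let N : ℕ → Prop := fun n => ∃ x, P x ∧ (Set.range x).ncard = n
  have hex : ∃ n, N n := ⟨_, e, ⟨heS, he, he0, he1⟩, rfl⟩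
  obtain ⟨e', ⟨h1, h2, h3, h4⟩, hn⟩ := Nat.find_spec hex
  refine ⟨e', h1, h2, h3, h4, fun f hf hff => ?_⟩
  by_cases hz : f * e' = 0
  · exact Or.inl hz
  right
  have hidem : (f * e') * (f * e') = f * e' := by
    rw [mul_assoc f e', ← mul_assoc e' f, hcomm e' h1 f hf, mul_assoc f e' e', h2, ← mul_assoc, hff]
  have hee : e' * (f * e') = f * e' := by
    rw [← mul_assoc, hcomm e' h1 f hf, mul_assoc, h2]
  have hsub : Set.range (f * e') ⊆ Set.range e' := by
    rintro _ ⟨v, rfl⟩
    exact ⟨(f * e') v, congrArg (fun x : AddMonoid.End V => x v) hee⟩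
  by_cases h5 : f * e' = 1
  · rw [h5, mul_one] at hee
    exact absurd hee h4
  have hle := Nat.find_min' hex ⟨_, ⟨mul_mem hf h1, hidem, hz, h5⟩, rfl⟩
  rw [← hn] at hle
  have heq := Set.eq_of_subset_of_ncard_le hsub hle (Set.toFinite _)
  refine DFunLike.ext _ _ fun v => ?_
  obtain ⟨w, hw⟩ : e' v ∈ Set.range (f * e') := by rw [heq]; exact ⟨v, rfl⟩
  have h6 := congrArg (fun x : AddMonoid.End V => x w) hidem
  calc (f * e') v = (f * e') (e' v) := by
        rw [← congrArg (fun x : AddMonoid.End V => x v)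
          (show (f * e') * e' = f * e' by rw [mul_assoc, h2])]
        rfl
    _ = e' v := by rw [← hw]; exact h6

variable {p q : ℕ} [hp : Fact p.Prime] [hq : Fact q.Prime]

/-- The imprimitive case of the orbit theorem. -/
theorem isSolvable_of_idempotent [Finite H] [Finite V] [FaithfulSMul H V]
    (horb : Orbits H V p) (P : Sylow p H)
    (hirr : ∀ W : AddSubgroup V, (∀ g ∈ (P : Subgroup H), ∀ w ∈ W, g • w ∈ W) → W = ⊥ ∨ W = ⊤)
    (hIH : ∀ K : Subgroup H, K.Normal → K ≠ ⊤ → Group.IsSolvable K)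
    {A : Subgroup H} (hA : ∀ a ∈ A, ∀ b ∈ A, a * b = b * a)
    (hAn : ∀ g ∈ (P : Subgroup H), ∀ a ∈ A, g * a * g⁻¹ ∈ A)
    {e₀ : AddMonoid.End V} (he₀ : e₀ ∈ span V A) (hid : e₀ * e₀ = e₀) (h0 : e₀ ≠ 0) (h1 : e₀ ≠ 1) :
    Group.IsSolvable H := by
  classical
  obtain ⟨e, heS, hee, hene0, hene1, hmin⟩ :=
    exists_minimal_idempotent (S := span V A) (fun x hx y hy => span_comm hA hx hy) he₀ hid h0 h1
  have hcmem : ∀ g : (P : Subgroup H), ∀ x ∈ span V A, cj V (g : H) x ∈ span V A :=
    fun g x hx => cj_mem_span (hAn g g.2) hx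
  -- conjugates of the minimal idempotent
  have horth : ∀ g g' : (P : Subgroup H),
      cj V (g : H) e = cj V (g' : H) e ∨ cj V (g : H) e * cj V (g' : H) e = 0 := by
    intro g g'
    have key : ∀ g g' : (P : Subgroup H), cj V (g : H) e * cj V (g' : H) e = 0 ∨
        cj V (g : H) e * cj V (g' : H) e = cj V (g' : H) e := by
      intro g g'
      rcases hmin _ (hcmem (g'⁻¹ * g) e heS)
        (by rw [← map_mul, hee]) with h | h
      · left
        have := congrArg (cj V (g' : H)) h
        rwa [map_mul, ← cj_mul, map_zero, Subgroup.coe_mul, Subgroup.coe_inv, mul_inv_cancel_left] at this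
      · right
        have := congrArg (cj V (g' : H)) h
        rwa [map_mul, ← cj_mul, Subgroup.coe_mul, Subgroup.coe_inv, mul_inv_cancel_left] at this
    rcases key g g' with h | h
    · exact Or.inr h
    rcases key g' g with h' | h'
    · right
      rw [span_comm hA (hcmem g e heS) (hcmem g' e heS), h']
    · left
      rw [← h', ← span_comm hA (hcmem g e heS) (hcmem g' e heS), h]
  let S : Subgroup (P : Subgroup H) :=
    { carrier := {g | cj V (g : H) e = e}
      one_mem' := cj_one e
      mul_mem' := fun {a b} ha hb => by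
        show cj V ((a * b : (P : Subgroup H)) : H) e = e
        rw [Subgroup.coe_mul, cj_mul, hb, ha]
      inv_mem' := fun {a} ha => by
        show cj V ((a⁻¹ : (P : Subgroup H)) : H) e = e
        rw [Subgroup.coe_inv]
        conv_lhs => rw [show e = cj V (a : H) e from ha.symm]
        rw [← cj_mul, inv_mul_cancel, cj_one] }
  -- a fixed idempotent dominating `e` is one
  have hfixed : ∀ σ : AddMonoid.End V, σ * e = e → σ * σ = σ →
      (∀ g : (P : Subgroup H), cj V (g : H) σ = σ) → σ = 1 := by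
    intro σ hσe hσσ hσ
    have hinv : ∀ g ∈ (P : Subgroup H), ∀ w ∈ σ.range, g • w ∈ σ.range := by
      rintro g hg _ ⟨v, rfl⟩
      refine ⟨g • v, ?_⟩
      have := congrArg (fun x : AddMonoid.End V => x (g • v)) (hσ ⟨g, hg⟩)
      refine this.symm.trans ?_
      show g • σ (g⁻¹ • g • v) = g • σ v
      rw [inv_smul_smul]
    rcases hirr σ.range hinv with h | h
    · exfalso
      apply hene0
      refine DFunLike.ext _ _ fun v => ?_
      rw [← hσe]
      have hm : σ (e v) ∈ σ.range := ⟨e v, rfl⟩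
      rw [h, AddSubgroup.mem_bot] at hm
      exact hm
    · refine DFunLike.ext _ _ fun v => ?_
      obtain ⟨w, hw⟩ : v ∈ σ.range := h ▸ AddSubgroup.mem_top v
      conv_lhs => rw [← hw]
      exact (congrArg (fun x : AddMonoid.End V => x w) hσσ).trans hw
  have hSne : S ≠ ⊤ := fun hS => hene1 (hfixed e hee hee fun g => by
    have : g ∈ S := hS ▸ Subgroup.mem_top g
    exact this)
  -- a subgroup of index p containing the stabiliser
  obtain ⟨n, hn⟩ := IsPGroup.iff_card.mp P.2
  obtain ⟨s, hs⟩ := IsPGroup.iff_card.mp (P.2.to_subgroup S)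
  have hsn : s < n := by
    rcases lt_or_ge s n with h | h
    · exact h
    · exact absurd (Subgroup.eq_top_of_le_card S (by
        rw [hn, hs]; exact Nat.pow_le_pow_right hp.out.pos h)) hSne
  obtain ⟨M, hMcard, hSM⟩ := Sylow.exists_subgroup_card_pow_prime_le p
    (n := s) (m := n - 1) (by rw [hn]; exact pow_dvd_pow p (Nat.sub_le n 1)) S hs (by omega)
  have hMidx : M.index = p := by
    have := Subgroup.card_mul_index M
    rw [hMcard, hn, show p ^ n = p ^ (n - 1) * p by rw [← pow_succ]; congr 1; omega] at this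
    exact Nat.eq_of_mul_eq_mul_left (pow_pos hp.out.pos _) this
  haveI : M.Normal := Subgroup.normal_of_index_eq_minFac_card (by
    rw [hMidx, hn, hp.out.pow_minFac (by omega)])
  haveI : Fintype ((P : Subgroup H) ⧸ M) := Fintype.ofFinite _
  have hιcard : Nat.card ((P : Subgroup H) ⧸ M) = p := hMidx
  haveI : IsCyclic ((P : Subgroup H) ⧸ M) := isCyclic_of_prime_card hιcard
  letI : CommGroup ((P : Subgroup H) ⧸ M) := IsCyclic.commGroup
  haveI : Fintype (P : Subgroup H) := Fintype.ofFinite _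
  -- the block idempotents
  let T : (P : Subgroup H) ⧸ M → Finset (AddMonoid.End V) := fun c =>
    (Finset.univ.filter fun g : (P : Subgroup H) => (g : (P : Subgroup H) ⧸ M) = c).image
      fun g => cj V (g : H) e
  let f : (P : Subgroup H) ⧸ M → AddMonoid.End V := fun c => ∑ o ∈ T c, o
  have hTmem : ∀ c o, o ∈ T c ↔ ∃ g : (P : Subgroup H),
      (g : (P : Subgroup H) ⧸ M) = c ∧ cj V (g : H) e = o := by
    intro c o; simp [T]
  have hTdisj : ∀ c c', c ≠ c' → ∀ o ∈ T c, ∀ o' ∈ T c', o * o' = 0 := by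
    intro c c' hne o ho o' ho'
    obtain ⟨g, rfl, rfl⟩ := (hTmem c o).mp ho
    obtain ⟨g', rfl, rfl⟩ := (hTmem c' o').mp ho'
    refine (horth g g').resolve_left fun h => hne ?_
    rw [QuotientGroup.eq]
    refine hSM ?_
    show cj V ((g⁻¹ * g' : (P : Subgroup H)) : H) e = e
    rw [Subgroup.coe_mul, Subgroup.coe_inv, cj_mul, ← h, ← cj_mul, inv_mul_cancel, cj_one]
  have hidem : ∀ g : (P : Subgroup H), cj V (g : H) e * cj V (g : H) e = cj V (g : H) e :=
    fun g => by rw [← map_mul, hee]
  have hfo : ∀ c, ∀ o ∈ T c, f c * o = o := by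
    intro c o ho
    rw [Finset.sum_mul, Finset.sum_eq_single o]
    · obtain ⟨g, -, rfl⟩ := (hTmem c o).mp ho
      exact hidem g
    · intro o' ho' hne
      obtain ⟨g, -, rfl⟩ := (hTmem c o).mp ho
      obtain ⟨g', -, rfl⟩ := (hTmem c o').mp ho'
      exact (horth g' g).resolve_left hne
    · exact fun h => absurd ho h
  have hff : ∀ c, f c * f c = f c := fun c => by
    conv_lhs => arg 2; simp only [f]
    rw [Finset.mul_sum]
    exact Finset.sum_congr rfl (hfo c)
  have hforth : ∀ c c', c ≠ c' → f c * f c' = 0 := fun c c' hne => by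
    simp only [f, Finset.sum_mul, Finset.mul_sum]
    exact Finset.sum_eq_zero fun o' ho' => Finset.sum_eq_zero fun o ho => hTdisj c c' hne o ho o' ho'
  have hfcj : ∀ (g : (P : Subgroup H)) c, cj V (g : H) (f c) = f ((g : (P : Subgroup H) ⧸ M) * c) := by
    intro g c
    simp only [f, map_sum]
    rw [← Finset.sum_image (s := T c) (g := cj V (g : H)) (f := fun o => o)
      (fun _ _ _ _ h => cj_injective _ h)]
    congr 1
    ext o
    simp only [Finset.mem_image, hTmem]
    constructor
    · rintro ⟨_, ⟨h, rfl, rfl⟩, rfl⟩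
      exact ⟨g * h, rfl, by rw [Subgroup.coe_mul, cj_mul]⟩
    · rintro ⟨h, hh, rfl⟩
      refine ⟨cj V ((g⁻¹ * h : (P : Subgroup H)) : H) e, ⟨g⁻¹ * h, ?_, rfl⟩, ?_⟩
      · rw [QuotientGroup.mk_mul, hh, QuotientGroup.mk_inv, inv_mul_cancel_left]
      · rw [← cj_mul, Subgroup.coe_mul, Subgroup.coe_inv, mul_inv_cancel_left]
  have hsum : ∑ c, f c = 1 := by
    refine hfixed _ ?_ ?_ fun g => ?_
    · rw [Finset.sum_mul, Finset.sum_eq_single (1 : (P : Subgroup H) ⧸ M)]
      · exact hfo 1 e ((hTmem 1 e).mpr ⟨1, rfl, cj_one e⟩)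
      · intro c _ hne
        simp only [f, Finset.sum_mul]
        exact Finset.sum_eq_zero fun o ho =>
          hTdisj c 1 hne o ho e ((hTmem 1 e).mpr ⟨1, rfl, cj_one e⟩)
      · simp
    · rw [Finset.sum_mul]
      refine Finset.sum_congr rfl fun c _ => ?_
      rw [Finset.mul_sum, Finset.sum_eq_single c (fun c' _ hne => hforth c c' (Ne.symm hne))
        (by simp)]
      exact hff c
    · rw [map_sum]
      exact Fintype.sum_equiv (Equiv.mulLeft (g : (P : Subgroup H) ⧸ M)) _ _ fun c => hfcj g c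
  have hfne : ∀ c, ∃ v : V, v ≠ 0 ∧ f c v = v := by
    intro c
    obtain ⟨g, rfl⟩ := QuotientGroup.mk_surjective c
    obtain ⟨w, hw⟩ : ∃ w, e w ≠ 0 := by
      by_contra hcon
      push Not at hcon
      exact hene0 (DFunLike.ext _ _ hcon)
    refine ⟨(g : H) • e w, fun h => hw ((smul_eq_zero_iff_eq _).mp h), ?_⟩
    have h2 := hfo (g : (P : Subgroup H) ⧸ M) _ ((hTmem _ _).mpr ⟨g, rfl, rfl⟩)
    have h3 := congrArg (fun x : AddMonoid.End V => x ((g : H) • w)) h2
    have h4 : (cj V (g : H) e) ((g : H) • w) = (g : H) • e w := by rw [cj_apply, inv_smul_smul]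
    rw [← h4]
    exact h3
  -- H permutes the blocks
  have hblock : ∀ h : H, ∀ c v, v ≠ 0 → f c v = v → ∃ c', f c' (h • v) = h • v := by
    intro h c v _ hcv
    obtain ⟨π, hπ, he⟩ := exists_sylow_smul horb P h v
    refine ⟨((⟨π, hπ⟩ : (P : Subgroup H)) : (P : Subgroup H) ⧸ M) * c, ?_⟩
    rw [← hfcj, he, cj_apply, inv_smul_smul, hcv]
  have happ : ∀ c c' (v : V), f c v = v → c ≠ c' → f c' v = 0 := by
    intro c c' v hv hne
    rw [← hv]
    exact congrArg (fun x : AddMonoid.End V => x v) (hforth c' c (Ne.symm hne))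
  have huniq : ∀ h : H, ∀ c, ∃ c', ∀ v, f c v = v → f c' (h • v) = h • v := by
    intro h c
    obtain ⟨v₀, hv₀, hv₀'⟩ := hfne c
    obtain ⟨c₀, hc₀⟩ := hblock h c v₀ hv₀ hv₀'
    refine ⟨c₀, fun u hu => ?_⟩
    by_cases hu0 : u = 0
    · rw [hu0, smul_zero, map_zero]
    obtain ⟨c₁, hc₁⟩ := hblock h c u hu0 hu
    by_cases hc : c₁ = c₀
    · rw [← hc]; exact hc₁
    exfalso
    by_cases huv : u + v₀ = 0
    · have e1 : h • u = -(h • v₀) := by rw [eq_neg_of_add_eq_zero_left huv, smul_neg]
      have := happ c₁ c₀ _ hc₁ hc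
      rw [e1, map_neg, hc₀, neg_eq_zero, smul_eq_zero_iff_eq] at this
      exact hv₀ this
    obtain ⟨c₂, hc₂⟩ := hblock h c (u + v₀) huv (by rw [map_add, hu, hv₀'])
    rw [smul_add, map_add] at hc₂
    by_cases h2 : c₂ = c₀
    · subst h2
      rw [happ c₁ c₂ _ hc₁ hc, hc₀, zero_add] at hc₂
      exact hu0 ((smul_eq_zero_iff_eq h).mp (left_eq_add.mp (hc₂.trans (add_comm _ _))))
    · rw [← map_add (f c₂) (h • u) (h • v₀)] at hc₂
      have h4 : f c₀ (f c₂ (h • u + h • v₀)) = 0 :=
        congrArg (fun x : AddMonoid.End V => x (h • u + h • v₀)) (hforth c₀ c₂ (Ne.symm h2))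
      rw [hc₂, map_add, happ c₁ c₀ _ hc₁ hc, hc₀, zero_add] at h4
      exact hv₀ ((smul_eq_zero_iff_eq h).mp h4)
  choose τ hτ using huniq
  have hτuniq : ∀ h c c', (∃ v, v ≠ 0 ∧ f c v = v ∧ f c' (h • v) = h • v) → c' = τ h c := by
    rintro h c c' ⟨v, hv, hcv, hc'⟩
    by_contra hne
    have := happ _ (τ h c) _ hc' hne
    rw [hτ h c v hcv, smul_eq_zero_iff_eq] at this
    exact hv this
  letI act : MulAction H ((P : Subgroup H) ⧸ M) :=
    { smul := τ
      one_smul := fun c => by
        obtain ⟨v, hv, hcv⟩ := hfne c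
        exact (hτuniq 1 c c ⟨v, hv, hcv, by rw [one_smul, hcv]⟩).symm
      mul_smul := fun g h c => by
        obtain ⟨v, hv, hcv⟩ := hfne c
        exact (hτuniq (g * h) c _ ⟨v, hv, hcv, by
          rw [mul_smul]; exact hτ g (τ h c) _ (hτ h c v hcv)⟩).symm }
  have hsmul : ∀ (h : H) c, h • c = τ h c := fun _ _ => rfl
  have hP : ∀ (g : (P : Subgroup H)) c, (g : H) • c = (g : (P : Subgroup H) ⧸ M) * c := by
    intro g c
    obtain ⟨v, hv, hcv⟩ := hfne c
    exact (hτuniq g c _ ⟨v, hv, hcv, by rw [← hfcj, cj_apply, inv_smul_smul, hcv]⟩).symm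
  set ρ := MulAction.toPermHom H ((P : Subgroup H) ⧸ M) with hρ
  haveI : IsPretransitive ρ.range ((P : Subgroup H) ⧸ M) := ⟨fun c c' => by
    obtain ⟨g, hg⟩ := QuotientGroup.mk_surjective (c' * c⁻¹)
    exact ⟨⟨ρ (g : H), ⟨g, rfl⟩⟩, by
      show (g : H) • c = c'
      rw [hP, hg, inv_mul_cancel_right]⟩⟩
  have hker : Group.IsSolvable ρ.ker := by
    refine hIH _ inferInstance fun htop => ?_
    obtain ⟨g, hg⟩ : ∃ g : (P : Subgroup H), g ∉ M := by
      by_contra hcon
      push Not at hcon
      have : M = ⊤ := eq_top_iff.mpr fun g _ => hcon g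
      rw [this, Subgroup.index_top] at hMidx
      exact hp.out.ne_one hMidx.symm
    have : (g : H) ∈ ρ.ker := htop ▸ Subgroup.mem_top _
    have h2 : (g : H) • (1 : (P : Subgroup H) ⧸ M) = 1 :=
      congrArg (fun σ : Equiv.Perm _ => σ 1) (MonoidHom.mem_ker.mp this)
    rw [hP, mul_one, QuotientGroup.eq_one_iff] at h2
    exact hg h2
  -- coordinates
  obtain ⟨g₁, hg₁⟩ := exists_prime_orderOf_dvd_card' (G := (P : Subgroup H) ⧸ M) p
    (hιcard.symm ▸ dvd_rfl)
  haveI : NeZero p := ⟨hp.out.ne_zero⟩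
  have hpow : ∀ j : ZMod p, g₁ ^ (j + 1).val = g₁ * g₁ ^ j.val := fun j => by
    rw [← pow_succ', pow_eq_pow_iff_modEq, hg₁, ← ZMod.natCast_eq_natCast_iff]
    push_cast
    rw [ZMod.natCast_zmod_val, ZMod.natCast_zmod_val]
  have hbij : Function.Bijective fun j : ZMod p => g₁ ^ j.val := by
    refine (Fintype.bijective_iff_injective_and_card _).mpr ⟨fun i j h => ?_, ?_⟩
    · rw [pow_eq_pow_iff_modEq, hg₁, ← ZMod.natCast_eq_natCast_iff] at h
      simpa using h
    · rw [ZMod.card, ← Nat.card_eq_fintype_card, hιcard]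
  obtain ⟨g₂, hg₂⟩ := QuotientGroup.mk_surjective g₁
  let C : H32.CycleCoords ρ.range p :=
    { gen := ⟨ρ (g₂ : H), ⟨_, rfl⟩⟩
      coord := Equiv.ofBijective _ hbij
      gen_smul := fun j => by
        show (g₂ : H) • g₁ ^ j.val = g₁ ^ (j + 1).val
        rw [hP, hg₂, hpow] }
  have haff : C.AllAffine := by
    rcases le_or_gt p 3 with h3 | h3
    · exact C.allAffine_of_le_three h3
    rintro ⟨_, h, rfl⟩
    have hstep : ∀ j : ZMod p, C.coord.symm (h • C.coord (j + 1)) - C.coord.symm (h • C.coord j) = 1 ∨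
        C.coord.symm (h • C.coord (j + 1)) - C.coord.symm (h • C.coord j) = -1 := by
      intro j
      set c := C.coord j with hc
      set c' := C.coord (j + 1) with hc'
      have hcc : c' = g₁ * c := hpow j
      have hne : c ≠ c' := fun hh => by
        rw [hcc, right_eq_mul] at hh
        rw [hh, orderOf_one] at hg₁
        exact hp.out.ne_one hg₁.symm
      obtain ⟨v, hv, hcv⟩ := hfne c
      obtain ⟨v', hv', hcv'⟩ := hfne c'
      obtain ⟨π, hπ, he⟩ := exists_sylow_smul horb P h (v + v')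
      have hne' : h • c ≠ h • c' := fun hh => hne (MulAction.injective h hh)
      set k : (P : Subgroup H) ⧸ M := ((⟨π, hπ⟩ : (P : Subgroup H)) : (P : Subgroup H) ⧸ M) with hk
      have hπc : ∀ d (w : V), f d w = w → f (k * d) (π • w) = π • w := fun d w hdw => by
        rw [← hfcj, cj_apply, inv_smul_smul, hdw]
      have hwhich : ∀ d, (d = c ∨ d = c') → h • d = k * c ∨ h • d = k * c' := by
        intro d hd
        by_contra hcon
        push Not at hcon
        have h5 := congrArg (f (h • d)) he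
        rw [smul_add, smul_add, map_add, map_add, happ _ _ _ (hπc c v hcv) (Ne.symm hcon.1),
          happ _ _ _ (hπc c' v' hcv') (Ne.symm hcon.2), add_zero] at h5
        rcases hd with rfl | rfl
        · rw [hsmul, hτ h c v hcv, ← hsmul, happ _ _ _ (hτ h c' v' hcv') (Ne.symm hne'), add_zero,
            smul_eq_zero_iff_eq] at h5
          exact hv h5
        · rw [hsmul, hτ h c' v' hcv', ← hsmul, happ _ _ _ (hτ h c v hcv) hne', zero_add,
            smul_eq_zero_iff_eq] at h5
          exact hv' h5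
      have hadd : ∀ d, C.coord.symm (g₁ * d) = C.coord.symm d + 1 := fun d => by
        rw [Equiv.symm_apply_eq]
        show g₁ * d = g₁ ^ (C.coord.symm d + 1).val
        rw [hpow, show g₁ ^ (C.coord.symm d).val = d from C.coord.apply_symm_apply d]
      have hkc : k * c' = g₁ * (k * c) := by rw [hcc, mul_left_comm]
      rcases hwhich c (Or.inl rfl) with h1 | h1 <;> rcases hwhich c' (Or.inr rfl) with h2 | h2
      · exact absurd (h1.trans h2.symm) hne'
      · left; rw [h1, h2, hkc, hadd]; ring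
      · right; rw [h1, h2, hkc, hadd]; ring
      · exact absurd (h1.trans h2.symm) hne'
    set s : ZMod p → ZMod p := fun j => C.coord.symm (h • C.coord j) with hs
    have hinj : Function.Injective s :=
      C.coord.symm.injective.comp ((MulAction.injective h).comp C.coord.injective)
    have hconst : ∀ n : ℕ, s ((n : ZMod p) + 1) - s n = s 1 - s 0 := by
      intro n
      induction n with
      | zero => simp
      | succ n ih =>
        push_cast
        rw [← ih]
        have e1 : s ((n : ZMod p) + 1 + 1) - s ((n : ZMod p) + 1) = 1 ∨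
            s ((n : ZMod p) + 1 + 1) - s ((n : ZMod p) + 1) = -1 := hstep _
        have e2 : s ((n : ZMod p) + 1) - s n = 1 ∨ s ((n : ZMod p) + 1) - s n = -1 := hstep _
        rcases e1 with h1 | h1 <;> rcases e2 with h2 | h2 <;>
          first | exact h1.trans h2.symm | exfalso
        all_goals
          have h4 : s ((n : ZMod p) + 1 + 1) = s n := by linear_combination h1 + h2
          have h6 := hinj h4
          rw [add_assoc, add_eq_left] at h6
          have h7 : ((2 : ℕ) : ZMod p) = 0 := by push_cast; rw [← h6]; ring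
          rw [ZMod.natCast_eq_zero_iff] at h7
          have := Nat.le_of_dvd (by norm_num) h7
          omega
    refine ⟨s 1 - s 0, s 0, fun j => ?_⟩
    have hlin : ∀ n : ℕ, s n = (s 1 - s 0) * n + s 0 := by
      intro n
      induction n with
      | zero => simp
      | succ n ih => push_cast; linear_combination hconst n + ih
    have := hlin j.val
    rw [ZMod.natCast_zmod_val] at this
    show h • C.coord j = C.coord _
    rw [← this]
    exact (C.coord.apply_symm_apply _).symm
  haveI := C.isSolvable haff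
  haveI := hker
  exact Group.isSolvable_of_ker_le_range ρ.ker.subtype ρ.rangeRestrict
    (by rw [MonoidHom.ker_rangeRestrict, Subgroup.range_subtype])

end Cfsg.Agent.H79.PPowerOrbits
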