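
import Cfsg.Agent.H79.Kazarin

/-!
# Coprime linear actions with all orbits of prime power size: basic facts
-/

set_option autoImplicit false
set_option linter.style.haveILetI false

namespace Cfsg.Agent.H79.PPowerOrbits

open MulAction

universe u

variable {H : Type u} [Group H] {V : Type u} [AddCommGroup V] [DistribMulAction H V]

variable (H V) in
/-- Every orbit has `p`-power size. -/
def Orbits (p : ℕ) : Prop := ∀ v : V, ∃ a : ℕ, (stabilizer H v).index = p ^ a

variable {p : ℕ}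

theorem stabilizer_subgroup (K : Subgroup H) (v : V) :
    stabilizer K v = (stabilizer H v).subgroupOf K := Subgroup.ext fun _ => Iff.rfl

/-- A Sylow `p`-subgroup has the same orbits. -/
theorem exists_sylow_smul [Finite H] [hp : Fact p.Prime] (horb : Orbits H V p) (P : Sylow p H)
    (h : H) (v : V) : ∃ π ∈ (P : Subgroup H), h • v = π • v := by
  obtain ⟨a, ha⟩ := horb v
  set C := stabilizer H v
  have h1 := Subgroup.relIndex_mul_index (inf_le_right : C ⊓ (P : Subgroup H) ≤ P)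
  have h2 := Subgroup.relIndex_mul_index (inf_le_left : C ⊓ (P : Subgroup H) ≤ C)
  rw [Subgroup.inf_relIndex_right] at h1
  rw [Subgroup.inf_relIndex_left] at h2
  have hdvd : p ^ a ∣ C.relIndex P * (P : Subgroup H).index :=
    ⟨(P : Subgroup H).relIndex C, by rw [h1, ← h2, ← ha, mul_comm]⟩
  have hcop : Nat.Coprime (p ^ a) (P : Subgroup H).index :=
    ((hp.out.coprime_iff_not_dvd).mpr P.not_dvd_index).pow_left a
  have hle : p ^ a ≤ C.relIndex P := Nat.le_of_dvd
    (Nat.pos_of_ne_zero Subgroup.index_ne_zero_of_finite) (hcop.dvd_of_dvd_mul_right hdvd)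
  have hsub : orbit (P : Subgroup H) v ⊆ orbit H v := by
    rintro _ ⟨π, rfl⟩
    exact ⟨(π : H), rfl⟩
  haveI : Finite (orbit H v) := Finite.of_surjective (fun g : H => (⟨g • v, g, rfl⟩ : orbit H v))
    fun ⟨_, g, hg⟩ => ⟨g, Subtype.ext hg⟩
  have heq : orbit (P : Subgroup H) v = orbit H v := by
    refine Set.eq_of_subset_of_ncard_le hsub ?_
    rw [← index_stabilizer, ← index_stabilizer, stabilizer_subgroup, ha]
    exact hle
  have : h • v ∈ orbit (P : Subgroup H) v := heq ▸ mem_orbit v h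
  obtain ⟨π, hπ⟩ := this
  exact ⟨π, π.2, hπ.symm⟩

theorem Orbits.of_sylow_le [Finite H] [hp : Fact p.Prime] (horb : Orbits H V p) (P : Sylow p H)
    {K : Subgroup H} (hK : (P : Subgroup H) ≤ K) : Orbits K V p := by
  intro v
  obtain ⟨a, ha⟩ := horb v
  refine ⟨a, ?_⟩
  rw [← ha, index_stabilizer, index_stabilizer]
  congr 1
  refine Set.Subset.antisymm ?_ ?_
  · rintro _ ⟨k, rfl⟩
    exact ⟨(k : H), rfl⟩
  · rintro _ ⟨h, rfl⟩
    obtain ⟨π, hπ, he⟩ := exists_sylow_smul horb P h v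
    exact ⟨⟨π, hK hπ⟩, he.symm⟩

theorem Orbits.of_normal [Finite H] (horb : Orbits H V p) [hp : Fact p.Prime]
    (K : Subgroup H) [K.Normal] : Orbits K V p := by
  intro v
  obtain ⟨a, ha⟩ := horb v
  have h := Kazarin.relIndex_dvd_index (stabilizer H v) K
  rw [ha, Nat.dvd_prime_pow hp.out] at h
  obtain ⟨b, -, hb⟩ := h
  exact ⟨b, by rw [stabilizer_subgroup]; exact hb⟩

theorem faithfulSMul_subgroup [FaithfulSMul H V] (K : Subgroup H) : FaithfulSMul K V :=
  ⟨fun h => Subtype.ext (FaithfulSMul.eq_of_smul_eq_smul (α := V) h)⟩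

section module

variable {q : ℕ} [hq : Fact q.Prime] (hV : ∀ v : V, q • v = 0)
include hV

omit hq in
theorem nsmul_eq_of_modEq {m n : ℕ} (h : m ≡ n [MOD q]) (v : V) : m • v = n • v := by
  conv_lhs => rw [← Nat.div_add_mod m q, add_nsmul, mul_nsmul, hV, nsmul_zero, zero_add, h]
  conv_rhs => rw [← Nat.div_add_mod n q, add_nsmul, mul_nsmul, hV, nsmul_zero, zero_add]

omit hV [Group H] in
theorem exists_inv_modEq [Finite H] (hcop : (Nat.card H).Coprime q) :
    ∃ m : ℕ, Nat.card H * m ≡ 1 [MOD q] := by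
  refine ⟨((ZMod.unitOfCoprime (Nat.card H) hcop)⁻¹ : (ZMod q)ˣ).1.val, ?_⟩
  rw [← ZMod.natCast_eq_natCast_iff]
  rw [Nat.cast_mul, ZMod.natCast_zmod_val, Nat.cast_one]
  exact Units.mul_inv (ZMod.unitOfCoprime (Nat.card H) hcop)

/-- Averaging a linear form over a group of order prime to `q`. -/
theorem exists_invariant_functional [Finite H] (hcop : (Nat.card H).Coprime q) {v : V} (hv : v ≠ 0)
    (hfix : ∀ h : H, h • v = v) :
    ∃ f : V →+ ZMod q, f v ≠ 0 ∧ ∀ (h : H) (w : V), f (h • w) = f w := by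
  classical
  cases nonempty_fintype H
  have : Module (ZMod q) V := AddCommGroup.zmodModule hV
  obtain ⟨i, hi⟩ : ∃ i, (Module.Basis.ofVectorSpace (ZMod q) V).repr v i ≠ 0 := by
    by_contra hcon
    push Not at hcon
    exact hv ((Module.Basis.ofVectorSpace (ZMod q) V).repr.map_eq_zero_iff.mp (Finsupp.ext hcon))
  set f := (Module.Basis.ofVectorSpace (ZMod q) V).coord i
  have hf : f v ≠ 0 := hi
  refine ⟨∑ h : H, f.toAddMonoidHom.comp (DistribSMul.toAddMonoidHom V h), ?_, fun g w => ?_⟩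
  · simp only [AddMonoidHom.finsetSum_apply, AddMonoidHom.coe_comp, Function.comp_apply,
      DistribSMul.toAddMonoidHom_apply, hfix, LinearMap.toAddMonoidHom_coe, Finset.sum_const,
      Finset.card_univ, ← Nat.card_eq_fintype_card, nsmul_eq_mul]
    refine mul_ne_zero ?_ hf
    rw [Ne, ZMod.natCast_eq_zero_iff]
    intro hd
    exact hq.out.not_dvd_one (hcop.gcd_eq_one ▸ Nat.dvd_gcd hd dvd_rfl)
  · simp only [AddMonoidHom.finsetSum_apply, AddMonoidHom.coe_comp, Function.comp_apply,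
      DistribSMul.toAddMonoidHom_apply, smul_smul]
    exact Fintype.sum_equiv (Equiv.mulRight g) _ _ fun h => rfl

/-- Maschke. -/
theorem exists_complement [Finite H] (hcop : (Nat.card H).Coprime q) (W : AddSubgroup V)
    (hW : ∀ h : H, ∀ w ∈ W, h • w ∈ W) :
    ∃ W' : AddSubgroup V, (∀ h : H, ∀ w ∈ W', h • w ∈ W') ∧
      (∀ v ∈ W, v ∈ W' → v = 0) ∧ ∀ v : V, ∃ w ∈ W, ∃ w' ∈ W', v = w + w' := by
  classical
  cases nonempty_fintype H
  have : Module (ZMod q) V := AddCommGroup.zmodModule hV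
  obtain ⟨U, hU⟩ := Submodule.exists_isCompl (AddSubgroup.toZModSubmodule q W)
  set e : V →ₗ[ZMod q] V := (AddSubgroup.toZModSubmodule q W).projection U hU with he
  have he1 : ∀ v, e v ∈ W := fun v => Submodule.projection_apply_mem hU v
  have he2 : ∀ w ∈ W, e w = w := fun w hw => Submodule.projection_apply_left hU ⟨w, hw⟩
  obtain ⟨m, hm⟩ := exists_inv_modEq hcop
  let E : V →+ V := m • ∑ h : H, (DistribSMul.toAddMonoidHom V h).comp
    (e.toAddMonoidHom.comp (DistribSMul.toAddMonoidHom V h⁻¹))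
  have hEv : ∀ v, E v = m • ∑ h : H, h • e (h⁻¹ • v) := fun v => by
    simp [E, AddMonoidHom.finsetSum_apply]
  have hE1 : ∀ v, E v ∈ W := fun v => by
    rw [hEv]
    exact W.nsmul_mem (W.sum_mem fun h _ => hW h _ (he1 _)) m
  have hE2 : ∀ w ∈ W, E w = w := fun w hw => by
    rw [hEv, Finset.sum_congr rfl fun h _ => by rw [he2 _ (hW h⁻¹ w hw), smul_inv_smul],
      Finset.sum_const, Finset.card_univ, ← Nat.card_eq_fintype_card, ← mul_nsmul',
      mul_comm, nsmul_eq_of_modEq hV hm, one_nsmul]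
  refine ⟨E.ker, fun h w hw => ?_, fun v hv hv' => ?_, fun v => ?_⟩
  · rw [AddMonoidHom.mem_ker] at hw ⊢
    rw [hEv] at hw ⊢
    have : ∑ k : H, k • e (k⁻¹ • h • w) = h • ∑ k : H, k • e (k⁻¹ • w) := by
      rw [Finset.smul_sum]
      refine Fintype.sum_equiv (Equiv.mulLeft h⁻¹) _ _ fun k => ?_
      simp only [Equiv.coe_mulLeft, smul_smul, mul_inv_cancel_left, mul_inv_rev, inv_inv]
    rw [this, smul_comm, hw, smul_zero]
  · rwa [AddMonoidHom.mem_ker, hE2 v hv] at hv'
  · refine ⟨E v, hE1 v, v - E v, ?_, (add_sub_cancel _ _).symm⟩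
    rw [AddMonoidHom.mem_ker, map_sub, hE2 _ (hE1 v), sub_self]

end module

end Cfsg.Agent.H79.PPowerOrbits
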