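import Mathlib

/-!
Counting solutions of `g ^ n = 1` in products and in semidirect products with abelian normal
factor, for groups of exponent dividing 84.
-/

namespace Cfsg.Agent.H79.OrderType

/-- Number of solutions of `g ^ n = 1`. -/
noncomputable def cnt (G : Type*) [Monoid G] (n : ℕ) : ℕ := Nat.card {g : G // g ^ n = 1}

/-- The divisors of 84 greater than 1. -/
def ns : List ℕ := [2, 3, 4, 6, 7, 12, 14, 21, 28, 42, 84]

/-- `G` has exponent dividing 84 and the given counts. -/
def Has (G : Type*) [Monoid G] (l : List ℕ) : Prop :=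
  ns.map (cnt G) = l ∧ ∀ g : G, g ^ 84 = 1

theorem has_prod {A B : Type*} [Monoid A] [Monoid B] {l m : List ℕ}
    (hA : Has A l) (hB : Has B m) : Has (A × B) (List.zipWith (· * ·) l m) := by
  refine ⟨?_, fun g => Prod.ext (hA.2 g.1) (hB.2 g.2)⟩
  rw [← hA.1, ← hB.1, List.zipWith_map]
  simp only [List.zipWith_self]
  apply List.map_congr_left
  intro n _
  rw [cnt, cnt, cnt, ← Nat.card_prod]
  exact Nat.card_congr
    ((Equiv.subtypeEquivRight fun g => by
        simp [Prod.ext_iff]).trans
      (Equiv.subtypeProdEquivProd (p := fun a : A => a ^ n = 1) (q := fun b : B => b ^ n = 1)))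

theorem has_pow {A : Type*} [Monoid A] {l : List ℕ} (c : ℕ) (hA : Has A l) :
    Has (Fin c → A) (l.map (· ^ c)) := by
  refine ⟨?_, fun g => funext fun i => hA.2 (g i)⟩
  rw [← hA.1, List.map_map]
  apply List.map_congr_left
  intro n _
  simp only [Function.comp_apply, cnt]
  have h : Nat.card (Fin c → {a : A // a ^ n = 1}) = Nat.card {a : A // a ^ n = 1} ^ c := by
    rw [Nat.card_fun, Nat.card_fin]
  rw [← h]
  exact Nat.card_congr ((Equiv.subtypeEquivRight fun g => by simp [funext_iff]).trans
    (Equiv.subtypePiEquivPi (p := fun _ (a : A) => a ^ n = 1)))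

theorem cnt_gcd {K : Type*} [Monoid K] (hK : ∀ g : K, g ^ 84 = 1) (n : ℕ) :
    cnt K n = cnt K (Nat.gcd n 84) :=
  Nat.card_congr (Equiv.subtypeEquivRight fun g => by simp [pow_gcd_eq_one, hK g])

theorem cnt_eq_of_has {G H : Type*} [Monoid G] [Monoid H] {l : List ℕ}
    (hG : Has G l) (hH : Has H l) (n : ℕ) : cnt G n = cnt H n := by
  rw [cnt_gcd hG.2 n, cnt_gcd hH.2 n]
  have hd : Nat.gcd n 84 = 1 ∨ Nat.gcd n 84 ∈ ns := by
    have hle : Nat.gcd n 84 ≤ 84 := Nat.le_of_dvd (by norm_num) (Nat.gcd_dvd_right _ _)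
    have key : ∀ d : Fin 85, (d : ℕ) ∣ 84 → (d : ℕ) = 1 ∨ (d : ℕ) ∈ ns := by decide
    exact key ⟨_, Nat.lt_succ_of_le hle⟩ (Nat.gcd_dvd_right _ _)
  rcases hd with h | h
  · simp [cnt, h]
  · exact List.map_eq_map_iff.1 (hG.1.trans hH.1.symm) _ h

/-- Read off `Has` from decidable finite counts. -/
theorem has_of_decide {G : Type*} [Monoid G] [Fintype G] [DecidableEq G] {l : List ℕ}
    (h : ns.map (fun n => (Finset.univ.filter fun g : G => g ^ n = 1).card) = l)
    (h84 : (Finset.univ.filter fun g : G => g ^ 84 = 1).card = Fintype.card G) : Has G l := by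
  refine ⟨?_, ?_⟩
  · rw [← h]
    apply List.map_congr_left
    intro n _
    rw [cnt, Nat.card_eq_fintype_card, Fintype.card_subtype]
  · intro g
    have := Finset.eq_univ_of_card _ h84
    have hg : g ∈ (Finset.univ.filter fun g : _ => g ^ 84 = 1) := by rw [this]; exact Finset.mem_univ g
    exact (Finset.mem_filter.1 hg).2

/-- Semidirect product with an abelian normal factor. -/
@[ext]
structure Tw (H V : Type) where
  v : V
  h : H
deriving DecidableEq

instance twFintype {H V : Type} [Fintype H] [Fintype V] : Fintype (Tw H V) :=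
  Fintype.ofEquiv (V × H) ⟨fun x => ⟨x.1, x.2⟩, fun x => (x.v, x.h), fun _ => rfl, fun _ => rfl⟩

section tw
variable {H V : Type} [Group H] [AddCommGroup V] [DistribMulAction H V]

instance twMul : Mul (Tw H V) := ⟨fun a b => ⟨a.v + a.h • b.v, a.h * b.h⟩⟩
instance twOne : One (Tw H V) := ⟨⟨0, 1⟩⟩
instance twInv : Inv (Tw H V) := ⟨fun a => ⟨-(a.h⁻¹ • a.v), a.h⁻¹⟩⟩

theorem tw_mul (a b : Tw H V) : a * b = ⟨a.v + a.h • b.v, a.h * b.h⟩ := rfl
theorem tw_one : (1 : Tw H V) = ⟨0, 1⟩ := rfl
theorem tw_inv (a : Tw H V) : a⁻¹ = ⟨-(a.h⁻¹ • a.v), a.h⁻¹⟩ := rfl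

instance twGroup : Group (Tw H V) where
  mul_assoc a b c := by ext <;> simp [tw_mul, smul_add, mul_smul, add_assoc, mul_assoc]
  one_mul a := by ext <;> simp [tw_mul, tw_one]
  mul_one a := by ext <;> simp [tw_mul, tw_one]
  inv_mul_cancel a := by ext <;> simp [tw_mul, tw_inv, tw_one]

/-- Projection to the acting group. -/
def twRight : Tw H V →* H where
  toFun a := a.h
  map_one' := rfl
  map_mul' _ _ := rfl

/-- Inclusion of the abelian factor. -/
def twInl : Multiplicative V →* Tw H V where
  toFun v := ⟨v.toAdd, 1⟩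
  map_one' := rfl
  map_mul' a b := by ext <;> simp [tw_mul]

theorem tw_isSolvable (hH : Group.IsSolvable H) : Group.IsSolvable (Tw H V) := by
  haveI := hH
  exact Group.isSolvable_of_ker_le_range (twInl (H := H) (V := V)) twRight
    (fun x hx => ⟨Multiplicative.ofAdd x.v, Tw.ext rfl (MonoidHom.mem_ker.1 hx).symm⟩)

/-- The translation part of `⟨v, h⟩ ^ n`. -/
def gN (h : H) : ℕ → V → V
  | 0, _ => 0
  | n + 1, v => v + h • gN h n v

theorem tw_pow (x : Tw H V) (n : ℕ) : x ^ n = ⟨gN x.h n x.v, x.h ^ n⟩ := by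
  induction n with
  | zero => rw [pow_zero, pow_zero, gN, tw_one]
  | succ k ih => rw [pow_succ', ih, tw_mul, pow_succ', gN]

variable (V) in
/-- Number of `v` killed by `1 + h + ... + h^(n-1)`. -/
def ann [Fintype V] [DecidableEq V] (h : H) (n : ℕ) : ℕ :=
  (Finset.univ.filter fun v : V => gN h n v = 0).card

theorem cnt_tw [Fintype H] [DecidableEq H] [Fintype V] [DecidableEq V] (n : ℕ) :
    cnt (Tw H V) n = ∑ h : H, if h ^ n = 1 then ann V h n else 0 := by
  rw [cnt, ← Finset.sum_filter]
  let e : {g : Tw H V // g ^ n = 1} ≃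
      (Σ h : {h : H // h ^ n = 1}, {v : V // gN (h : H) n v = 0}) :=
    { toFun := fun g =>
        ⟨⟨g.1.h, by have := congrArg Tw.h g.2; rwa [tw_pow] at this⟩,
          ⟨g.1.v, by have := congrArg Tw.v g.2; rwa [tw_pow] at this⟩⟩
      invFun := fun x => ⟨⟨x.2.1, x.1.1⟩, by rw [tw_pow, tw_one]; simp [x.1.2, x.2.2]⟩
      left_inv := fun _ => rfl
      right_inv := fun _ => rfl }
  rw [Nat.card_congr e, Nat.card_eq_fintype_card, Fintype.card_sigma]
  rw [Finset.sum_subtype (Finset.univ.filter fun h : H => h ^ n = 1) (p := fun h => h ^ n = 1)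
    (fun h => by simp)]
  exact Finset.sum_congr rfl fun h _ => Fintype.card_subtype _

theorem gN_prod {W : Type} [AddCommGroup W] [DistribMulAction H W] (h : H) (n : ℕ) (v : V × W) :
    gN h n v = (gN h n v.1, gN h n v.2) := by
  induction n with
  | zero => rfl
  | succ k ih => simp only [gN, ih]; rfl

theorem ann_prod {W : Type} [AddCommGroup W] [DistribMulAction H W]
    [Fintype V] [DecidableEq V] [Fintype W] [DecidableEq W] (h : H) (n : ℕ) :
    ann (V × W) h n = ann V h n * ann W h n := by
  rw [ann, ann, ann, ← Finset.card_product]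
  congr 1
  ext x
  simp [gN_prod, Prod.ext_iff]

theorem has_tw [Fintype H] [DecidableEq H] [Fintype V] [DecidableEq V]
    (a : H → ℕ → ℕ) (ha : ∀ h n, ann V h n = a h n) {l : List ℕ}
    (h : ns.map (fun n => ∑ h : H, if h ^ n = 1 then a h n else 0) = l)
    (h84 : (∑ h : H, if h ^ 84 = 1 then a h 84 else 0) = Fintype.card V * Fintype.card H) :
    Has (Tw H V) l := by
  have hc : ∀ n, cnt (Tw H V) n = ∑ h : H, if h ^ n = 1 then a h n else 0 := by
    intro n; simp only [cnt_tw, ha]
  refine ⟨?_, ?_⟩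
  · rw [← h]
    exact List.map_congr_left fun n _ => hc n
  · intro g
    have e := hc 84
    rw [h84, cnt, Nat.card_eq_fintype_card, Fintype.card_subtype] at e
    have hcard : Fintype.card (Tw H V) = Fintype.card V * Fintype.card H := by
      rw [← Fintype.card_prod]
      exact Fintype.card_congr ⟨fun x => (x.v, x.h), fun x => ⟨x.1, x.2⟩, fun _ => rfl, fun _ => rfl⟩
    have := Finset.eq_univ_of_card _ (e.trans hcard.symm)
    have hg : g ∈ (Finset.univ.filter fun g : _ => g ^ 84 = 1) := by rw [this]; exact Finset.mem_univ g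
    exact (Finset.mem_filter.1 hg).2

end tw

section ch
variable {H R : Type} [Group H] [CommRing R]

/-- A ring with a group acting through a multiplicative character. -/
def Ch (_χ : H →* R) : Type := R

variable (χ : H →* R)

instance chAddCommGroup : AddCommGroup (Ch χ) := inferInstanceAs (AddCommGroup R)
instance chFintype [Fintype R] : Fintype (Ch χ) := inferInstanceAs (Fintype R)
instance chDecidableEq [DecidableEq R] : DecidableEq (Ch χ) := inferInstanceAs (DecidableEq R)
/-- Underlying ring element. -/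
def chVal (v : Ch χ) : R := v

/-- Element of `Ch χ` from a ring element. -/
def chOf (r : R) : Ch χ := r

instance chAction : DistribMulAction H (Ch χ) where
  smul h v := chOf χ (χ h * chVal χ v)
  one_smul v := by
    show χ 1 * chVal χ v = chVal χ v
    rw [map_one, one_mul]
  mul_smul a b v := by
    show χ (a * b) * chVal χ v = χ a * (χ b * chVal χ v)
    rw [map_mul, mul_assoc]
  smul_zero a := by
    show χ a * (0 : R) = 0
    rw [mul_zero]
  smul_add a v w := by
    show χ a * (chVal χ v + chVal χ w) = χ a * chVal χ v + χ a * chVal χ w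
    rw [mul_add]

/-- `1 + u + ... + u^(n-1)`. -/
def geo (u : R) : ℕ → R
  | 0 => 0
  | n + 1 => 1 + u * geo u n

theorem gN_ch (h : H) (n : ℕ) (v : Ch χ) :
    chVal χ (gN h n v) = geo (χ h) n * chVal χ v := by
  induction n with
  | zero => exact (zero_mul (chVal χ v)).symm
  | succ k ih =>
    show chVal χ v + χ h * chVal χ (gN h k v) = (1 + χ h * geo (χ h) k) * chVal χ v
    rw [ih, add_mul, one_mul, mul_assoc]

/-- Value of `ann` for a character into a domain. -/
def annVal [Fintype R] [DecidableEq R] (h : H) (n : ℕ) : ℕ :=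
  if geo (χ h) n = 0 then Fintype.card R else 1

theorem ann_ch [Fintype R] [DecidableEq R] [NoZeroDivisors R] (h : H) (n : ℕ) :
    ann (Ch χ) h n = annVal χ h n := by
  rw [annVal, ann]
  split_ifs with h0
  · refine (congrArg Finset.card (Finset.filter_true_of_mem fun v _ => ?_)).trans Finset.card_univ
    show chVal χ (gN h n v) = 0
    rw [gN_ch, h0, zero_mul]
  · refine Finset.card_eq_one.2 ⟨chOf χ 0, Finset.ext fun v => ?_⟩
    simp only [Finset.mem_filter, Finset.mem_univ, true_and, Finset.mem_singleton]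
    constructor
    · intro hv
      have h1 : geo (χ h) n * chVal χ v = 0 := by rw [← gN_ch, hv]; rfl
      exact (mul_eq_zero.1 h1).resolve_left h0
    · intro hv
      show chVal χ (gN h n v) = 0
      rw [gN_ch, hv]; exact mul_zero _

end ch

/-- The cyclic group of order `m`. -/
abbrev Cy (m : ℕ) : Type := Multiplicative (ZMod m)

/-- The character sending the generator to `u`. -/
def powHom {R : Type} [Monoid R] (m : ℕ) [NeZero m] (u : R) (hu : u ^ m = 1) : Cy m →* R where
  toFun x := u ^ (Multiplicative.toAdd x).val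
  map_one' := by simp
  map_mul' a b := by
    rw [← pow_add, toAdd_mul, ZMod.val_add]
    exact (pow_eq_pow_mod _ hu).symm

theorem cy_isSolvable (m : ℕ) : Group.IsSolvable (Cy m) := inferInstance

theorem prod_isSolvable {A B : Type*} [Group A] [Group B] (hA : Group.IsSolvable A)
    (hB : Group.IsSolvable B) : Group.IsSolvable (A × B) := by
  haveI := hA
  haveI := hB
  infer_instance

theorem pi_isSolvable {A : Type*} [Group A] (c : ℕ) (hA : Group.IsSolvable A) :
    Group.IsSolvable (Fin c → A) := by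
  obtain ⟨k, hk⟩ := hA.solvable
  refine ⟨⟨k, ?_⟩⟩
  rw [eq_bot_iff]
  intro x hx
  rw [Subgroup.mem_bot]
  funext i
  have h1 := map_derivedSeries_le_derivedSeries (Pi.evalMonoidHom (fun _ : Fin c => A) i) k
    (Subgroup.mem_map_of_mem _ hx)
  rw [hk, Subgroup.mem_bot] at h1
  exact h1

end Cfsg.Agent.H79.OrderType
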