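import Cfsg.Agent.H79.OrderTypeBase

/-!
Small solvable groups of exponent dividing 84 and their counts of solutions of `g ^ n = 1`.
-/

namespace Cfsg.Agent.H79.OrderType

/-- The field with 4 elements. -/
abbrev F4 : Type := QuadraticAlgebra (ZMod 2) 1 1
/-- The field with 49 elements. -/
abbrev F49 : Type := QuadraticAlgebra (ZMod 7) (-1) 0

instance qaFintype {R : Type} [Fintype R] (a b : R) : Fintype (QuadraticAlgebra R a b) :=
  Fintype.ofEquiv (R × R) (QuadraticAlgebra.equivProd a b).symm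

instance nzd3 : NoZeroDivisors (ZMod 3) := ⟨fun {a b} => by revert a b; decide⟩
instance nzd7 : NoZeroDivisors (ZMod 7) := ⟨fun {a b} => by revert a b; decide⟩
instance nzd4 : NoZeroDivisors F4 := ⟨fun {a b} => by revert a b; decide +kernel⟩
instance nzd49 : NoZeroDivisors F49 := ⟨fun {a b} => by revert a b; decide +kernel⟩

/-- Factor 1. -/
abbrev K1 : Type := Cy 4

theorem has_k1 : Has K1 [2, 1, 4, 2, 1, 4, 2, 1, 4, 2, 4] :=
  has_of_decide (by decide +kernel) (by decide +kernel)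

theorem sol_k1 : Group.IsSolvable K1 := cy_isSolvable _

/-- Factor 2. -/
abbrev K2 : Type := Cy 7

theorem has_k2 : Has K2 [1, 1, 1, 1, 7, 1, 7, 7, 7, 7, 7] :=
  has_of_decide (by decide +kernel) (by decide +kernel)

theorem sol_k2 : Group.IsSolvable K2 := cy_isSolvable _

/-- Character 0 of factor 3. -/
def chi3_0 : Cy 3 →* F4 :=
  powHom 3 ((⟨0, 1⟩ : F4) ^ 1) (by decide +kernel)

/-- Factor 3. -/
abbrev K3 : Type := Tw (Cy 3) (Ch chi3_0)

theorem has_k3 : Has K3 [4, 9, 4, 12, 1, 12, 4, 9, 4, 12, 12] :=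
  has_tw (fun h n => annVal chi3_0 h n)
    (fun h n => by simp only [ann_ch]) (by decide +kernel) (by decide +kernel)

theorem sol_k3 : Group.IsSolvable K3 := tw_isSolvable (cy_isSolvable _)

/-- Character 0 of factor 4. -/
def chi4_0 : Cy 2 →* ZMod 7 :=
  powHom 2 ((3 : ZMod 7) ^ 3) (by decide +kernel)

/-- Factor 4. -/
abbrev K4 : Type := Tw (Cy 2) (Ch chi4_0)

theorem has_k4 : Has K4 [8, 1, 8, 8, 7, 8, 14, 7, 14, 14, 14] :=
  has_tw (fun h n => annVal chi4_0 h n)
    (fun h n => by simp only [ann_ch]) (by decide +kernel) (by decide +kernel)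

theorem sol_k4 : Group.IsSolvable K4 := tw_isSolvable (cy_isSolvable _)

/-- Character 0 of factor 5. -/
def chi5_0 : Cy 2 →* ZMod 3 :=
  powHom 2 ((2 : ZMod 3) ^ 1) (by decide +kernel)

/-- Factor 5. -/
abbrev K5 : Type := Tw (Cy 2) (Ch chi5_0 × Ch chi5_0)

theorem has_k5 : Has K5 [10, 9, 10, 18, 1, 18, 10, 9, 10, 18, 18] :=
  has_tw (fun h n => annVal chi5_0 h n * (annVal chi5_0 h n))
    (fun h n => by simp only [ann_prod, ann_ch]) (by decide +kernel) (by decide +kernel)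

theorem sol_k5 : Group.IsSolvable K5 := tw_isSolvable (cy_isSolvable _)

/-- Character 0 of factor 6. -/
def chi6_0 : Cy 3 →* ZMod 7 :=
  powHom 3 ((3 : ZMod 7) ^ 2) (by decide +kernel)

/-- Factor 6. -/
abbrev K6 : Type := Tw (Cy 3) (Ch chi6_0)

theorem has_k6 : Has K6 [1, 15, 1, 15, 7, 15, 7, 21, 7, 21, 21] :=
  has_tw (fun h n => annVal chi6_0 h n)
    (fun h n => by simp only [ann_ch]) (by decide +kernel) (by decide +kernel)

theorem sol_k6 : Group.IsSolvable K6 := tw_isSolvable (cy_isSolvable _)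

/-- Character 0 of factor 7. -/
def chi7_0 : Cy 4 →* ZMod 7 :=
  powHom 4 ((3 : ZMod 7) ^ 3) (by decide +kernel)

/-- Factor 7. -/
abbrev K7 : Type := Tw (Cy 4) (Ch chi7_0)

theorem has_k7 : Has K7 [2, 1, 16, 2, 7, 16, 14, 7, 28, 14, 28] :=
  has_tw (fun h n => annVal chi7_0 h n)
    (fun h n => by simp only [ann_ch]) (by decide +kernel) (by decide +kernel)

theorem sol_k7 : Group.IsSolvable K7 := tw_isSolvable (cy_isSolvable _)

/-- Character 0 of factor 8. -/
def chi8_0 : Cy 4 →* ZMod 3 :=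
  powHom 4 ((2 : ZMod 3) ^ 1) (by decide +kernel)

/-- Factor 8. -/
abbrev K8 : Type := Tw (Cy 4) (Ch chi8_0 × Ch chi8_0)

theorem has_k8 : Has K8 [2, 9, 20, 18, 1, 36, 2, 9, 20, 18, 36] :=
  has_tw (fun h n => annVal chi8_0 h n * (annVal chi8_0 h n))
    (fun h n => by simp only [ann_prod, ann_ch]) (by decide +kernel) (by decide +kernel)

theorem sol_k8 : Group.IsSolvable K8 := tw_isSolvable (cy_isSolvable _)

/-- Character 0 of factor 9. -/
def chi9_0 : Cy 6 →* ZMod 7 :=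
  powHom 6 ((3 : ZMod 7) ^ 1) (by decide +kernel)

/-- Factor 9. -/
abbrev K9 : Type := Tw (Cy 6) (Ch chi9_0)

theorem has_k9 : Has K9 [8, 15, 8, 36, 7, 36, 14, 21, 14, 42, 42] :=
  has_tw (fun h n => annVal chi9_0 h n)
    (fun h n => by simp only [ann_ch]) (by decide +kernel) (by decide +kernel)

theorem sol_k9 : Group.IsSolvable K9 := tw_isSolvable (cy_isSolvable _)

/-- Character 0 of factor 10. -/
def chi10_0 : Cy 2 →* ZMod 7 :=
  powHom 2 ((3 : ZMod 7) ^ 3) (by decide +kernel)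

/-- Factor 10. -/
abbrev K10 : Type := Tw (Cy 2) (Ch chi10_0 × Ch chi10_0)

theorem has_k10 : Has K10 [50, 1, 50, 50, 49, 50, 98, 49, 98, 98, 98] :=
  has_tw (fun h n => annVal chi10_0 h n * (annVal chi10_0 h n))
    (fun h n => by simp only [ann_prod, ann_ch]) (by decide +kernel) (by decide +kernel)

theorem sol_k10 : Group.IsSolvable K10 := tw_isSolvable (cy_isSolvable _)

/-- Character 0 of factor 11. -/
def chi11_0 : Cy 2 →* ZMod 3 :=
  powHom 2 ((2 : ZMod 3) ^ 1) (by decide +kernel)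

/-- Character 1 of factor 11. -/
def chi11_1 : Cy 2 →* ZMod 7 :=
  powHom 2 ((3 : ZMod 7) ^ 3) (by decide +kernel)

/-- Factor 11. -/
abbrev K11 : Type := Tw (Cy 2) (Ch chi11_0 × Ch chi11_0 × Ch chi11_1)

theorem has_k11 : Has K11 [64, 9, 64, 72, 7, 72, 70, 63, 70, 126, 126] :=
  has_tw (fun h n => annVal chi11_0 h n * (annVal chi11_0 h n * (annVal chi11_1 h n)))
    (fun h n => by simp only [ann_prod, ann_ch]) (by decide +kernel) (by decide +kernel)

theorem sol_k11 : Group.IsSolvable K11 := tw_isSolvable (cy_isSolvable _)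

/-- Character 0 of factor 12. -/
def chi12_0 : Cy 3 →* ZMod 7 :=
  powHom 3 ((3 : ZMod 7) ^ 2) (by decide +kernel)

/-- Factor 12. -/
abbrev K12 : Type := Tw (Cy 3) (Ch chi12_0 × Ch chi12_0)

theorem has_k12 : Has K12 [1, 99, 1, 99, 49, 99, 49, 147, 49, 147, 147] :=
  has_tw (fun h n => annVal chi12_0 h n * (annVal chi12_0 h n))
    (fun h n => by simp only [ann_prod, ann_ch]) (by decide +kernel) (by decide +kernel)

theorem sol_k12 : Group.IsSolvable K12 := tw_isSolvable (cy_isSolvable _)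

/-- Character 0 of factor 13. -/
def chi13_0 : Cy 4 →* ZMod 7 :=
  powHom 4 ((3 : ZMod 7) ^ 3) (by decide +kernel)

/-- Factor 13. -/
abbrev K13 : Type := Tw (Cy 4) (Ch chi13_0 × Ch chi13_0)

theorem has_k13 : Has K13 [2, 1, 100, 2, 49, 100, 98, 49, 196, 98, 196] :=
  has_tw (fun h n => annVal chi13_0 h n * (annVal chi13_0 h n))
    (fun h n => by simp only [ann_prod, ann_ch]) (by decide +kernel) (by decide +kernel)

theorem sol_k13 : Group.IsSolvable K13 := tw_isSolvable (cy_isSolvable _)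

/-- Character 0 of factor 14. -/
def chi14_0 : Cy 4 →* ZMod 3 :=
  powHom 4 ((2 : ZMod 3) ^ 1) (by decide +kernel)

/-- Character 1 of factor 14. -/
def chi14_1 : Cy 4 →* ZMod 7 :=
  powHom 4 ((3 : ZMod 7) ^ 3) (by decide +kernel)

/-- Factor 14. -/
abbrev K14 : Type := Tw (Cy 4) (Ch chi14_0 × Ch chi14_0 × Ch chi14_1)

theorem has_k14 : Has K14 [2, 9, 128, 18, 7, 144, 14, 63, 140, 126, 252] :=
  has_tw (fun h n => annVal chi14_0 h n * (annVal chi14_0 h n * (annVal chi14_1 h n)))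
    (fun h n => by simp only [ann_prod, ann_ch]) (by decide +kernel) (by decide +kernel)

theorem sol_k14 : Group.IsSolvable K14 := tw_isSolvable (cy_isSolvable _)

/-- Character 0 of factor 15. -/
def chi15_0 : Cy 2 →* ZMod 3 :=
  powHom 2 ((2 : ZMod 3) ^ 1) (by decide +kernel)

/-- Character 1 of factor 15. -/
def chi15_1 : Cy 2 →* ZMod 7 :=
  powHom 2 ((3 : ZMod 7) ^ 3) (by decide +kernel)

/-- Factor 15. -/
abbrev K15 : Type := Tw (Cy 2) (Ch chi15_0 × Ch chi15_1 × Ch chi15_1)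

theorem has_k15 : Has K15 [148, 3, 148, 150, 49, 150, 196, 147, 196, 294, 294] :=
  has_tw (fun h n => annVal chi15_0 h n * (annVal chi15_1 h n * (annVal chi15_1 h n)))
    (fun h n => by simp only [ann_prod, ann_ch]) (by decide +kernel) (by decide +kernel)

theorem sol_k15 : Group.IsSolvable K15 := tw_isSolvable (cy_isSolvable _)

/-- Character 0 of factor 16. -/
def chi16_0 : Cy 6 →* ZMod 7 :=
  powHom 6 ((3 : ZMod 7) ^ 1) (by decide +kernel)

/-- Character 1 of factor 16. -/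
def chi16_1 : Cy 6 →* ZMod 7 :=
  powHom 6 ((3 : ZMod 7) ^ 3) (by decide +kernel)

/-- Factor 16. -/
abbrev K16 : Type := Tw (Cy 6) (Ch chi16_0 × Ch chi16_1)

theorem has_k16 : Has K16 [50, 15, 50, 162, 49, 162, 98, 147, 98, 294, 294] :=
  has_tw (fun h n => annVal chi16_0 h n * (annVal chi16_1 h n))
    (fun h n => by simp only [ann_prod, ann_ch]) (by decide +kernel) (by decide +kernel)

theorem sol_k16 : Group.IsSolvable K16 := tw_isSolvable (cy_isSolvable _)

/-- Character 0 of factor 17. -/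
def chi17_0 : Cy 12 →* ZMod 7 :=
  powHom 12 ((3 : ZMod 7) ^ 1) (by decide +kernel)

/-- Character 1 of factor 17. -/
def chi17_1 : Cy 12 →* ZMod 7 :=
  powHom 12 ((3 : ZMod 7) ^ 3) (by decide +kernel)

/-- Factor 17. -/
abbrev K17 : Type := Tw (Cy 12) (Ch chi17_0 × Ch chi17_1)

theorem has_k17 : Has K17 [2, 15, 100, 30, 49, 324, 98, 147, 196, 294, 588] :=
  has_tw (fun h n => annVal chi17_0 h n * (annVal chi17_1 h n))
    (fun h n => by simp only [ann_prod, ann_ch]) (by decide +kernel) (by decide +kernel)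

theorem sol_k17 : Group.IsSolvable K17 := tw_isSolvable (cy_isSolvable _)

/-- Character 0 of factor 18. -/
def chi18_0 : Cy 4 × Cy 2 →* ZMod 3 :=
  MonoidHom.coprod (powHom 4 ((2 : ZMod 3) ^ 0) (by decide +kernel)) (powHom 2 ((2 : ZMod 3) ^ 1) (by decide +kernel))

/-- Character 1 of factor 18. -/
def chi18_1 : Cy 4 × Cy 2 →* ZMod 7 :=
  MonoidHom.coprod (powHom 4 ((3 : ZMod 7) ^ 3) (by decide +kernel)) (powHom 2 ((3 : ZMod 7) ^ 0) (by decide +kernel))

/-- Character 2 of factor 18. -/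
def chi18_2 : Cy 4 × Cy 2 →* ZMod 7 :=
  MonoidHom.coprod (powHom 4 ((3 : ZMod 7) ^ 3) (by decide +kernel)) (powHom 2 ((3 : ZMod 7) ^ 3) (by decide +kernel))

/-- Factor 18. -/
abbrev K18 : Type := Tw (Cy 4 × Cy 2) (Ch chi18_0 × Ch chi18_1 × Ch chi18_2)

theorem has_k18 : Has K18 [44, 3, 184, 48, 49, 384, 392, 147, 784, 588, 1176] :=
  has_tw (fun h n => annVal chi18_0 h n * (annVal chi18_1 h n * (annVal chi18_2 h n)))
    (fun h n => by simp only [ann_prod, ann_ch]) (by decide +kernel) (by decide +kernel)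

theorem sol_k18 : Group.IsSolvable K18 := tw_isSolvable (prod_isSolvable (cy_isSolvable _) (cy_isSolvable _))

/-- Character 0 of factor 19. -/
def chi19_0 : Cy 12 →* ZMod 7 :=
  powHom 12 ((3 : ZMod 7) ^ 1) (by decide +kernel)

/-- Character 1 of factor 19. -/
def chi19_1 : Cy 12 →* F49 :=
  powHom 12 ((⟨0, 1⟩ : F49) ^ 1) (by decide +kernel)

/-- Factor 19. -/
abbrev K19 : Type := Tw (Cy 12) (Ch chi19_0 × Ch chi19_1)

theorem has_k19 : Has K19 [50, 15, 736, 750, 343, 2808, 686, 1029, 1372, 2058, 4116] :=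
  has_tw (fun h n => annVal chi19_0 h n * (annVal chi19_1 h n))
    (fun h n => by simp only [ann_prod, ann_ch]) (by decide +kernel) (by decide +kernel)

theorem sol_k19 : Group.IsSolvable K19 := tw_isSolvable (cy_isSolvable _)

/-- Character 0 of factor 20. -/
def chi20_0 : Cy 6 × Cy 2 →* ZMod 7 :=
  MonoidHom.coprod (powHom 6 ((3 : ZMod 7) ^ 2) (by decide +kernel)) (powHom 2 ((3 : ZMod 7) ^ 3) (by decide +kernel))

/-- Character 1 of factor 20. -/
def chi20_1 : Cy 6 × Cy 2 →* ZMod 7 :=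
  MonoidHom.coprod (powHom 6 ((3 : ZMod 7) ^ 3) (by decide +kernel)) (powHom 2 ((3 : ZMod 7) ^ 0) (by decide +kernel))

/-- Character 2 of factor 20. -/
def chi20_2 : Cy 6 × Cy 2 →* ZMod 7 :=
  MonoidHom.coprod (powHom 6 ((3 : ZMod 7) ^ 5) (by decide +kernel)) (powHom 2 ((3 : ZMod 7) ^ 3) (by decide +kernel))

/-- Factor 20. -/
abbrev K20 : Type := Tw (Cy 6 × Cy 2) (Ch chi20_0 × Ch chi20_1 × Ch chi20_2)

theorem has_k20 : Has K20 [148, 99, 148, 1716, 343, 1716, 1372, 1029, 1372, 4116, 4116] :=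
  has_tw (fun h n => annVal chi20_0 h n * (annVal chi20_1 h n * (annVal chi20_2 h n)))
    (fun h n => by simp only [ann_prod, ann_ch]) (by decide +kernel) (by decide +kernel)

theorem sol_k20 : Group.IsSolvable K20 := tw_isSolvable (prod_isSolvable (cy_isSolvable _) (cy_isSolvable _))

end Cfsg.Agent.H79.OrderType
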