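import Cfsg.Agent.H79.OrderTypeBase

/-!
`SL(3, 2)` on explicit nine-entry matrices: it is not solvable, and its counts of solutions of
`g ^ n = 1`.
-/

namespace Cfsg.Agent.H79.OrderType

/-- A 3 × 3 matrix over the field with two elements. -/
@[ext]
structure M3 where
  a : ZMod 2
  b : ZMod 2
  c : ZMod 2
  d : ZMod 2
  e : ZMod 2
  f : ZMod 2
  g : ZMod 2
  h : ZMod 2
  i : ZMod 2
deriving DecidableEq

instance m3Fintype : Fintype M3 :=
  Fintype.ofEquiv (ZMod 2 × ZMod 2 × ZMod 2 × ZMod 2 × ZMod 2 × ZMod 2 × ZMod 2 × ZMod 2 × ZMod 2)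
    { toFun := fun x => ⟨x.1, x.2.1, x.2.2.1, x.2.2.2.1, x.2.2.2.2.1, x.2.2.2.2.2.1, x.2.2.2.2.2.2.1,
        x.2.2.2.2.2.2.2.1, x.2.2.2.2.2.2.2.2⟩
      invFun := fun m => (m.a, m.b, m.c, m.d, m.e, m.f, m.g, m.h, m.i)
      left_inv := fun _ => rfl
      right_inv := fun _ => rfl }

/-- Matrix product. -/
def m3Mul (x y : M3) : M3 :=
  ⟨x.a * y.a + x.b * y.d + x.c * y.g, x.a * y.b + x.b * y.e + x.c * y.h, x.a * y.c + x.b * y.f + x.c * y.i,
   x.d * y.a + x.e * y.d + x.f * y.g, x.d * y.b + x.e * y.e + x.f * y.h, x.d * y.c + x.e * y.f + x.f * y.i,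
   x.g * y.a + x.h * y.d + x.i * y.g, x.g * y.b + x.h * y.e + x.i * y.h, x.g * y.c + x.h * y.f + x.i * y.i⟩

/-- Determinant. -/
def m3Det (x : M3) : ZMod 2 :=
  x.a * (x.e * x.i - x.f * x.h) - x.b * (x.d * x.i - x.f * x.g) + x.c * (x.d * x.h - x.e * x.g)

/-- Adjugate. -/
def m3Adj (x : M3) : M3 :=
  ⟨x.e * x.i - x.f * x.h, x.c * x.h - x.b * x.i, x.b * x.f - x.c * x.e,
   x.f * x.g - x.d * x.i, x.a * x.i - x.c * x.g, x.c * x.d - x.a * x.f,
   x.d * x.h - x.e * x.g, x.b * x.g - x.a * x.h, x.a * x.e - x.b * x.d⟩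

theorem m3Det_mul (x y : M3) : m3Det (m3Mul x y) = m3Det x * m3Det y := by
  simp only [m3Det, m3Mul]; ring

theorem m3Mul_assoc (x y z : M3) : m3Mul (m3Mul x y) z = m3Mul x (m3Mul y z) := by
  ext <;> simp only [m3Mul] <;> ring

theorem m3Adj_det : ∀ x : M3, m3Det x = 1 →
    m3Det (m3Adj x) = 1 ∧ m3Mul (m3Adj x) x = ⟨1, 0, 0, 0, 1, 0, 0, 0, 1⟩ := by decide +kernel

/-- `SL(3, 2)`, the simple group of order 168. -/
def L27 : Type := {x : M3 // m3Det x = 1}

instance l27Fintype : Fintype L27 := inferInstanceAs (Fintype {x : M3 // m3Det x = 1})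
instance l27DecidableEq : DecidableEq L27 := inferInstanceAs (DecidableEq {x : M3 // m3Det x = 1})

instance l27Mul : Mul L27 := ⟨fun x y => ⟨m3Mul x.1 y.1, by rw [m3Det_mul, x.2, y.2, one_mul]⟩⟩
instance l27One : One L27 := ⟨⟨⟨1, 0, 0, 0, 1, 0, 0, 0, 1⟩, by decide⟩⟩
instance l27Inv : Inv L27 := ⟨fun x => ⟨m3Adj x.1, (m3Adj_det x.1 x.2).1⟩⟩

theorem l27_one_mul : ∀ x : M3, m3Mul ⟨1, 0, 0, 0, 1, 0, 0, 0, 1⟩ x = x := by
  intro x; ext <;> simp [m3Mul]

theorem l27_mul_one : ∀ x : M3, m3Mul x ⟨1, 0, 0, 0, 1, 0, 0, 0, 1⟩ = x := by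
  intro x; ext <;> simp [m3Mul]

instance l27Group : Group L27 where
  mul_assoc x y z := Subtype.ext (m3Mul_assoc x.1 y.1 z.1)
  one_mul x := Subtype.ext (l27_one_mul x.1)
  mul_one x := Subtype.ext (l27_mul_one x.1)
  inv_mul_cancel x := Subtype.ext (m3Adj_det x.1 x.2).2

/-- A 3 × 3 Boolean matrix, for fast evaluation. -/
@[ext]
structure B3 where
  a : Bool
  b : Bool
  c : Bool
  d : Bool
  e : Bool
  f : Bool
  g : Bool
  h : Bool
  i : Bool
deriving DecidableEq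

/-- Boolean matrix product. -/
def b3Mul (x y : B3) : B3 :=
  ⟨Bool.xor (Bool.xor (x.a && y.a) (x.b && y.d)) (x.c && y.g),
   Bool.xor (Bool.xor (x.a && y.b) (x.b && y.e)) (x.c && y.h),
   Bool.xor (Bool.xor (x.a && y.c) (x.b && y.f)) (x.c && y.i),
   Bool.xor (Bool.xor (x.d && y.a) (x.e && y.d)) (x.f && y.g),
   Bool.xor (Bool.xor (x.d && y.b) (x.e && y.e)) (x.f && y.h),
   Bool.xor (Bool.xor (x.d && y.c) (x.e && y.f)) (x.f && y.i),
   Bool.xor (Bool.xor (x.g && y.a) (x.h && y.d)) (x.i && y.g),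
   Bool.xor (Bool.xor (x.g && y.b) (x.h && y.e)) (x.i && y.h),
   Bool.xor (Bool.xor (x.g && y.c) (x.h && y.f)) (x.i && y.i)⟩

/-- Boolean powers. -/
def b3Pow (x : B3) : ℕ → B3
  | 0 => ⟨true, false, false, false, true, false, false, false, true⟩
  | n + 1 => b3Mul (b3Pow x n) x

/-- Whether a field element is 1. -/
def toB (u : ZMod 2) : Bool := decide (u = 1)

theorem toB_add : ∀ u v : ZMod 2, toB (u + v) = Bool.xor (toB u) (toB v) := by decide
theorem toB_mul : ∀ u v : ZMod 2, toB (u * v) = (toB u && toB v) := by decide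
theorem toB_inj : ∀ u v : ZMod 2, toB u = toB v → u = v := by decide

/-- Boolean form of an element. -/
def bForm (x : L27) : B3 :=
  ⟨toB x.1.a, toB x.1.b, toB x.1.c, toB x.1.d, toB x.1.e, toB x.1.f, toB x.1.g, toB x.1.h, toB x.1.i⟩

theorem bForm_injective : Function.Injective bForm := by
  intro x y h
  simp only [bForm, B3.mk.injEq] at h
  obtain ⟨h0, h1, h2, h3, h4, h5, h6, h7, h8⟩ := h
  exact Subtype.ext (M3.ext (toB_inj _ _ h0) (toB_inj _ _ h1) (toB_inj _ _ h2) (toB_inj _ _ h3) (toB_inj _ _ h4) (toB_inj _ _ h5) (toB_inj _ _ h6) (toB_inj _ _ h7) (toB_inj _ _ h8))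

theorem bForm_mul (x y : L27) : bForm (x * y) = b3Mul (bForm x) (bForm y) := by
  show bForm ⟨m3Mul x.1 y.1, _⟩ = _
  simp only [bForm, b3Mul, m3Mul, toB_add, toB_mul]

theorem bForm_pow (x : L27) (n : ℕ) : bForm (x ^ n) = b3Pow (bForm x) n := by
  induction n with
  | zero => rw [pow_zero]; rfl
  | succ k ih => rw [pow_succ, bForm_mul, ih, b3Pow]

theorem cnt_L27 (n : ℕ) : cnt L27 n =
    ((Finset.univ.image bForm).filter fun x => b3Pow x n = b3Pow x 0).card := by
  rw [cnt, Nat.card_eq_fintype_card, Fintype.card_subtype, Finset.filter_image,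
    Finset.card_image_of_injective _ bForm_injective]
  congr 1
  ext g
  simp only [Finset.mem_filter, Finset.mem_univ, true_and]
  rw [← bForm_pow, ← bForm_pow, pow_zero]
  exact ⟨fun h => by rw [h], fun h => bForm_injective h⟩

theorem l27_pow84 : ∀ x ∈ Finset.univ.image bForm, b3Pow x 84 = b3Pow x 0 := by decide +kernel

theorem has_L27 : Has L27 [22, 57, 64, 78, 49, 120, 70, 105, 112, 126, 168] := by
  refine ⟨?_, fun g => bForm_injective ?_⟩
  · rw [List.map_congr_left (fun n _ => cnt_L27 n)]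
    decide +kernel
  · rw [bForm_pow, ← pow_zero g, bForm_pow]
    exact l27_pow84 _ (Finset.mem_image_of_mem _ (Finset.mem_univ g))

/-- First generator. -/
def genX : L27 := ⟨⟨0, 0, 1, 0, 1, 0, 1, 0, 1⟩, by decide⟩
/-- Second generator. -/
def genY : L27 := ⟨⟨0, 1, 1, 1, 1, 1, 1, 1, 0⟩, by decide⟩

theorem l27_witness : genX = genY * genY * genX * (genY * genY)⁻¹ * genX⁻¹ ∧
    genY = genX * genY * genX * genY * (genX * genY * genX) * (genX * genY * genX * genY)⁻¹ *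
      (genX * genY * genX)⁻¹ ∧ genX ≠ 1 := by decide +kernel

theorem not_solvable_L27 : ¬ Group.IsSolvable L27 := by
  intro h
  obtain ⟨k, hk⟩ := h.solvable
  have key : ∀ n, genX ∈ derivedSeries L27 n ∧ genY ∈ derivedSeries L27 n := by
    intro n
    induction n with
    | zero => exact ⟨Subgroup.mem_top _, Subgroup.mem_top _⟩
    | succ m ih =>
      obtain ⟨hx, hy⟩ := ih
      obtain ⟨ex, ey, -⟩ := l27_witness
      constructor
      · rw [ex, derivedSeries_succ]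
        exact Subgroup.commutator_mem_commutator (mul_mem hy hy) hx
      · rw [ey, derivedSeries_succ]
        exact Subgroup.commutator_mem_commutator (mul_mem (mul_mem (mul_mem hx hy) hx) hy)
          (mul_mem (mul_mem hx hy) hx)
  have := (key k).1
  rw [hk, Subgroup.mem_bot] at this
  exact l27_witness.2.2 this

end Cfsg.Agent.H79.OrderType
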