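import Cfsg.Agent.H79.OrderTypeBase

/-!
The symmetric group of degree 4 and the group of semilinear affine maps of the line over the field
with 8 elements, as iterated semidirect products, and `SL(3, 2)` as a matrix group.
-/

namespace Cfsg.Agent.H79.OrderType

instance nzd3' : NoZeroDivisors (ZMod 3) := ⟨fun {a b} => by revert a b; decide⟩
instance nzd7' : NoZeroDivisors (ZMod 7) := ⟨fun {a b} => by revert a b; decide⟩

/-- Inversion on the cyclic group of order 3. -/
def chiS3 : Cy 2 →* ZMod 3 := powHom 2 (2 : ZMod 3) (by decide)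
/-- The symmetric group of degree 3. -/
abbrev G6 : Type := Tw (Cy 2) (Ch chiS3)
/-- Squaring on the cyclic group of order 7. -/
def chiF21 : Cy 3 →* ZMod 7 := powHom 3 (2 : ZMod 7) (by decide)
/-- The Frobenius group of order 21. -/
abbrev G21 : Type := Tw (Cy 3) (Ch chiF21)

/-- The Klein four group. -/
def V4 : Type := ZMod 2 × ZMod 2
instance v4AddCommGroup : AddCommGroup V4 := inferInstanceAs (AddCommGroup (ZMod 2 × ZMod 2))
instance v4Fintype : Fintype V4 := inferInstanceAs (Fintype (ZMod 2 × ZMod 2))
instance v4DecidableEq : DecidableEq V4 := inferInstanceAs (DecidableEq (ZMod 2 × ZMod 2))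

/-- The action of the symmetric group of degree 3 on the Klein four group. -/
def act4 (g : G6) (v : V4) : V4 :=
  (fun w : ZMod 2 × ZMod 2 => ((w.2, w.1 + w.2) : ZMod 2 × ZMod 2))^[(chVal chiS3 g.v).val]
    ((fun w : ZMod 2 × ZMod 2 => ((w.2, w.1) : ZMod 2 × ZMod 2))^[(Multiplicative.toAdd g.h).val] v)

theorem act4_one : ∀ v : V4, act4 1 v = v := by decide +kernel
theorem act4_mul : ∀ (g h : G6) (v : V4), act4 (g * h) v = act4 g (act4 h v) := by decide +kernel
theorem act4_zero : ∀ g : G6, act4 g 0 = 0 := by decide +kernel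
theorem act4_add : ∀ (g : G6) (v w : V4), act4 g (v + w) = act4 g v + act4 g w := by decide +kernel

instance v4Action : DistribMulAction G6 V4 where
  smul := act4
  one_smul := act4_one
  mul_smul := act4_mul
  smul_zero := act4_zero
  smul_add := act4_add

/-- The symmetric group of degree 4. -/
abbrev KS4 : Type := Tw G6 V4

/-- The additive group of the field with 8 elements. -/
def V8 : Type := ZMod 2 × ZMod 2 × ZMod 2
instance v8AddCommGroup : AddCommGroup V8 := inferInstanceAs (AddCommGroup (ZMod 2 × ZMod 2 × ZMod 2))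
instance v8Fintype : Fintype V8 := inferInstanceAs (Fintype (ZMod 2 × ZMod 2 × ZMod 2))
instance v8DecidableEq : DecidableEq V8 := inferInstanceAs (DecidableEq (ZMod 2 × ZMod 2 × ZMod 2))

/-- The semilinear action of the group of order 21 on the field with 8 elements. -/
def act8 (g : G21) (v : V8) : V8 :=
  (fun w : ZMod 2 × ZMod 2 × ZMod 2 =>
      ((w.2.2, w.1 + w.2.2, w.2.1) : ZMod 2 × ZMod 2 × ZMod 2))^[(chVal chiF21 g.v).val]
    ((fun w : ZMod 2 × ZMod 2 × ZMod 2 =>
      ((w.1, w.2.2, w.2.1 + w.2.2) : ZMod 2 × ZMod 2 × ZMod 2))^[(Multiplicative.toAdd g.h).val] v)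

theorem act8_one : ∀ v : V8, act8 1 v = v := by decide +kernel
theorem act8_mul : ∀ (g h : G21) (v : V8), act8 (g * h) v = act8 g (act8 h v) := by decide +kernel
theorem act8_zero : ∀ g : G21, act8 g 0 = 0 := by decide +kernel
theorem act8_add : ∀ (g : G21) (v w : V8), act8 g (v + w) = act8 g v + act8 g w := by decide +kernel

instance v8Action : DistribMulAction G21 V8 where
  smul := act8
  one_smul := act8_one
  mul_smul := act8_mul
  smul_zero := act8_zero
  smul_add := act8_add

/-- The affine semilinear group of the line over the field with 8 elements. -/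
abbrev KF168 : Type := Tw G21 V8

theorem has_kS4 : Has KS4 [10, 9, 16, 18, 1, 24, 10, 9, 16, 18, 24] :=
  has_tw (ann V4) (fun _ _ => rfl) (by decide +kernel) (by decide +kernel)

theorem has_kF168 : Has KF168 [8, 57, 8, 120, 49, 120, 56, 105, 56, 168, 168] :=
  has_tw (ann V8) (fun _ _ => rfl) (by decide +kernel) (by decide +kernel)

theorem sol_kS4 : Group.IsSolvable KS4 := tw_isSolvable (tw_isSolvable (cy_isSolvable _))
theorem sol_kF168 : Group.IsSolvable KF168 := tw_isSolvable (tw_isSolvable (cy_isSolvable _))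

end Cfsg.Agent.H79.OrderType
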