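import Cfsg.Agent.H79.SpanField
import Cfsg.Agent.H44.PerfectSolvable
import Cfsg.Agent.PGroups.MaxAbelian

/-!
# The primitive case of the orbit theorem

If every abelian normal subgroup of the Sylow `p`-subgroup spans a field, the Sylow subgroup is
abelian or the space has order at most `q ^ 2`; in the latter case stabilisers are abelian and
Kazarin's theorem gives solvability.
-/

set_option autoImplicit false
set_option linter.style.haveILetI false

namespace Cfsg.Agent.H79.PPowerOrbits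

open MulAction

universe u

section group

variable {G : Type u} [Group G]

/-- `∑_{t < n} u ^ t`. -/
def geo (u n : ℕ) : ℕ := ∑ t ∈ Finset.range n, u ^ t

theorem geo_succ (u n : ℕ) : geo u (n + 1) = 1 + u * geo u n := by
  rw [geo, geom_sum_succ, geo]; ring

theorem mul_pow_of_conj {a b : G} {u : ℕ} (hb : b * a * b⁻¹ = a ^ u) (j n : ℕ) :
    (a ^ j * b) ^ n = a ^ (j * geo u n) * b ^ n := by
  induction n with
  | zero => simp [geo]
  | succ n ih =>
    have h1 : b * a ^ (j * geo u n) = a ^ (u * (j * geo u n)) * b := by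
      rw [pow_mul a u, ← hb, conj_pow, inv_mul_cancel_right]
    rw [pow_succ', ih, show a ^ j * b * (a ^ (j * geo u n) * b ^ n) =
      a ^ j * (b * a ^ (j * geo u n)) * b ^ n by group, h1, ← mul_assoc, ← pow_add, geo_succ,
      show j * (1 + u * geo u n) = j + u * (j * geo u n) by ring, mul_assoc, ← pow_succ']

theorem pow_conj_of_conj {a b : G} {u : ℕ} (hb : b * a * b⁻¹ = a ^ u) i :
    b ^ i * a * (b ^ i)⁻¹ = a ^ (u ^ i) := by
  induction i with
  | zero => simp
  | succ i ih =>
    rw [pow_succ' b, show b * b ^ i * a * (b * b ^ i)⁻¹ = b * (b ^ i * a * (b ^ i)⁻¹) * b⁻¹ by group,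
      ih, ← conj_pow, hb, ← pow_mul, pow_succ' u]

theorem geo_val {p u : ℕ} (hp : p.Prime) (hu : u % p = 1) (h2 : p = 2 → u % 4 = 1) :
    ∃ w : ℕ, geo u p = p * w ∧ ¬ p ∣ w := by
  rcases eq_or_ne p 2 with rfl | hodd
  · refine ⟨2 * (u / 4) + 1, ?_, by omega⟩
    have := h2 rfl
    rw [geo, Finset.sum_range_succ, Finset.sum_range_one, pow_zero, pow_one]
    omega
  obtain ⟨l, hl⟩ : ∃ l, u = 1 + p * l := ⟨u / p, by have := Nat.mod_add_div u p; omega⟩
  have hpow : ∀ t : ℕ, ((u ^ t : ℕ) : ZMod (p ^ 2)) = 1 + (t : ZMod (p ^ 2)) * ((p * l : ℕ)) := by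
    intro t
    have hsq : ((p * l : ℕ) : ZMod (p ^ 2)) * ((p * l : ℕ)) = 0 := by
      rw [← Nat.cast_mul, ZMod.natCast_eq_zero_iff]
      exact ⟨l * l, by ring⟩
    induction t with
    | zero => simp
    | succ t ih =>
      rw [pow_succ u t, Nat.cast_mul (u ^ t) u, ih, hl, Nat.cast_add, Nat.cast_one, Nat.cast_succ]
      linear_combination (t : ZMod (p ^ 2)) * hsq
  obtain ⟨k, hk⟩ : ∃ k, p - 1 = 2 * k := by
    obtain ⟨k, hk⟩ := (hp.eq_two_or_odd').resolve_left hodd
    exact ⟨k, by omega⟩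
  have hsum : ((geo u p : ℕ) : ZMod (p ^ 2)) = (p : ℕ) := by
    rw [geo, Nat.cast_sum, Finset.sum_congr rfl fun t _ => hpow t, Finset.sum_add_distrib,
      Finset.sum_const, Finset.card_range, nsmul_one, ← Finset.sum_mul, ← Nat.cast_sum]
    have h3 : ∑ t ∈ Finset.range p, t = p * k := by
      have := Finset.sum_range_id_mul_two p
      rw [hk, show p * (2 * k) = p * k * 2 by ring] at this
      exact Nat.eq_of_mul_eq_mul_right (by norm_num) this
    rw [h3, ← Nat.cast_mul, ← Nat.cast_add, ZMod.natCast_eq_natCast_iff', show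
      p + p * k * (p * l) = p + p ^ 2 * (k * l) by ring, Nat.add_mul_mod_self_left]
  rw [ZMod.natCast_eq_natCast_iff'] at hsum
  have hlt : p < p ^ 2 := by nlinarith [hp.two_le]
  rw [Nat.mod_eq_of_lt hlt] at hsum
  refine ⟨geo u p / (p ^ 2) * p + 1, ?_, ?_⟩
  · conv_lhs => rw [← Nat.div_add_mod (geo u p) (p ^ 2), hsum]
    ring
  · rw [Nat.dvd_add_right (Dvd.intro_left _ rfl)]
    exact hp.not_dvd_one

variable {p : ℕ} [hp : Fact p.Prime]

/-- In a `p`-group whose abelian normal subgroups are cyclic, an element inducing a power map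
congruent to one on a maximal one lies in it. -/
theorem modular_mem [Finite G] (hG : IsPGroup p G) (A : Subgroup G) [A.Normal]
    (hcen : Subgroup.centralizer (A : Set G) = A) {a : G} (ha : Subgroup.zpowers a = A)
    (hcyc : ∀ T : Subgroup G, T.Normal → IsMulCommutative T → IsCyclic T)
    {b : G} (hbA : b ^ p ∈ A) (hnorm : ∀ g : G, g * b * g⁻¹ * b⁻¹ ∈ A) {u : ℕ}
    (hb : b * a * b⁻¹ = a ^ u) (hu : u % p = 1) (hu2 : p = 2 → u % 4 = 1) : b ∈ A := by
  by_contra hbn
  obtain ⟨m, hm⟩ : ∃ m, orderOf a = p ^ m := IsPGroup.iff_orderOf.mp hG a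
  have hmem : ∀ x ∈ A, ∃ j : ℕ, a ^ j = x := fun x hx => by
    rw [← ha, ← mem_powers_iff_mem_zpowers] at hx
    exact hx
  have hbase : ∀ g : G, g * a * g⁻¹ ∈ A := fun g =>
    (inferInstance : A.Normal).conj_mem a (ha ▸ Subgroup.mem_zpowers a) g
  have hcomm_of : ∀ x : G, x * a = a * x → x ∈ A := by
    intro x hx
    rw [← hcen]
    refine Subgroup.mem_centralizer_iff.mpr fun y hy => ?_
    obtain ⟨j, rfl⟩ := hmem y hy
    exact ((show Commute x a from hx).pow_right j).symm
  have hune : a ^ u ≠ a := fun h => hbn (hcomm_of b (by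
    conv_rhs => rw [← h, ← hb, inv_mul_cancel_right]))
  -- b ^ p lies in the p-th powers
  obtain ⟨c, hc⟩ := hmem _ hbA
  have hc1 : a ^ (u * c) = a ^ c := by
    rw [pow_mul, ← hb, conj_pow, hc, ← pow_succ', pow_succ]
    exact mul_inv_cancel_right _ _
  obtain ⟨k, hk⟩ : p ∣ c := by
    by_contra hd
    apply hune
    rw [pow_eq_pow_iff_modEq, hm] at hc1
    conv_rhs => rw [← pow_one a]
    rw [pow_eq_pow_iff_modEq, hm]
    exact Nat.ModEq.cancel_right_of_coprime
      (((hp.out.coprime_iff_not_dvd).mpr hd).pow_left m) (by rwa [one_mul])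
  obtain ⟨w, hw, hwn⟩ := geo_val hp.out hu hu2
  -- an element of order p outside A
  have hm1 : 1 ≤ m := by
    by_contra h
    rw [show m = 0 by omega, pow_zero, orderOf_eq_one_iff] at hm
    rw [hm, one_pow] at hune
    exact hune rfl
  obtain ⟨j₀, hj₀⟩ : ∃ j₀ : ℕ, j₀ * w + k ≡ 0 [MOD p ^ m] := by
    obtain ⟨x, hx⟩ := (ZMod.isUnit_iff_coprime w (p ^ m)).mpr
      (((hp.out.coprime_iff_not_dvd).mpr hwn).symm.pow_right m)
    haveI : NeZero (p ^ m) := ⟨pow_ne_zero _ hp.out.ne_zero⟩
    refine ⟨((-(k : ZMod (p ^ m))) * ((x⁻¹ : (ZMod (p ^ m))ˣ) : ZMod (p ^ m))).val, ?_⟩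
    rw [← ZMod.natCast_eq_natCast_iff, Nat.cast_add, Nat.cast_mul, ZMod.natCast_zmod_val, ← hx,
      Units.inv_mul_cancel_right, neg_add_cancel, Nat.cast_zero]
  set b' := a ^ j₀ * b with hb'
  have hb'p : b' ^ p = 1 := by
    rw [hb', mul_pow_of_conj hb, ← hc, ← pow_add, hw, hk, ← pow_zero a, pow_eq_pow_iff_modEq, hm]
    have := hj₀.mul_left p
    rwa [mul_zero, mul_add, ← mul_assoc, mul_comm p j₀, mul_assoc] at this
  have hb'n : b' ∉ A := fun h => hbn (by
    have := A.mul_mem (A.inv_mem (A.pow_mem (ha ▸ Subgroup.mem_zpowers a) j₀)) h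
    rwa [hb', inv_mul_cancel_left] at this)
  have hb'conj : b' * a * b'⁻¹ = a ^ u := by
    rw [hb', show a ^ j₀ * b * a * (a ^ j₀ * b)⁻¹ = a ^ j₀ * (b * a * b⁻¹) * (a ^ j₀)⁻¹ by group,
      hb, ← pow_add, add_comm j₀ u, pow_add, mul_inv_cancel_right]
  set z := a ^ (p ^ (m - 1)) with hz
  have hzo : orderOf z = p := by
    rw [hz, orderOf_pow, hm, Nat.gcd_eq_right (pow_dvd_pow p (Nat.sub_le m 1)),
      Nat.pow_div (Nat.sub_le m 1) hp.out.pos, show m - (m - 1) = 1 by omega, pow_one]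
  have hzb : b' * z = z * b' := by
    have h1 : b' * z * b'⁻¹ = z := by
      rw [hz, ← conj_pow, hb'conj, ← pow_mul, pow_eq_pow_iff_modEq, hm,
        show p ^ m = p * p ^ (m - 1) by rw [← pow_succ']; congr 1; omega]
      conv_rhs => rw [← one_mul (p ^ (m - 1))]
      refine Nat.ModEq.mul_right' _ ?_
      rw [Nat.ModEq, hu, Nat.one_mod_eq_one.mpr hp.out.ne_one]
    conv_rhs => rw [← h1, inv_mul_cancel_right]
  set T := Subgroup.zpowers z ⊔ Subgroup.zpowers b' with hT
  have hTc : IsMulCommutative T := by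
    refine PGroups.isMulCommutative_sup_zpowers (PGroups.isMulCommutative_of_comm ?_) ?_
    · intro x hx y hy
      obtain ⟨i, rfl⟩ := hx
      obtain ⟨i', rfl⟩ := hy
      exact ((Commute.refl z).zpow_zpow i i').eq
    · refine Subgroup.mem_centralizer_iff.mpr ?_
      rintro _ ⟨i, rfl⟩
      exact ((show Commute b' z from hzb).zpow_right i).eq.symm
  haveI hTn : T.Normal := by
    have hzT : ∀ g : G, g * z * g⁻¹ ∈ T := fun g => by
      obtain ⟨r, hr⟩ := hmem _ (hbase g)
      rw [hz, ← conj_pow, ← hr, ← pow_mul, mul_comm r, pow_mul, ← hz]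
      exact Subgroup.mem_sup_left (Subgroup.pow_mem _ (Subgroup.mem_zpowers z) r)
    have hbT : ∀ g : G, g * b' * g⁻¹ ∈ T := fun g => by
      have h1 : g * b' * g⁻¹ * b'⁻¹ ∈ A := by
        rw [hb', show g * (a ^ j₀ * b) * g⁻¹ * (a ^ j₀ * b)⁻¹ =
          (g * a ^ j₀ * g⁻¹) * (g * b * g⁻¹ * b⁻¹) * (a ^ j₀)⁻¹ by group, ← conj_pow]
        exact A.mul_mem (A.mul_mem (A.pow_mem (hbase g) _) (hnorm g))
          (A.inv_mem (A.pow_mem (ha ▸ Subgroup.mem_zpowers a) j₀))
      obtain ⟨j, hj⟩ := hmem _ h1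
      have he : g * b' * g⁻¹ = a ^ j * b' := by rw [hj]; group
      have hord : (a ^ j * b') ^ p = 1 := by rw [← he, conj_pow, hb'p, mul_one, mul_inv_cancel]
      rw [mul_pow_of_conj hb'conj, hb'p, mul_one, hw, ← pow_zero a, pow_eq_pow_iff_modEq, hm,
        Nat.modEq_zero_iff_dvd, show p ^ m = p * p ^ (m - 1) by rw [← pow_succ']; congr 1; omega,
        show j * (p * w) = p * (j * w) by ring] at hord
      obtain ⟨i, hi⟩ := (((hp.out.coprime_iff_not_dvd).mpr hwn).pow_left (m - 1)).dvd_of_dvd_mul_right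
        (Nat.dvd_of_mul_dvd_mul_left hp.out.pos hord)
      rw [he, hi, pow_mul, ← hz]
      exact T.mul_mem (Subgroup.mem_sup_left (Subgroup.pow_mem _ (Subgroup.mem_zpowers z) i))
        (Subgroup.mem_sup_right (Subgroup.mem_zpowers b'))
    refine ⟨fun t ht g => ?_⟩
    have hle : T ≤ T.comap (MulAut.conj g).toMonoidHom := by
      rw [hT, sup_le_iff, Subgroup.zpowers_le, Subgroup.zpowers_le]
      exact ⟨hzT g, hbT g⟩
    exact hle ht
  haveI := hcyc T hTn hTc
  classical
  haveI : Fintype T := Fintype.ofFinite T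
  have hle := IsCyclic.card_pow_eq_one_le (α := T) hp.out.pos
  have hzT' : z ∈ T := Subgroup.mem_sup_left (Subgroup.mem_zpowers z)
  have hbT' : b' ∈ T := Subgroup.mem_sup_right (Subgroup.mem_zpowers b')
  let emb : Option (Fin p) → T := fun o =>
    o.elim ⟨b', hbT'⟩ fun i => ⟨z ^ (i : ℕ), T.pow_mem hzT' _⟩
  have hinj : Function.Injective emb := by
    rintro (_ | i) (_ | j) h
    · rfl
    · have h' : b' = z ^ (j : ℕ) := congrArg Subtype.val h
      exact absurd (h' ▸ A.pow_mem (A.pow_mem (ha ▸ Subgroup.mem_zpowers a) _) _) hb'n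
    · have h' : z ^ (i : ℕ) = b' := congrArg Subtype.val h
      exact absurd (h'.symm ▸ A.pow_mem (A.pow_mem (ha ▸ Subgroup.mem_zpowers a) _) _) hb'n
    · have h' : z ^ (i : ℕ) = z ^ (j : ℕ) := congrArg Subtype.val h
      exact congrArg some (Fin.ext (pow_injOn_Iio_orderOf (by simp [hzo, i.2]) (by simp [hzo, j.2]) h'))
  have h2 : (Finset.univ.image emb).card ≤ p := by
    refine le_trans (Finset.card_le_card fun x hx => ?_) hle
    obtain ⟨o, -, rfl⟩ := Finset.mem_image.mp hx
    refine Finset.mem_filter.mpr ⟨Finset.mem_univ _, Subtype.ext ?_⟩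
    rcases o with _ | i
    · exact hb'p
    · show (z ^ (i : ℕ)) ^ p = 1
      have hzp : z ^ p = 1 := by have := pow_orderOf_eq_one z; rwa [hzo] at this
      rw [← pow_mul, mul_comm, pow_mul, hzp, one_pow]
  rw [Finset.card_image_of_injective _ hinj, Finset.card_univ, Fintype.card_option,
    Fintype.card_fin] at h2
  omega

end group

section action

variable {H : Type u} [Group H] {V : Type u} [AddCommGroup V] [DistribMulAction H V]
variable {p q : ℕ} [hp : Fact p.Prime] [hq : Fact q.Prime]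

/-- An abelian point stabiliser forces solvability (Kazarin). -/
theorem isSolvable_of_abelian_stabilizer [Finite H] (horb : Orbits H V p) (P : Sylow p H) (v : V)
    (hab : ∀ g : H, g • v = v → ∀ h : H, h • v = v → g * h = h * g) : Group.IsSolvable H := by
  have hcl : ∀ c : stabilizer H v,
      Group.IsSolvable (Subgroup.normalClosure ({(c : H)} : Set H)) := by
    intro c
    obtain ⟨a, ha⟩ := horb v
    have hle : stabilizer H v ≤ Subgroup.centralizer ({(c : H)} : Set H) := fun g hg =>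
      Subgroup.mem_centralizer_singleton_iff.mpr (hab g hg c c.2)
    have hd := Subgroup.index_dvd_of_le hle
    rw [ha, Nat.dvd_prime_pow hp.out] at hd
    obtain ⟨b, -, hb⟩ := hd
    exact Kazarin.isSolvable_normalClosure hp.out hb
  set R : Subgroup H := ⨆ c : stabilizer H v, Subgroup.normalClosure ({(c : H)} : Set H) with hR
  have hRs : Group.IsSolvable R := H44.isSolvable_iSup _ (fun _ => Subgroup.normalClosure_normal) hcl
  have hRn : R.Normal := Subgroup.iSup_normal _
  haveI := hRn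
  haveI := hRs
  have hsurj : Function.Surjective ((QuotientGroup.mk' R).comp (P : Subgroup H).subtype) := by
    intro y
    obtain ⟨h, rfl⟩ := QuotientGroup.mk'_surjective R y
    obtain ⟨π, hπ, he⟩ := exists_sylow_smul horb P h v
    refine ⟨⟨π, hπ⟩, (QuotientGroup.eq).mpr ?_⟩
    have hst : π⁻¹ * h ∈ stabilizer H v := by
      rw [mem_stabilizer_iff, mul_smul, he, inv_smul_smul]
    exact Subgroup.mem_iSup_of_mem (⟨π⁻¹ * h, hst⟩ : stabilizer H v)
      (Subgroup.subset_normalClosure (Set.mem_singleton _))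
  haveI : Group.IsNilpotent (P : Subgroup H) := P.2.isNilpotent
  haveI : Group.IsSolvable (H ⧸ R) := Group.isSolvable_of_surjective hsurj
  exact Group.isSolvable_of_ker_le_range R.subtype (QuotientGroup.mk' R)
    (by rw [QuotientGroup.ker_mk', Subgroup.range_subtype])

/-- In dimension at most two the stabiliser of a nonzero vector is abelian. -/
theorem comm_stabilizer [Finite H] [Finite V] [FaithfulSMul H V] (hV : ∀ v : V, q • v = 0)
    (hcop : (Nat.card H).Coprime q) (hcard : Nat.card V ≤ q ^ 2) {v : V} (hv : v ≠ 0)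
    (g : H) (hg : g • v = v) (h : H) (hh : h • v = v) : g * h = h * g := by
  classical
  set C := stabilizer H v
  set L := AddSubgroup.zmultiples v with hL
  have hinv : ∀ c : C, ∀ w ∈ L, c • w ∈ L := by
    rintro c _ ⟨k, rfl⟩
    show (c : H) • (k • v) ∈ L
    rw [smul_comm, mem_stabilizer_iff.mp c.2]
    exact ⟨k, rfl⟩
  obtain ⟨W, hW, hdisj, hsp⟩ := exists_complement hV
    (hcop.coprime_dvd_left (Subgroup.card_subgroup_dvd_card C)) L hinv
  have hLc : Nat.card L = q := by
    rw [hL, Nat.card_zmultiples, addOrderOf_eq_prime (hV v) hv]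
  have hWc : Nat.card W ≤ q := by
    have hinj : Function.Injective fun x : L × W => (x.1 : V) + x.2 := by
      rintro ⟨l, w⟩ ⟨l', w'⟩ he
      have e : (l : V) - l' = w' - w := by
        have he' : (l : V) + w = l' + w' := he
        rw [sub_eq_sub_iff_add_eq_add, he']; abel
      have h0 := hdisj _ (L.sub_mem l.2 l'.2) (e ▸ W.sub_mem w'.2 w.2)
      have h1 : (w' : V) - w = 0 := e ▸ h0
      exact Prod.ext (Subtype.ext (sub_eq_zero.mp h0)) (Subtype.ext (sub_eq_zero.mp h1).symm)
    have := Nat.card_le_card_of_injective _ hinj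
    rw [Nat.card_prod, hLc] at this
    nlinarith [hq.out.pos]
  have hWdvd : Nat.card W = 1 ∨ Nat.card W = q := by
    rcases eq_or_ne W ⊥ with rfl | hne
    · left; simp
    · right
      obtain ⟨w, hw, hw0⟩ := (AddSubgroup.bot_or_exists_ne_zero W).resolve_left hne
      have hd : q ∣ Nat.card W := by
        have := addOrderOf_dvd_natCard (⟨w, hw⟩ : W)
        rwa [← AddSubgroup.addOrderOf_coe, addOrderOf_eq_prime (hV w) hw0] at this
      exact le_antisymm hWc (Nat.le_of_dvd Nat.card_pos hd)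
  refine FaithfulSMul.eq_of_smul_eq_smul (α := V) fun x => ?_
  obtain ⟨_, ⟨k, rfl⟩, w, hw, rfl⟩ := hsp x
  simp only [mul_smul, smul_add, smul_comm _ k v, hg, hh]
  congr 1
  rcases hWdvd with h1 | h1
  · rw [AddSubgroup.card_eq_one] at h1
    rw [h1, AddSubgroup.mem_bot] at hw
    simp [hw]
  · rcases eq_or_ne w 0 with rfl | hw0
    · simp
    have hcyc : ∀ y ∈ W, ∃ i : ℤ, i • w = y := fun y hy => by
      have := mem_zmultiples_of_prime_card h1 (g := (⟨w, hw⟩ : W)) (g' := ⟨y, hy⟩)
        (fun e => hw0 (congrArg Subtype.val e))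
      obtain ⟨i, hi⟩ := this
      exact ⟨i, congrArg Subtype.val hi⟩
    obtain ⟨i, hi⟩ := hcyc _ (hW ⟨g, hg⟩ w hw)
    obtain ⟨j, hj⟩ := hcyc _ (hW ⟨h, hh⟩ w hw)
    have hi' : i • w = g • w := hi
    have hj' : j • w = h • w := hj
    rw [← hi', ← hj', smul_comm g, smul_comm h, ← hi', ← hj', ← mul_smul, ← mul_smul, mul_comm]

variable (hV : ∀ v : V, q • v = 0)
include hV

/-- The Sylow subgroup is abelian or the space is small. -/
theorem comm_or_small [Finite H] [Finite V] [Nontrivial V] [FaithfulSMul H V]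
    (hcop : (Nat.card H).Coprime q) (hH : IsPGroup p H) (hpd : p = 2 → q ≠ 2)
    (hirr : ∀ W : AddSubgroup V, (∀ g : H, ∀ w ∈ W, g • w ∈ W) → W = ⊥ ∨ W = ⊤)
    (hfield : ∀ A : Subgroup H, A.Normal → IsMulCommutative A →
      ∀ x ∈ span V A, ∀ y ∈ span V A, x * y = 0 → x = 0 ∨ y = 0) :
    (∀ x y : H, x * y = y * x) ∨ Nat.card V ≤ q ^ 2 := by
  classical
  have hcyc : ∀ T : Subgroup H, T.Normal → IsMulCommutative T → IsCyclic T := fun T hTn hT =>
    isCyclic_of_noZeroDivisors hV (fun x hx y hy => PGroups.comm_of_isMulCommutative hT hx hy)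
      (hfield T hTn hT)
  obtain ⟨A, hAn, hAc, -, hmax⟩ := PGroups.exists_maximal_normal_abelian (⊥ : Subgroup H)
    (PGroups.isMulCommutative_of_comm fun x hx y hy => by
      rw [Subgroup.mem_bot.mp hx, Subgroup.mem_bot.mp hy])
  haveI := hAn
  have hcen := PGroups.centralizer_eq_self hH hAc hmax
  by_cases hAtop : A = ⊤
  · exact Or.inl fun x y =>
      PGroups.comm_of_isMulCommutative hAc (hAtop ▸ Subgroup.mem_top x) (hAtop ▸ Subgroup.mem_top y)
  right
  haveI := hcyc A hAn hAc
  obtain ⟨⟨a, haA⟩, hgen⟩ := IsCyclic.exists_generator (α := A)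
  have ha : Subgroup.zpowers a = A := by
    refine le_antisymm (Subgroup.zpowers_le.mpr haA) fun x hx => ?_
    obtain ⟨k, hk⟩ := hgen ⟨x, hx⟩
    exact ⟨k, congrArg Subtype.val hk⟩
  have hmem : ∀ x ∈ A, ∃ j : ℕ, a ^ j = x := fun x hx => by
    rw [← ha, ← mem_powers_iff_mem_zpowers] at hx
    exact hx
  have hcomm_of : ∀ x : H, x * a = a * x → x ∈ A := by
    intro x hx
    rw [← hcen]
    refine Subgroup.mem_centralizer_iff.mpr fun y hy => ?_
    obtain ⟨j, rfl⟩ := hmem y hy
    exact ((show Commute x a from hx).pow_right j).symm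
  have hconjA : ∀ g : H, g * a * g⁻¹ ∈ A := fun g => hAn.conj_mem a haA g
  -- conjugations on A commute, so modulo A the group is abelian
  have hcommA : ∀ g b : H, g * b * g⁻¹ * b⁻¹ ∈ A := by
    intro g b
    obtain ⟨s, hs⟩ := hmem _ (hconjA g)
    obtain ⟨t, ht⟩ := hmem _ (hconjA b)
    have h1 : g * b * a * (g * b)⁻¹ = b * g * a * (b * g)⁻¹ := by
      rw [show g * b * a * (g * b)⁻¹ = g * (b * a * b⁻¹) * g⁻¹ by group,
        show b * g * a * (b * g)⁻¹ = b * (g * a * g⁻¹) * b⁻¹ by group, ← hs, ← ht, ← conj_pow,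
        ← conj_pow, ← hs, ← ht, ← pow_mul, ← pow_mul, mul_comm]
    rw [show g * b * g⁻¹ * b⁻¹ = g * b * (b * g)⁻¹ by group]
    have h2 : (b * g)⁻¹ * (g * b) ∈ A := by
      refine hcomm_of _ ?_
      calc (b * g)⁻¹ * (g * b) * a = (b * g)⁻¹ * (g * b * a * (g * b)⁻¹) * (g * b) := by group
        _ = (b * g)⁻¹ * (b * g * a * (b * g)⁻¹) * (g * b) := by rw [h1]
        _ = a * ((b * g)⁻¹ * (g * b)) := by group
    have h3 := hAn.conj_mem _ h2 (b * g)
    rwa [mul_inv_cancel_left] at h3
  -- an element of order p modulo A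
  obtain ⟨b, hbn, hbp⟩ : ∃ b : H, b ∉ A ∧ b ^ p ∈ A := by
    haveI : Nontrivial (H ⧸ A) := by
      rw [QuotientGroup.nontrivial_iff]; exact hAtop
    obtain ⟨y, hy⟩ := exists_prime_orderOf_dvd_card' (G := H ⧸ A) p (by
      obtain ⟨n, hn⟩ := IsPGroup.iff_card.mp (hH.to_quotient A)
      have : 1 < Nat.card (H ⧸ A) := Finite.one_lt_card
      rw [hn] at this ⊢
      exact dvd_pow_self p (by rintro rfl; simp at this))
    obtain ⟨b, rfl⟩ := QuotientGroup.mk_surjective y
    refine ⟨b, fun h => ?_, ?_⟩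
    · rw [(QuotientGroup.eq_one_iff b).mpr h, orderOf_one] at hy
      exact hp.out.ne_one hy.symm
    · rw [← QuotientGroup.eq_one_iff, QuotientGroup.mk_pow, ← hy, pow_orderOf_eq_one]
  -- the field spanned by A
  have hA' : ∀ x ∈ A, ∀ y ∈ A, x * y = y * x := fun x hx y hy =>
    PGroups.comm_of_isMulCommutative hAc hx hy
  set E := span V A with hE
  haveI := charP_end (V := V) hV
  haveI : Nontrivial (AddMonoid.End V) := CharP.nontrivial_of_char_ne_one hq.out.ne_one
  letI : CommRing E :=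
    { (inferInstance : Ring E) with mul_comm := fun x y => Subtype.ext (span_comm hA' x.2 y.2) }
  haveI : Nontrivial E := ⟨0, 1, fun h => one_ne_zero (congrArg Subtype.val h).symm⟩
  haveI : NoZeroDivisors E := ⟨fun {x y} h =>
    (hfield A hAn hAc x x.2 y y.2 (congrArg Subtype.val h)).imp Subtype.ext Subtype.ext⟩
  haveI : IsDomain E := NoZeroDivisors.to_isDomain _
  haveI : Finite (AddMonoid.End V) :=
    Finite.of_injective (fun f : AddMonoid.End V => (f : V → V)) DFunLike.coe_injective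
  haveI : Fintype E := Fintype.ofFinite _
  letI : Field E := (Finite.isField_of_domain E).toField
  haveI : CharP E q := ringChar.of_eq (CharP.ringChar_of_prime_eq_zero hq.out
    (Subtype.ext (show ((q : ℕ) : AddMonoid.End V) = 0 from CharP.cast_eq_zero _ q)))
  letI : Algebra (ZMod q) E := ZMod.algebra E q
  let α : E := ⟨op V a, op_mem_span haA⟩
  have hαinj : ∀ i j : ℕ, α ^ i = α ^ j → a ^ i = a ^ j := fun i j h => by
    have h' : (op V a) ^ i = (op V a) ^ j := congrArg Subtype.val h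
    rw [← map_pow, ← map_pow] at h'
    exact op_injective h'
  -- conjugation induces powers of the Frobenius map
  have hgal : ∀ g : H, ∃ i : ℕ, ∀ x : E, cj V g (x : AddMonoid.End V) = ((x ^ q ^ i : E) : AddMonoid.End V) := by
    intro g
    let σ₀ : E →+* E := ((cj V g).comp E.subtype).codRestrict E fun x =>
      cj_mem_span (fun y hy => hAn.conj_mem y hy g) x.2
    have hσ₀inj : Function.Injective σ₀ := σ₀.injective
    let σ : E ≃ₐ[ZMod q] E := AlgEquiv.ofRingEquiv
      (f := RingEquiv.ofBijective σ₀ (Finite.injective_iff_bijective.mp hσ₀inj))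
      (fun c => RingHom.congr_fun (Subsingleton.elim (σ₀.comp (algebraMap (ZMod q) E))
        (algebraMap (ZMod q) E)) c)
    obtain ⟨i, hi⟩ := (FiniteField.bijective_frobeniusAlgEquivOfAlgebraic_pow (ZMod q) E).2 σ
    refine ⟨i, fun x => ?_⟩
    have h : σ x = x ^ q ^ (i : ℕ) := by
      rw [← hi]
      show (FiniteField.frobeniusAlgEquivOfAlgebraic (ZMod q) E ^ (i : ℕ)) x = _
      rw [AlgEquiv.coe_pow, FiniteField.coe_frobeniusAlgEquivOfAlgebraic, pow_iterate, ZMod.card]
    exact congrArg Subtype.val h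
  obtain ⟨i, hσfrob⟩ := hgal b
  set u := q ^ i with hu
  have hbu : b * a * b⁻¹ = a ^ u := by
    have h := hσfrob α
    rw [cj_op, SubmonoidClass.coe_pow, ← map_pow] at h
    exact op_injective h
  obtain ⟨m, hm⟩ : ∃ m, orderOf a = p ^ m := IsPGroup.iff_orderOf.mp hH a
  have hbupow : a ^ (u ^ p) = a := by
    obtain ⟨j, hj⟩ := hmem _ hbp
    rw [← pow_conj_of_conj hbu, ← hj, ← pow_succ, pow_succ', mul_inv_cancel_right]
  have hune : a ^ u ≠ a := fun h => hbn (hcomm_of b (by
    conv_rhs => rw [← h, ← hbu, inv_mul_cancel_right]))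
  have hm1 : 1 ≤ m := by
    by_contra h
    rw [show m = 0 by omega, pow_zero, orderOf_eq_one_iff] at hm
    rw [hm, one_pow] at hune
    exact hune rfl
  have hup : u % p = 1 := by
    have h1 : u ^ p ≡ 1 [MOD p ^ m] := by
      rw [← hm, ← pow_eq_pow_iff_modEq, hbupow, pow_one]
    have h2 : u ^ p ≡ 1 [MOD p] := h1.of_dvd (dvd_pow_self p (by omega))
    rw [← ZMod.natCast_eq_natCast_iff, Nat.cast_pow, ZMod.pow_card, Nat.cast_one] at h2
    rw [← Nat.cast_one, ZMod.natCast_eq_natCast_iff', Nat.one_mod_eq_one.mpr hp.out.ne_one] at h2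
    exact h2
  by_cases hcase : p = 2 → u % 4 = 1
  · exact absurd (modular_mem hH A hcen ha hcyc hbp (fun g => hcommA g b) hbu hup hcase) hbn
  rw [Classical.not_imp] at hcase
  obtain ⟨hp2, hu4⟩ := hcase
  subst hp2
  have hqodd : q % 2 = 1 := (hq.out.eq_two_or_odd).resolve_left (hpd rfl)
  have hm2 : 2 ≤ m := by
    by_contra h
    apply hune
    conv_rhs => rw [← pow_one a]
    rw [pow_eq_pow_iff_modEq, hm, show m = 1 by omega, Nat.ModEq]
    simpa using hup
  -- the exponent is an odd power of q, which is 3 mod 4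
  have hiodd : i % 2 = 1 := by
    by_contra hc
    apply hu4
    obtain ⟨r, hr⟩ : ∃ r, i = 2 * r := ⟨i / 2, by omega⟩
    rw [hu, hr, pow_mul, Nat.pow_mod]
    have : q ^ 2 % 4 = 1 := by
      rw [Nat.pow_mod]
      have : q % 4 = 1 ∨ q % 4 = 3 := by omega
      rcases this with h | h <;> rw [h] <;> rfl
    rw [this, one_pow, Nat.one_mod]
  have hq2 : a ^ (q ^ 2) = a := by
    conv_rhs => rw [← pow_one a]
    rw [pow_eq_pow_iff_modEq, hm, ← ZMod.natCast_eq_natCast_iff, Nat.cast_pow, Nat.cast_one]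
    haveI : NeZero (2 ^ m) := ⟨pow_ne_zero _ two_ne_zero⟩
    have hcp : q.Coprime (2 ^ m) := (Nat.coprime_two_right.mpr (Nat.odd_iff.mpr hqodd)).pow_right m
    set x := (ZMod.unitOfCoprime q hcp) ^ 2 with hx
    have hxi : x ^ i = 1 := by
      refine Units.ext ?_
      rw [hx, Units.val_pow_eq_pow_val, Units.val_pow_eq_pow_val, ZMod.coe_unitOfCoprime, ← pow_mul,
        mul_comm, pow_mul, Units.val_one, ← Nat.cast_pow, ← hu, ← Nat.cast_pow, ← Nat.cast_one,
        ZMod.natCast_eq_natCast_iff, ← hm, ← pow_eq_pow_iff_modEq, hbupow, pow_one]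
    have h1 : orderOf x ∣ i := orderOf_dvd_of_pow_eq_one hxi
    have h2 : orderOf x ∣ 2 ^ (m - 1) := by
      have := orderOf_dvd_natCard x
      rwa [Nat.card_eq_fintype_card, ZMod.card_units_eq_totient,
        Nat.totient_prime_pow hp.out (by omega), show (2 : ℕ) - 1 = 1 from rfl, mul_one] at this
    have h3 : orderOf x = 1 := by
      obtain ⟨r, -, hr⟩ := (Nat.dvd_prime_pow Nat.prime_two).mp h2
      rcases r with _ | r
      · simpa using hr
      · rw [hr] at h1
        have : (2 : ℕ) ∣ i := (dvd_pow_self 2 r.succ_ne_zero).trans h1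
        omega
    have h4 := congrArg (fun y : (ZMod (2 ^ m))ˣ => (y : ZMod (2 ^ m))) (orderOf_eq_one_iff.mp h3)
    simpa [hx] using h4
  have hfix2 : ∀ x : E, x ^ q ^ 2 = x := fun x => Subtype.ext (by
    rw [SubmonoidClass.coe_pow]
    refine pow_eq_self hV hA' 2 (fun y hy => ?_) x.2
    obtain ⟨j, rfl⟩ := hmem y hy
    rw [← pow_mul, mul_comm, pow_mul, hq2])
  have hparity : ∀ (k : ℕ) (x : E), x ^ q ^ k = x ^ q ^ (k % 2) := by
    intro k
    induction k using Nat.strong_induction_on with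
    | _ k ih =>
      intro x
      rcases lt_or_ge k 2 with hk | hk
      · rw [Nat.mod_eq_of_lt hk]
      · obtain ⟨j, rfl⟩ : ∃ j, k = 2 + j := ⟨k - 2, by omega⟩
        rw [pow_add, pow_mul, hfix2, ih j (by omega), Nat.add_mod_left]
  have hbfrob : ∀ x : E, cj V b (x : AddMonoid.End V) = ((x ^ q : E) : AddMonoid.End V) := by
    intro x
    rw [hσfrob x, hu, hparity i x, hiodd, pow_one]
  -- the field has order `q ^ 2`
  obtain ⟨γ, hγ⟩ := IsCyclic.exists_generator (α := Eˣ)
  have hord : orderOf γ = Fintype.card E - 1 := by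
    rw [orderOf_eq_card_of_forall_mem_zpowers hγ, Nat.card_eq_fintype_card, Fintype.card_units]
  have hγ2 : γ ^ (q ^ 2 - 1) = 1 := by
    refine mul_right_cancel (b := γ) ?_
    rw [← pow_succ, one_mul, Nat.sub_add_cancel (Nat.one_le_pow _ _ hq.out.pos)]
    exact Units.ext (by rw [Units.val_pow_eq_pow_val]; exact hfix2 _)
  obtain ⟨k, -, hk⟩ := FiniteField.card E q
  have hcard : Fintype.card E = q ^ 2 := by
    have h1 : orderOf γ ∣ q ^ 2 - 1 := orderOf_dvd_of_pow_eq_one hγ2
    rw [hord, hk] at h1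
    have h2 : q ^ (k : ℕ) - 1 ≤ q ^ 2 - 1 := Nat.le_of_dvd (by
      have : 2 ^ 2 ≤ q ^ 2 := Nat.pow_le_pow_left hq.out.two_le 2
      omega) h1
    have h3 : (k : ℕ) ≤ 2 := (Nat.pow_le_pow_iff_right hq.out.one_lt).mp (by
      have := Nat.one_le_pow 2 q hq.out.pos
      omega)
    have h4 : (k : ℕ) ≠ 1 := by
      intro h5
      refine hbn (hcomm_of b ?_)
      have h6 : α ^ q = α := by
        have := FiniteField.pow_card α
        rwa [hk, h5, pow_one] at this
      have h7 := hbfrob α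
      rw [h6, cj_op] at h7
      have h8 := op_injective h7
      conv_rhs => rw [← h8, inv_mul_cancel_right]
    have := k.pos
    rw [hk, show (k : ℕ) = 2 by omega]
  -- a norm equation
  let c : E := ⟨op V (b ^ 2), op_mem_span hbp⟩
  have hcfix : c ^ q = c := by
    refine Subtype.ext ?_
    rw [← hbfrob c, cj_op, ← pow_succ', pow_succ, mul_inv_cancel_right]
  have hc0 : c ≠ 0 := fun h => by
    have h' : op V (b ^ 2) = 0 := congrArg Subtype.val h
    obtain ⟨v, hv⟩ := exists_ne (0 : V)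
    have h2 := congrArg (fun f : AddMonoid.End V => f v) h'
    exact hv ((smul_eq_zero_iff_eq _).mp h2)
  obtain ⟨j, hj⟩ : ∃ j : ℕ, γ ^ j = Units.mk0 c hc0 := by
    have := hγ (Units.mk0 c hc0)
    rw [← mem_powers_iff_mem_zpowers] at this
    exact this
  obtain ⟨j', hj'⟩ : q + 1 ∣ j := by
    have h1 : γ ^ (j * (q - 1)) = 1 := by
      rw [pow_mul, hj]
      refine mul_right_cancel (b := Units.mk0 c hc0) ?_
      rw [← pow_succ, one_mul, Nat.sub_add_cancel hq.out.one_le]
      exact Units.ext (by rw [Units.val_pow_eq_pow_val]; exact hcfix)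
    have h2 := orderOf_dvd_of_pow_eq_one h1
    rw [hord, hcard, show q ^ 2 - 1 = (q + 1) * (q - 1) from by simpa using Nat.sq_sub_sq q 1] at h2
    exact Nat.dvd_of_mul_dvd_mul_right (by have := hq.out.two_le; omega) h2
  set μ : E := ((γ ^ j' : Eˣ) : E) with hμ
  have hμc : μ ^ q * μ = c := by
    rw [← pow_succ, hμ, ← Units.val_pow_eq_pow_val, ← pow_mul, mul_comm, ← hj', hj]
    rfl
  -- an eigenvector of b
  obtain ⟨w, hw⟩ : ∃ w : V, ((μ ^ q : E) : AddMonoid.End V) w + b • w ≠ 0 := by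
    by_contra hcon
    push Not at hcon
    apply hbn
    refine hcomm_of b (op_injective (V := V) ?_)
    rw [map_mul, map_mul]
    have hb' : op V b = ((-(μ ^ q) : E) : AddMonoid.End V) := DFunLike.ext _ _ fun w => by
      show b • w = -(((μ ^ q : E) : AddMonoid.End V) w)
      exact eq_neg_of_add_eq_zero_right (hcon w)
    rw [hb']
    exact congrArg Subtype.val (mul_comm (-(μ ^ q) : E) α)
  set v := ((μ ^ q : E) : AddMonoid.End V) w + b • w with hv
  have hbx : ∀ (x : E) (y : V), b • (x : AddMonoid.End V) y = ((x ^ q : E) : AddMonoid.End V) (b • y) :=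
    fun x y => by rw [← hbfrob, cj_apply, inv_smul_smul]
  have hbv : b • v = (μ : AddMonoid.End V) v := by
    rw [hv, smul_add, hbx, ← pow_mul, ← pow_two, hfix2, map_add]
    have h1 : b • b • w = (μ : AddMonoid.End V) (((μ ^ q : E) : AddMonoid.End V) w) := by
      rw [smul_smul, ← pow_two]
      show ((c : E) : AddMonoid.End V) w = _
      rw [← hμc, mul_comm]
      rfl
    rw [h1, add_comm]
  let ev : E →+ V := (AddMonoidHom.eval v).comp
    (E.subtype.toAddMonoidHom : E →+ (V →+ V))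
  have hev : ∀ x : E, ev x = (x : AddMonoid.End V) v := fun _ => rfl
  have hinv : ∀ g : H, ∀ y ∈ ev.range, g • y ∈ ev.range := by
    have hA2 : ∀ g ∈ A, ∀ y ∈ ev.range, g • y ∈ ev.range := by
      rintro g hg _ ⟨x, rfl⟩
      exact ⟨⟨op V g, op_mem_span hg⟩ * x, rfl⟩
    have hb2 : ∀ y ∈ ev.range, b • y ∈ ev.range := by
      rintro _ ⟨x, rfl⟩
      refine ⟨x ^ q * μ, ?_⟩
      rw [hev, hev, hbx, hbv]
      rfl
    intro g
    obtain ⟨l, hl⟩ := hgal g
    rcases Nat.mod_two_eq_zero_or_one l with hl2 | hl2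
    · refine hA2 g (hcomm_of g ?_)
      have h1 := hl α
      rw [hparity l α, hl2, pow_zero, pow_one, cj_op] at h1
      have h2 := op_injective h1
      conv_rhs => rw [← h2, inv_mul_cancel_right]
    · intro y hy
      have hgb : b⁻¹ * g ∈ A := by
        refine hcomm_of _ ?_
        have h1 := hl α
        rw [hparity l α, hl2, pow_one, ← hbfrob, cj_op, cj_op] at h1
        have h2 := op_injective h1
        calc b⁻¹ * g * a = b⁻¹ * (g * a * g⁻¹) * g := by group
          _ = b⁻¹ * (b * a * b⁻¹) * g := by rw [h2]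
          _ = a * (b⁻¹ * g) := by group
      have h3 := hb2 _ (hA2 _ hgb y hy)
      rwa [smul_smul, mul_inv_cancel_left] at h3
  rcases hirr ev.range hinv with h | h
  · exfalso
    apply hw
    have : ev 1 ∈ ev.range := ⟨1, rfl⟩
    rw [h, AddSubgroup.mem_bot] at this
    exact this
  · have := Nat.card_le_card_of_surjective ev (AddMonoidHom.range_eq_top.mp h)
    rwa [Nat.card_eq_fintype_card (α := E), hcard] at this

end action

end Cfsg.Agent.H79.PPowerOrbits
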