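import Cfsg.Agent.H79.Imprimitive
import Cfsg.Agent.H79.Primitive
import Cfsg.Agent.H79.CyclicRegular
import Cfsg.Agent.H32.PermModule

/-!
# Coprime linear groups all of whose orbits have prime power size are solvable
-/

set_option autoImplicit false
set_option linter.style.haveILetI false

namespace Cfsg.Agent.H79.PPowerOrbits

open MulAction

universe u

variable {H : Type u} [Group H] {V : Type u} [AddCommGroup V] [DistribMulAction H V]

theorem span_map (P : Subgroup H) (A : Subgroup P) : span V (A.map P.subtype) = span V A := by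
  rw [span, span, Subgroup.coe_map, Set.image_image]
  rfl

section twoTransitive

variable {p q : ℕ} [hp : Fact p.Prime] [hq : Fact q.Prime]

/-- The final contradiction: no doubly transitive orbit of size at least four generated linearly. -/
theorem false_of_two_transitive [Finite H] [Finite V] (hV : ∀ v : V, q • v = 0)
    (hcop : (Nat.card H).Coprime q) {N : ℕ} [NeZero N] (hN : 4 ≤ N) (hNq : (N : ZMod q) ≠ 0)
    (w : ZMod N → V) [MulAction H (ZMod N)] (hw : ∀ (h : H) (j : ZMod N), h • w j = w (h • j))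
    (hwinj : Function.Injective w) (hw0 : w 0 ≠ 0)
    (htrans : ∀ a b c d : ZMod N, a ≠ b → c ≠ d → ∃ h : H, h • a = c ∧ h • b = d)
    (hfix : ∀ v : V, (∀ h : H, h • v = v) → v = 0)
    (horbit : ∀ v : V, (orbit H v).ncard ≤ N) : False := by
  classical
  set C := stabilizer H (w 0)
  obtain ⟨f, hf0, hf⟩ := exists_invariant_functional (H := C) hV
    (hcop.coprime_dvd_left (Subgroup.card_subgroup_dvd_card C)) hw0 (fun h => h.2)
  have hC : ∀ h : H, h • (0 : ZMod N) = 0 → ∀ j, f (w (h • j)) = f (w j) := by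
    intro h h0 j
    rw [← hw]
    exact hf ⟨h, by rw [mem_stabilizer_iff, hw, h0]⟩ (w j)
  have h1 : (1 : ZMod N) ≠ 0 := by
    intro h
    have := congrArg ZMod.val h
    rw [ZMod.val_one_eq_one_mod, ZMod.val_zero, Nat.mod_eq_of_lt (by omega)] at this
    omega
  set a := f (w 0) with ha
  set b := f (w 1) with hb
  have hval : ∀ j, f (w j) = if j = 0 then a else b := by
    intro j
    split_ifs with hj
    · rw [hj]
    · obtain ⟨h, h0, hh⟩ := htrans 0 1 0 j h1.symm (Ne.symm hj)
      rw [← hh, hC h h0]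
  have hsum : ∑ j, w j = 0 := by
    refine hfix _ fun h => ?_
    rw [Finset.smul_sum]
    simp only [hw]
    exact Fintype.sum_equiv (MulAction.toPerm h) _ _ fun j => rfl
  have hab : a ≠ b := by
    intro hab
    have h2 := congrArg f hsum
    rw [map_sum, map_zero, Finset.sum_congr rfl fun j _ => (hval j).trans (by rw [hab, ite_self]),
      Finset.sum_const, Finset.card_univ, ZMod.card, nsmul_eq_mul, mul_eq_zero] at h2
    exact hf0 (hab.trans (h2.resolve_left hNq))
  -- the functional at `j` separates differences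
  have hsep : ∀ i k i' k' : ZMod N, w i - w k = w i' - w k' → ∀ j : ZMod N,
      (if i = j then (1 : ZMod q) else 0) - (if k = j then 1 else 0) =
        (if i' = j then 1 else 0) - if k' = j then 1 else 0 := by
    intro i k i' k' he j
    obtain ⟨j', hj'⟩ : ∃ j', j' ≠ j := by
      rcases eq_or_ne j 0 with rfl | hj
      · exact ⟨1, h1⟩
      · exact ⟨0, hj.symm⟩
    obtain ⟨g, hg, -⟩ := htrans j j' 0 1 hj'.symm h1.symm
    have hval' : ∀ x, f (w (g • x)) = b + (a - b) * if x = j then 1 else 0 := by
      intro x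
      rw [hval]
      by_cases hx : x = j
      · rw [if_pos hx, if_pos (by rw [hx, hg])]; ring
      · rw [if_neg hx, if_neg (fun h => hx (MulAction.injective g (h.trans hg.symm)))]; ring
    have h2 := congrArg (fun v => f (g • v)) he
    simp only [smul_sub, map_sub, hw, hval'] at h2
    have h3 : a - b ≠ 0 := sub_ne_zero.mpr hab
    refine mul_left_cancel₀ h3 ?_
    linear_combination h2
  have hne : ∀ {m n : ℕ}, m < N → n < N → m ≠ n → (m : ZMod N) ≠ n := by
    intro m n hm hn hmn h
    rw [ZMod.natCast_eq_natCast_iff', Nat.mod_eq_of_lt hm, Nat.mod_eq_of_lt hn] at h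
    exact hmn h
  have e02 := hne (m := 0) (n := 2) (by omega) (by omega) (by norm_num)
  have e03 := hne (m := 0) (n := 3) (by omega) (by omega) (by norm_num)
  have e12 := hne (m := 1) (n := 2) (by omega) (by omega) (by norm_num)
  have e13 := hne (m := 1) (n := 3) (by omega) (by omega) (by norm_num)
  have e23 := hne (m := 2) (n := 3) (by omega) (by omega) (by norm_num)
  push_cast at e02 e03 e12 e13 e23
  let pr : Option (ZMod N) → ZMod N × ZMod N := fun o =>
    o.elim (1, 3) fun x => if x = 0 then (1, 2) else (0, x)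
  let emb : Option (ZMod N) → V := fun o => w (pr o).1 - w (pr o).2
  have hmem : ∀ o, emb o ∈ orbit H (w 0 - w 1) := by
    intro o
    have hpr : (pr o).1 ≠ (pr o).2 := by
      rcases o with _ | x
      · exact e13
      · show (if x = 0 then ((1 : ZMod N), (2 : ZMod N)) else (0, x)).1 ≠ _
        by_cases hx : x = 0
        · rw [if_pos hx]
          show (1 : ZMod N) ≠ (pr (some x)).2
          simp only [pr, Option.elim, if_pos hx]
          exact e12
        · rw [if_neg hx]
          show (0 : ZMod N) ≠ (pr (some x)).2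
          simp only [pr, Option.elim, if_neg hx]
          exact Ne.symm hx
    obtain ⟨g, hg1, hg2⟩ := htrans 0 1 _ _ h1.symm hpr
    exact ⟨g, by show g • (w 0 - w 1) = _; rw [smul_sub, hw, hw, hg1, hg2]⟩
  have hinj : Function.Injective emb := by
    intro o o' he
    have hs := hsep _ _ _ _ he
    rcases o with _ | x <;> rcases o' with _ | y
    · rfl
    · exfalso
      by_cases hy : y = 0
      · have := hs 3
        simp [pr, hy, e13, e23, e12] at this
      · have := hs 0
        simp [pr, hy, h1, e03.symm] at this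
    · exfalso
      by_cases hx : x = 0
      · have := hs 3
        simp [pr, hx, e13, e23, e12] at this
      · have := hs 0
        simp [pr, hx, h1, e03.symm] at this
    · by_cases hx : x = 0 <;> by_cases hy : y = 0
      · rw [hx, hy]
      · exfalso
        have := hs 0
        simp [pr, hx, hy, h1, e02.symm] at this
      · exfalso
        have := hs 0
        simp [pr, hx, hy, h1, e02.symm] at this
      · by_contra hxy
        have := hs x
        have hxy' : y ≠ x := fun h => hxy (by rw [h])
        simp [pr, hx, hy, hxy', Ne.symm hx] at this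
  haveI : Finite (orbit H (w 0 - w 1)) := Finite.of_injective _ Subtype.val_injective
  have := Nat.card_le_card_of_injective (fun o => (⟨emb o, hmem o⟩ : orbit H (w 0 - w 1)))
    (fun o o' h => hinj (congrArg Subtype.val h))
  rw [Finite.card_option, Nat.card_zmod, Nat.card_coe_set_eq] at this
  have := horbit (w 0 - w 1)
  omega

end twoTransitive

variable {p q : ℕ} [hp : Fact p.Prime] [hq : Fact q.Prime]

/-- The abelian case. -/
theorem isSolvable_of_cyclic [Finite H] [Finite V] [FaithfulSMul H V] [Nontrivial V]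
    (hV : ∀ v : V, q • v = 0) (hcop : (Nat.card H).Coprime q) (horb : Orbits H V p) (P : Sylow p H)
    (hP : (P : Subgroup H) ≠ ⊥) [hcyc : IsCyclic (P : Subgroup H)]
    (hirr : ∀ W : AddSubgroup V, (∀ g : H, ∀ w ∈ W, g • w ∈ W) → W = ⊥ ∨ W = ⊤)
    (hirrP : ∀ W : AddSubgroup V, (∀ g ∈ (P : Subgroup H), ∀ w ∈ W, g • w ∈ W) → W = ⊥ ∨ W = ⊤)
    (hIH : ∀ K : Subgroup H, (K.Normal ∨ (P : Subgroup H) ≤ K) → K ≠ ⊤ → Group.IsSolvable K) :
    Group.IsSolvable H := by
  classical
  obtain ⟨⟨ζ, hζP⟩, hgen⟩ := IsCyclic.exists_generator (α := (P : Subgroup H))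
  have hzp : Subgroup.zpowers ζ = (P : Subgroup H) := by
    refine le_antisymm (Subgroup.zpowers_le.mpr hζP) fun x hx => ?_
    obtain ⟨k, hk⟩ := hgen ⟨x, hx⟩
    exact ⟨k, congrArg Subtype.val hk⟩
  have hmem : ∀ x ∈ (P : Subgroup H), ∃ j : ℕ, ζ ^ j = x := fun x hx => by
    rw [← hzp, ← mem_powers_iff_mem_zpowers] at hx
    exact hx
  have hPcomm : ∀ x ∈ (P : Subgroup H), ∀ y ∈ (P : Subgroup H), x * y = y * x := by
    intro x hx y hy
    obtain ⟨i, rfl⟩ := hmem x hx
    obtain ⟨j, rfl⟩ := hmem y hy
    exact ((Commute.refl ζ).pow_pow i j).eq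
  have hfixall : ∀ v : V, (∀ h : H, h • v = v) → v = 0 := by
    let F : AddSubgroup V :=
      { carrier := {v | ∀ h : H, h • v = v}
        zero_mem' := fun h => smul_zero h
        add_mem' := fun {a b} ha hb h => by rw [smul_add, ha h, hb h]
        neg_mem' := fun {a} ha h => by rw [smul_neg, ha h] }
    rcases hirr F (fun g w hw h => by rw [hw g, hw h]) with h | h
    · intro v hv
      have : v ∈ F := hv
      rwa [h, AddSubgroup.mem_bot] at this
    · exfalso
      apply hP
      rw [eq_bot_iff]
      intro x _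
      rw [Subgroup.mem_bot]
      refine FaithfulSMul.eq_of_smul_eq_smul (α := V) fun v => ?_
      have : v ∈ F := h ▸ AddSubgroup.mem_top v
      rw [this x, one_smul]
  have hsemi : ∀ π ∈ (P : Subgroup H), ∀ v : V, v ≠ 0 → π • v = v → π = 1 := by
    intro π hπ v hv he
    let W : AddSubgroup V :=
      { carrier := {v | π • v = v}
        zero_mem' := smul_zero π
        add_mem' := fun {a b} ha hb => by
          show π • (a + b) = a + b
          rw [smul_add, (show π • a = a from ha), (show π • b = b from hb)]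
        neg_mem' := fun {a} ha => by
          show π • -a = -a
          rw [smul_neg, (show π • a = a from ha)] }
    rcases hirrP W (fun g hg w hw => by
      show π • g • w = g • w
      rw [smul_smul, hPcomm π hπ g hg, mul_smul, (show π • w = w from hw)]) with h | h
    · exfalso
      have : v ∈ W := he
      rw [h, AddSubgroup.mem_bot] at this
      exact hv this
    · refine FaithfulSMul.eq_of_smul_eq_smul (α := V) fun w => ?_
      have : w ∈ W := h ▸ AddSubgroup.mem_top w
      rw [one_smul]
      exact this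
  obtain ⟨v, hv⟩ := exists_ne (0 : V)
  set C := stabilizer H v with hCdef
  have hCne : C ≠ ⊤ := fun h => hv (hfixall v fun g => (h ▸ Subgroup.mem_top g : g ∈ C))
  obtain ⟨M, hM, hCM⟩ := (eq_top_or_exists_le_coatom C).resolve_left hCne
  -- the intersection with the maximal subgroup is trivial
  set P₁ := (P : Subgroup H) ⊓ M with hP₁
  set K := M.normalCore with hK
  have hKne : K ≠ ⊤ := fun h => hM.1 (eq_top_iff.mpr (h ▸ M.normalCore_le))
  have hP₁K : P₁ ≤ K := by
    intro x hx h
    obtain ⟨π, hπ, he⟩ := exists_sylow_smul horb P h⁻¹ v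
    have hm : π⁻¹ * h⁻¹ ∈ M := hCM (by
      rw [mem_stabilizer_iff, mul_smul, he, inv_smul_smul])
    have h2 : π * x * π⁻¹ = x := by
      rw [hPcomm π hπ x hx.1, mul_inv_cancel_right]
    have : h * x * h⁻¹ = (π⁻¹ * h⁻¹)⁻¹ * x * (π⁻¹ * h⁻¹) := by
      conv_lhs => rw [← h2]
      group
    rw [this]
    exact M.mul_mem (M.mul_mem (M.inv_mem hm) hx.2) hm
  by_cases hperf : commutator H = ⊤
  swap
  · haveI := hIH _ (Or.inl inferInstance) hperf
    exact Group.isSolvable_of_ker_le_range (commutator H).subtype Abelianization.of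
      (by rw [Abelianization.ker_of, Subgroup.range_subtype])
  haveI hKs := hIH K (Or.inl inferInstance) hKne
  have hPK : P₁.subgroupOf K = (P : Subgroup H).subgroupOf K := by
    ext ⟨x, hx⟩
    simp only [Subgroup.mem_subgroupOf, hP₁, Subgroup.mem_inf]
    exact ⟨fun h => h.1, fun h => ⟨h, M.normalCore_le hx⟩⟩
  let PK : Sylow p K := IsPGroup.toSylow (P := (P : Subgroup H).subgroupOf K)
    (P.2.comap_of_injective K.subtype K.subtype_injective) (fun h => P.not_dvd_index
      (h.trans (Kazarin.relIndex_dvd_index (P : Subgroup H) K)))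
  have hfrat : Subgroup.normalizer (P₁ : Set H) ⊔ K = ⊤ := by
    rw [← Sylow.normalizer_sup_eq_top PK]
    congr 2
    simp only [PK, IsPGroup.toSylow_coe, ← hPK, Subgroup.subgroupOf_map_subtype,
      inf_eq_left.mpr hP₁K]
  by_cases hcent : Subgroup.centralizer (P₁ : Set H) = ⊤
  swap
  · haveI hCs := hIH _ (Or.inr fun x hx => Subgroup.mem_centralizer_iff.mpr fun y hy =>
      hPcomm y (Subgroup.mem_inf.mp hy).1 x hx) hcent
    haveI : IsCyclic P₁ :=
      isCyclic_of_surjective _ (Subgroup.subgroupOfEquivOfLe (inf_le_left : P₁ ≤ P)).surjective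
    haveI : Group.IsSolvable (MulAut P₁) := by
      refine Group.isSolvable_of_comm fun a b => ?_
      apply (IsCyclic.mulAutMulEquiv P₁).injective
      rw [map_mul, map_mul, mul_comm]
    haveI : Group.IsSolvable (Subgroup.normalizer (P₁ : Set H)) := by
      haveI : Group.IsSolvable
          ((Subgroup.centralizer (P₁ : Set H)).subgroupOf (Subgroup.normalizer (P₁ : Set H))) :=
        Group.isSolvable_of_isSolvable_injective
          (f := ((Subgroup.normalizer (P₁ : Set H)).subtype.subgroupComap
            (Subgroup.centralizer (P₁ : Set H))))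
          (fun a b h => Subtype.ext (Subtype.ext (congrArg Subtype.val h :)))
      exact Group.isSolvable_of_ker_le_range
        (((Subgroup.centralizer (P₁ : Set H)).subgroupOf _).subtype) P₁.normalizerMonoidHom
        (by rw [Subgroup.normalizerMonoidHom_ker, Subgroup.range_subtype])
    haveI : Group.IsSolvable (H ⧸ K) := by
      refine Group.isSolvable_of_surjective (f := (QuotientGroup.mk' K).comp
        (Subgroup.normalizer (P₁ : Set H)).subtype) ?_
      rw [← MonoidHom.range_eq_top, MonoidHom.range_comp, Subgroup.range_subtype, eq_top_iff,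
        ← Subgroup.map_top_of_surjective _ (QuotientGroup.mk'_surjective K), ← hfrat,
        Subgroup.map_sup, (Subgroup.map_eq_bot_iff _).mpr (QuotientGroup.ker_mk' K).ge, sup_bot_eq]
    exact Group.isSolvable_of_ker_le_range K.subtype (QuotientGroup.mk' K)
      (by rw [QuotientGroup.ker_mk', Subgroup.range_subtype])
  have hP₁bot : P₁ = ⊥ := by
    rw [eq_bot_iff]
    intro x hx
    rw [Subgroup.mem_bot]
    have hxc : ∀ g : H, g * x = x * g := fun g =>
      (Subgroup.mem_centralizer_iff.mp (hcent ▸ Subgroup.mem_top g) x hx).symm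
    letI : CommGroup (P : Subgroup H) := IsCyclic.commGroup
    let τ := MonoidHom.transfer (MonoidHom.id (P : Subgroup H))
    have key : ∀ (k : ℕ) (g₀ : H), g₀⁻¹ * x ^ k * g₀ ∈ (P : Subgroup H) →
        g₀⁻¹ * x ^ k * g₀ = x ^ k := fun k g₀ _ => by
      rw [mul_assoc, ← ((show Commute g₀ x from hxc g₀).pow_right k).eq, inv_mul_cancel_left]
    have h1 : τ x = 1 := by
      have : (⊤ : Subgroup H) ≤ τ.ker := by
        rw [← hperf]; exact Abelianization.commutator_subset_ker τ
      exact this (Subgroup.mem_top x)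
    rw [MonoidHom.transfer_eq_pow (MonoidHom.id _) x key] at h1
    have h2 : x ^ (P : Subgroup H).index = 1 := congrArg Subtype.val h1
    obtain ⟨k, hk⟩ := IsPGroup.iff_orderOf.mp P.2 ⟨x, hx.1⟩
    rw [Subgroup.orderOf_mk] at hk
    have h3 := Nat.dvd_gcd (orderOf_dvd_of_pow_eq_one h2) (dvd_refl (orderOf x))
    rw [hk, Nat.Coprime.gcd_eq_one
      (((hp.out.coprime_iff_not_dvd).mpr P.not_dvd_index).pow_left k).symm, Nat.dvd_one, ← hk,
      orderOf_eq_one_iff] at h3
    exact h3
  have hMC : M = C := by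
    refine le_antisymm (fun m hm => ?_) hCM
    obtain ⟨π, hπ, he⟩ := exists_sylow_smul horb P m v
    have hc : π⁻¹ * m ∈ C := by rw [mem_stabilizer_iff, mul_smul, he, inv_smul_smul]
    have : π ∈ P₁ := by
      refine ⟨hπ, ?_⟩
      have h2 := M.mul_mem hm (M.inv_mem (hCM hc))
      rwa [mul_inv_rev, inv_inv, mul_inv_cancel_left] at h2
    rw [hP₁bot, Subgroup.mem_bot] at this
    rwa [this, inv_one, one_mul] at hc
  -- coordinates on the orbit
  obtain ⟨n, hn⟩ := IsPGroup.iff_card.mp P.2
  have hζN : orderOf ζ = p ^ n := by rw [← Nat.card_zpowers, hzp, hn]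
  have hn1 : 1 ≤ n := by
    by_contra h
    exact hP ((Subgroup.card_eq_one).mp (by rw [hn, show n = 0 by omega, pow_zero]))
  set N := p ^ n with hNdef
  haveI : NeZero N := ⟨pow_ne_zero _ hp.out.ne_zero⟩
  let w : ZMod N → V := fun j => ζ ^ j.val • v
  have hwinj : Function.Injective w := by
    intro i j hij
    have h1 : (ζ ^ i.val)⁻¹ * ζ ^ j.val = 1 := by
      refine hsemi _ (mul_mem (inv_mem (pow_mem hζP _)) (pow_mem hζP _)) v hv ?_
      rw [mul_smul]
      exact inv_smul_eq_iff.mpr hij.symm
    rw [inv_mul_eq_one, pow_eq_pow_iff_modEq, hζN, ← ZMod.natCast_eq_natCast_iff] at h1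
    simpa using h1
  have hwsurj : ∀ h : H, ∃ j, w j = h • v := by
    intro h
    obtain ⟨π, hπ, he⟩ := exists_sylow_smul horb P h v
    obtain ⟨k, rfl⟩ := hmem π hπ
    refine ⟨(k : ZMod N), ?_⟩
    show ζ ^ (k : ZMod N).val • v = _
    rw [he, ZMod.val_natCast, ← hζN, pow_mod_orderOf]
  choose φ hφ using hwsurj
  let act : MulAction H (ZMod N) :=
    { smul := fun h j => φ (h * ζ ^ j.val)
      one_smul := fun j => hwinj (by
        show w (φ (1 * ζ ^ j.val)) = w j
        rw [hφ, one_mul])
      mul_smul := fun g h j => hwinj (by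
        show w (φ (g * h * ζ ^ j.val)) = w (φ (g * ζ ^ (φ (h * ζ ^ j.val)).val))
        rw [hφ, hφ, mul_smul g (ζ ^ _) v]
        show _ = g • w (φ (h * ζ ^ j.val))
        rw [hφ, smul_smul, mul_assoc]) }
  letI := act
  have hw : ∀ (h : H) (j : ZMod N), h • w j = w (h • j) := fun h j => by
    show h • (ζ ^ j.val • v) = w (φ (h * ζ ^ j.val))
    rw [hφ, mul_smul]
  have hζw : ∀ j : ZMod N, ζ • j = j + 1 := fun j => hwinj (by
    rw [← hw]
    show ζ • (ζ ^ j.val • v) = ζ ^ (j + 1).val • v
    rw [smul_smul, ← pow_succ']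
    congr 1
    rw [pow_eq_pow_iff_modEq, hζN, ← ZMod.natCast_eq_natCast_iff]
    simp)
  have hw0 : w 0 = v := by show ζ ^ (0 : ZMod N).val • v = v; rw [ZMod.val_zero, pow_zero, one_smul]
  have hstab : stabilizer H (0 : ZMod N) = C := by
    ext h
    rw [mem_stabilizer_iff, hCdef, mem_stabilizer_iff, ← hwinj.eq_iff, ← hw, hw0]
  have hfaith : ∀ h : H, (∀ j : ZMod N, h • j = j) → h = 1 := by
    intro h hh
    let U : AddSubgroup V := AddSubgroup.closure (Set.range w)
    have hU : ∀ g : H, ∀ u ∈ U, g • u ∈ U := by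
      intro g u hu
      induction hu using AddSubgroup.closure_induction with
      | mem x hx =>
        obtain ⟨j, rfl⟩ := hx
        rw [hw]
        exact AddSubgroup.subset_closure ⟨_, rfl⟩
      | zero => rw [smul_zero]; exact U.zero_mem
      | add x y _ _ ihx ihy => rw [smul_add]; exact U.add_mem ihx ihy
      | neg x _ ih => rw [smul_neg]; exact U.neg_mem ih
    rcases hirr U hU with hu | hu
    · exfalso
      have : w 0 ∈ U := AddSubgroup.subset_closure ⟨0, rfl⟩
      rw [hu, AddSubgroup.mem_bot, hw0] at this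
      exact hv this
    · refine FaithfulSMul.eq_of_smul_eq_smul (α := V) fun u => ?_
      have hmem' : u ∈ U := hu ▸ AddSubgroup.mem_top u
      rw [one_smul]
      induction hmem' using AddSubgroup.closure_induction with
      | mem x hx =>
        obtain ⟨j, rfl⟩ := hx
        rw [hw, hh]
      | zero => rw [smul_zero]
      | add x y _ _ ihx ihy => rw [smul_add, ihx, ihy]
      | neg x _ ih => rw [smul_neg, ih]
  have hNq : (N : ZMod q) ≠ 0 := by
    rw [Ne, ZMod.natCast_eq_zero_iff]
    intro hd
    refine hq.out.not_dvd_one (hcop.gcd_eq_one ▸ Nat.dvd_gcd (hd.trans ?_) dvd_rfl)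
    rw [← hn]
    exact Subgroup.card_subgroup_dvd_card _
  have horbit : ∀ u : V, (orbit H u).ncard ≤ N := by
    intro u
    rw [← Nat.card_coe_set_eq, ← hn]
    refine Nat.card_le_card_of_surjective
      (fun π : (P : Subgroup H) => (⟨(π : H) • u, mem_orbit u (π : H)⟩ : orbit H u)) ?_
    rintro ⟨_, h, rfl⟩
    obtain ⟨π, hπ, he⟩ := exists_sylow_smul horb P h u
    exact ⟨⟨π, hπ⟩, Subtype.ext he.symm⟩
  have htr : ∀ j : ZMod N, ∃ t : H, t • (0 : ZMod N) = j := by
    intro j
    refine ⟨ζ ^ j.val, hwinj ?_⟩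
    rw [← hw, hw0]
  rcases Nat.lt_or_ge n 2 with hn2 | hn2
  · -- prime degree
    have hNp : N = p := by rw [hNdef, show n = 1 by omega, pow_one]
    haveI : Fact N.Prime := ⟨hNp ▸ hp.out⟩
    set ρ := MulAction.toPermHom H (ZMod N) with hρ
    let D : H32.CycleCoords ρ.range N :=
      { gen := ⟨ρ ζ, ⟨ζ, rfl⟩⟩
        coord := Equiv.refl _
        gen_smul := fun j => hζw j }
    have hsol : D.AllAffine → Group.IsSolvable H := fun ha => by
      haveI := D.isSolvable ha
      exact Group.isSolvable_of_isSolvable_injective (f := ρ.rangeRestrict)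
        ((injective_iff_map_eq_one _).mpr fun h hh => hfaith h fun j =>
          congrArg (fun σ : Equiv.Perm (ZMod N) => σ j) (congrArg Subtype.val hh))
    rcases le_or_gt N 3 with h3 | h3
    · exact hsol (D.allAffine_of_le_three h3)
    haveI : IsPretransitive ρ.range (ZMod N) := ⟨fun i j => by
      obtain ⟨s, hs⟩ := htr i
      obtain ⟨t, ht⟩ := htr j
      refine ⟨⟨ρ (t * s⁻¹), ⟨_, rfl⟩⟩, ?_⟩
      show (t * s⁻¹) • i = j
      rw [← hs, mul_smul, inv_smul_smul, ht]⟩
    rcases D.allAffine_or_two_transitive (ZMod.card N) with ha | h2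
    · exact hsol ha
    exfalso
    refine false_of_two_transitive hV hcop (show 4 ≤ N by omega) hNq w hw hwinj (hw0.symm ▸ hv)
      (fun a b c d hab hcd => ?_) hfixall horbit
    obtain ⟨⟨_, g, rfl⟩, hg1, hg2⟩ := (is_two_pretransitive_iff.mp h2) hab hcd
    exact ⟨g, hg1, hg2⟩
  · -- prime power degree
    exfalso
    have hN4 : 4 ≤ N := by
      have h1 : 2 ^ 2 ≤ p ^ 2 := Nat.pow_le_pow_left hp.out.two_le 2
      have h2 : p ^ 2 ≤ p ^ n := Nat.pow_le_pow_right hp.out.pos hn2
      omega
    have hprim : IsCoatom (stabilizer H (0 : ZMod N)) := by rw [hstab, ← hMC]; exact hM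
    refine false_of_two_transitive hV hcop hN4 hNq w hw hwinj (hw0.symm ▸ hv)
      (fun a b c d hab hcd => ?_) hfixall horbit
    obtain ⟨s, hs⟩ := htr a
    obtain ⟨t, ht⟩ := htr c
    obtain ⟨h, h0, hh⟩ := CyclicRegular.stabilizer_transitive (G := H) hζw rfl hn2 hprim
      (x := s⁻¹ • b) (y := t⁻¹ • d)
      (fun e => hab (by rw [← hs, ← e, smul_inv_smul]))
      (fun e => hcd (by rw [← ht, ← e, smul_inv_smul]))
    refine ⟨t * h * s⁻¹, ?_, ?_⟩
    · rw [mul_smul, mul_smul, ← hs, inv_smul_smul, h0, ht]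
    · rw [mul_smul, mul_smul, hh, smul_inv_smul]

theorem isSolvable_of_orbits_aux (p q : ℕ) [Fact p.Prime] [Fact q.Prime] : ∀ (n : ℕ)
    (H V : Type u) [Group H] [Finite H] [AddCommGroup V] [Finite V] [DistribMulAction H V]
    [FaithfulSMul H V], Nat.card H + Nat.card V = n → (∀ v : V, q • v = 0) →
      (Nat.card H).Coprime q → Orbits H V p → Group.IsSolvable H := by
  intro n
  induction n using Nat.strong_induction_on with
  | _ n IH =>
  intro H V _ _ _ _ _ _ hn hV hcop horb
  classical
  let P : Sylow p H := default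
  by_cases hP : (P : Subgroup H) = ⊥
  · haveI : Subsingleton H := ⟨fun g h => FaithfulSMul.eq_of_smul_eq_smul (α := V) fun v => by
      obtain ⟨π, hπ, he⟩ := exists_sylow_smul horb P g v
      obtain ⟨π', hπ', he'⟩ := exists_sylow_smul horb P h v
      rw [hP, Subgroup.mem_bot] at hπ hπ'
      rw [he, he', hπ, hπ']⟩
    exact Group.isSolvable_of_comm fun a b => Subsingleton.elim _ _
  haveI : Nontrivial V := by
    by_contra hc
    rw [not_nontrivial_iff_subsingleton] at hc
    exact hP (eq_bot_iff.mpr fun x _ => Subgroup.mem_bot.mpr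
      (FaithfulSMul.eq_of_smul_eq_smul (α := V) fun v => Subsingleton.elim _ _))
  by_cases hirr : ∀ W : AddSubgroup V, (∀ g : H, ∀ w ∈ W, g • w ∈ W) → W = ⊥ ∨ W = ⊤
  swap
  · push Not at hirr
    obtain ⟨W, hW, hWb, hWt⟩ := hirr
    obtain ⟨W', hW', hdisj, hsp⟩ := exists_complement hV hcop W hW
    have hW't : W' ≠ ⊤ := by
      intro h
      apply hWb
      rw [eq_bot_iff]
      intro x hx
      exact AddSubgroup.mem_bot.mpr (hdisj x hx (h ▸ AddSubgroup.mem_top x))
    have step : ∀ (U : AddSubgroup V) (hU : ∀ g : H, ∀ w ∈ U, g • w ∈ U), U ≠ ⊤ →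
        ∃ (R : Type u) (_ : Group R) (f : H →* R), Group.IsSolvable R ∧
          ∀ h, f h = 1 → ∀ u ∈ U, h • u = u := by
      intro U hU hne
      letI : DistribMulAction H U :=
        { smul := fun h x => ⟨h • (x : V), hU h x x.2⟩
          one_smul := fun x => Subtype.ext (one_smul H (x : V))
          mul_smul := fun g h x => Subtype.ext (mul_smul g h (x : V))
          smul_zero := fun h => Subtype.ext (smul_zero h)
          smul_add := fun h x y => Subtype.ext (smul_add h (x : V) y) }
      set ρ := (DistribMulAction.toAddMonoidEnd H U).toHomUnits with hρ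
      haveI : Finite (AddMonoid.End U) :=
        Finite.of_injective (fun f : AddMonoid.End U => (f : U → U)) DFunLike.coe_injective
      haveI : FaithfulSMul ρ.range U := ⟨fun {r s} h =>
        Subtype.ext (Units.ext (DFunLike.ext _ _ h))⟩
      refine ⟨ρ.range, inferInstance, ρ.rangeRestrict, ?_, fun h hh u hu => ?_⟩
      · have hsurj := ρ.rangeRestrict_surjective
        have hlt : Nat.card ρ.range + Nat.card U < n := by
          rw [← hn]
          refine add_lt_add_of_le_of_lt (Nat.card_le_card_of_surjective _ hsurj) ?_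
          have := AddSubgroup.card_le_card_addGroup U
          refine lt_of_le_of_ne this fun he => hne (AddSubgroup.eq_top_of_card_eq U he)
        refine IH _ hlt ρ.range U rfl (fun x => Subtype.ext (hV x))
          (hcop.coprime_dvd_left (Subgroup.card_range_dvd ρ)) fun x => ?_
        obtain ⟨a, ha⟩ := horb (x : V)
        refine ⟨a, ?_⟩
        rw [← ha, ← Subgroup.index_comap_of_surjective _ hsurj]
        congr 1
        ext h
        exact Subtype.ext_iff
      · have h2 := congrArg (fun r : ρ.range => (r • (⟨u, hu⟩ : U) : U)) hh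
        exact (congrArg Subtype.val h2).trans rfl
    obtain ⟨R, _, f, hR, hf⟩ := step W hW hWt
    obtain ⟨R', _, f', hR', hf'⟩ := step W' hW' hW't
    haveI := hR
    haveI := hR'
    refine Group.isSolvable_of_isSolvable_injective (f := f.prod f') ((injective_iff_map_eq_one _).mpr
      fun h hh => FaithfulSMul.eq_of_smul_eq_smul (α := V) fun v => ?_)
    obtain ⟨x, hx, y, hy, rfl⟩ := hsp v
    rw [one_smul, smul_add, hf h (congrArg Prod.fst hh) x hx, hf' h (congrArg Prod.snd hh) y hy]
  have hirrP : ∀ W : AddSubgroup V, (∀ g ∈ (P : Subgroup H), ∀ w ∈ W, g • w ∈ W) → W = ⊥ ∨ W = ⊤ :=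
    fun W hW => hirr W fun g w hw => by
      obtain ⟨π, hπ, he⟩ := exists_sylow_smul horb P g w
      exact he ▸ hW π hπ w hw
  have hIH : ∀ K : Subgroup H, (K.Normal ∨ (P : Subgroup H) ≤ K) → K ≠ ⊤ → Group.IsSolvable K := by
    intro K hK hne
    haveI := faithfulSMul_subgroup (V := V) K
    refine IH _ ?_ K V rfl hV (hcop.coprime_dvd_left (Subgroup.card_subgroup_dvd_card K)) ?_
    · rw [← hn]
      refine add_lt_add_of_lt_of_le (lt_of_le_of_ne (Subgroup.card_le_card_group K) ?_) le_rfl
      exact fun he => hne (Subgroup.eq_top_of_card_eq K he)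
    · rcases hK with hK | hK
      · haveI := hK
        exact horb.of_normal K
      · exact horb.of_sylow_le P hK
  haveI := faithfulSMul_subgroup (V := V) (P : Subgroup H)
  have hPcop : (Nat.card (P : Subgroup H)).Coprime q :=
    hcop.coprime_dvd_left (Subgroup.card_subgroup_dvd_card _)
  by_cases hfield : ∀ A : Subgroup (P : Subgroup H), A.Normal → IsMulCommutative A →
      ∀ x ∈ span V A, ∀ y ∈ span V A, x * y = 0 → x = 0 ∨ y = 0
  swap
  · push Not at hfield
    obtain ⟨A, hAn, hAc, x, hx, y, hy, hxy, hx0, hy0⟩ := hfield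
    have hA : ∀ a ∈ A, ∀ b ∈ A, a * b = b * a := fun a ha b hb =>
      PGroups.comm_of_isMulCommutative hAc ha hb
    rcases exists_idempotent_or_noZeroDivisors hV hA hPcop with h | ⟨e, he, hee, he0, he1⟩
    · exact absurd (h x hx y hy hxy) (by simp [hx0, hy0])
    refine isSolvable_of_idempotent horb P hirrP (fun K hK => hIH K (Or.inl hK))
      (A := A.map (P : Subgroup H).subtype) ?_ ?_ (e₀ := e) (by rw [span_map]; exact he) hee he0 he1
    · rintro _ ⟨a, ha, rfl⟩ _ ⟨b, hb, rfl⟩
      exact congrArg Subtype.val (hA a ha b hb)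
    · rintro g hg _ ⟨a, ha, rfl⟩
      exact ⟨⟨g, hg⟩ * a * ⟨g, hg⟩⁻¹, hAn.conj_mem a ha ⟨g, hg⟩, rfl⟩
  have hpdvd : p ∣ Nat.card H := by
    obtain ⟨k, hk⟩ := IsPGroup.iff_card.mp P.2
    have : k ≠ 0 := by
      rintro rfl
      exact hP (Subgroup.card_eq_one.mp (by rw [hk, pow_zero]))
    exact (hk ▸ dvd_pow_self p this).trans (Subgroup.card_subgroup_dvd_card _)
  have hpq : p ≠ q := by
    rintro rfl
    exact (Fact.out : p.Prime).not_dvd_one (hcop.gcd_eq_one ▸ Nat.dvd_gcd hpdvd dvd_rfl)
  rcases comm_or_small hV hPcop P.2 (fun h2 h2' => hpq (h2.trans h2'.symm))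
      (fun W hW => hirrP W fun g hg => hW ⟨g, hg⟩) hfield with hab | hsmall
  · haveI : IsMulCommutative (P : Subgroup H) := ⟨⟨hab⟩⟩
    haveI : IsCyclic (P : Subgroup H) := by
      haveI := isCyclic_of_noZeroDivisors hV (A := (⊤ : Subgroup (P : Subgroup H)))
        (fun a _ b _ => hab a b) (hfield ⊤ inferInstance
          (PGroups.isMulCommutative_of_comm fun a _ b _ => hab a b))
      exact isCyclic_of_surjective _ (Subgroup.topEquiv (G := (P : Subgroup H))).surjective
    exact isSolvable_of_cyclic hV hcop horb P hP hirr hirrP hIH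
  · obtain ⟨v, hv⟩ := exists_ne (0 : V)
    exact isSolvable_of_abelian_stabilizer horb P v fun g hg h hh =>
      comm_stabilizer hV hcop hsmall hv g hg h hh

/-- A coprime linear group all of whose orbits have `p`-power size is solvable. -/
theorem isSolvable_of_orbits {H V : Type u} [Group H] [Finite H] [AddCommGroup V] [Finite V]
    [DistribMulAction H V] [FaithfulSMul H V] {p q : ℕ} [Fact p.Prime] [Fact q.Prime]
    (hV : ∀ v : V, q • v = 0) (hcop : (Nat.card H).Coprime q) (horb : Orbits H V p) :
    Group.IsSolvable H :=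
  isSolvable_of_orbits_aux p q _ H V rfl hV hcop horb

end Cfsg.Agent.H79.PPowerOrbits
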