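import Cfsg.Agent.H79.OrbitBasics

/-!
# The ring of endomorphisms generated by a commutative group of operators of coprime order
-/

set_option autoImplicit false
set_option linter.style.haveILetI false

namespace Cfsg.Agent.H79.PPowerOrbits

universe u

variable {H : Type u} [Group H] {V : Type u} [AddCommGroup V] [DistribMulAction H V]

variable (V) in
/-- The action as ring elements. -/
def op : H →* AddMonoid.End V := DistribMulAction.toAddMonoidEnd H V

theorem op_apply (h : H) (v : V) : (op V h) v = h • v := rfl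

theorem op_injective [FaithfulSMul H V] : Function.Injective (op V (H := H)) := fun g h e =>
  FaithfulSMul.eq_of_smul_eq_smul (α := V) fun v => by rw [← op_apply, e, op_apply]

variable (V) in
/-- Conjugation of endomorphisms by an operator. -/
def cj (g : H) : AddMonoid.End V →+* AddMonoid.End V where
  toFun x := op V g * x * op V g⁻¹
  map_one' := by rw [mul_one, ← map_mul, mul_inv_cancel, map_one]
  map_mul' x y := by
    rw [show op V g * x * op V g⁻¹ * (op V g * y * op V g⁻¹) =
      op V g * x * (op V g⁻¹ * op V g) * y * op V g⁻¹ by simp only [mul_assoc],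
      ← map_mul (op V), inv_mul_cancel, map_one, mul_one]
    simp only [mul_assoc]
  map_zero' := by rw [mul_zero, zero_mul]
  map_add' x y := by rw [mul_add, add_mul]

theorem cj_apply (g : H) (x : AddMonoid.End V) (v : V) : (cj V g x) v = g • x (g⁻¹ • v) := rfl

theorem cj_op (g h : H) : cj V g (op V h) = op V (g * h * g⁻¹) := by
  show op V g * op V h * op V g⁻¹ = _
  rw [map_mul, map_mul]

theorem cj_mul (g h : H) (x : AddMonoid.End V) : cj V (g * h) x = cj V g (cj V h x) := by
  show op V (g * h) * x * op V (g * h)⁻¹ = op V g * (op V h * x * op V h⁻¹) * op V g⁻¹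
  rw [map_mul, mul_inv_rev, map_mul]
  simp only [mul_assoc]

theorem cj_one (x : AddMonoid.End V) : cj V (1 : H) x = x := by
  show op V 1 * x * op V (1 : H)⁻¹ = x
  rw [inv_one, map_one, one_mul, mul_one]

theorem cj_injective (g : H) : Function.Injective (cj V g) := fun x y e => by
  rw [← cj_one (H := H) x, ← cj_one (H := H) y, ← inv_mul_cancel g, cj_mul, cj_mul, e]

variable (V) in
/-- The ring generated by the operators in `A`. -/
def span (A : Subgroup H) : Subring (AddMonoid.End V) := Subring.closure (op V '' (A : Set H))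

theorem op_mem_span {A : Subgroup H} {a : H} (ha : a ∈ A) : op V a ∈ span V A :=
  Subring.subset_closure ⟨a, ha, rfl⟩

theorem span_comm {A : Subgroup H} (hA : ∀ a ∈ A, ∀ b ∈ A, a * b = b * a) {x y : AddMonoid.End V}
    (hx : x ∈ span V A) (hy : y ∈ span V A) : x * y = y * x := by
  have h1 : span V A ≤ Subring.centralizer (op V '' (A : Set H)) := by
    refine Subring.closure_le.mpr ?_
    rintro _ ⟨a, ha, rfl⟩ _ ⟨b, hb, rfl⟩
    rw [← map_mul, ← map_mul, hA b hb a ha]
  have h2 : span V A ≤ Subring.centralizer ((span V A : Subring (AddMonoid.End V)) : Set _) := by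
    refine Subring.closure_le.mpr ?_
    rintro _ ⟨a, ha, rfl⟩ z hz
    exact (h1 hz (op V a) ⟨a, ha, rfl⟩).symm
  exact (h2 hy x hx)

theorem cj_mem_span {A : Subgroup H} {g : H} (hg : ∀ a ∈ A, g * a * g⁻¹ ∈ A)
    {x : AddMonoid.End V} (hx : x ∈ span V A) : cj V g x ∈ span V A := by
  have : (span V A).map (cj V g) ≤ span V A := by
    rw [span, RingHom.map_closure]
    refine Subring.closure_mono ?_
    rintro _ ⟨_, ⟨a, ha, rfl⟩, rfl⟩
    exact ⟨g * a * g⁻¹, hg a ha, (cj_op g a).symm⟩
  exact this ⟨x, hx, rfl⟩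

variable {q : ℕ} [hq : Fact q.Prime] (hV : ∀ v : V, q • v = 0)
include hV

theorem charP_end [Nontrivial V] : CharP (AddMonoid.End V) q := by
  have h0 : (q : AddMonoid.End V) = 0 := DFunLike.ext _ _ fun v => hV v
  haveI : Nontrivial (AddMonoid.End V) := by
    obtain ⟨v, hv⟩ := exists_ne (0 : V)
    exact ⟨1, 0, fun h => hv (congrArg (fun f : AddMonoid.End V => f v) h)⟩
  exact ringChar.of_eq (CharP.ringChar_of_prime_eq_zero hq.out h0)

/-- Frobenius fixes the span. -/
theorem pow_eq_self [Nontrivial V] {A : Subgroup H} (hA : ∀ a ∈ A, ∀ b ∈ A, a * b = b * a)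
    (f : ℕ) (hf : ∀ a ∈ A, a ^ q ^ f = a) {x : AddMonoid.End V} (hx : x ∈ span V A) :
    x ^ q ^ f = x := by
  haveI := charP_end hV
  induction hx using Subring.closure_induction with
  | mem x hx =>
    obtain ⟨a, ha, rfl⟩ := hx
    rw [← map_pow, hf a ha]
  | zero => exact zero_pow (pow_ne_zero f hq.out.ne_zero)
  | one => exact one_pow _
  | add x y hx hy ihx ihy =>
    rw [add_pow_expChar_pow_of_commute q f (span_comm hA hx hy), ihx, ihy]
  | neg x hx ih =>
    have h := add_pow_expChar_pow_of_commute q f (show Commute x (-x) from (Commute.refl x).neg_right)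
    rw [add_neg_cancel, zero_pow (pow_ne_zero f hq.out.ne_zero), ih] at h
    exact (neg_eq_of_add_eq_zero_right h.symm).symm
  | mul x y hx hy ihx ihy => rw [(show Commute x y from span_comm hA hx hy).mul_pow, ihx, ihy]

/-- Either the span has no zero divisors or it has a proper idempotent. -/
theorem exists_idempotent_or_noZeroDivisors [Finite H] [Nontrivial V] {A : Subgroup H}
    (hA : ∀ a ∈ A, ∀ b ∈ A, a * b = b * a) (hcop : (Nat.card H).Coprime q) :
    (∀ x ∈ span V A, ∀ y ∈ span V A, x * y = 0 → x = 0 ∨ y = 0) ∨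
      ∃ e ∈ span V A, e * e = e ∧ e ≠ 0 ∧ e ≠ 1 := by
  by_contra hcon
  push Not at hcon
  obtain ⟨⟨x, hx, y, hy, hxy, hx0, hy0⟩, hcon⟩ := hcon
  set f := (Nat.card H).totient
  have hf1 : 1 ≤ f := Nat.totient_pos.mpr Nat.card_pos
  have hf : ∀ a ∈ A, a ^ q ^ f = a := by
    intro a _
    have h1 : q ^ f ≡ 1 [MOD orderOf a] :=
      (Nat.ModEq.pow_totient hcop.symm).of_dvd (orderOf_dvd_natCard a)
    rw [← pow_one a, ← pow_mul, one_mul, pow_eq_pow_iff_modEq]
    simpa using h1
  have hQ : 2 ≤ q ^ f := hq.out.two_le.trans (Nat.le_self_pow (by omega) q)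
  have hxQ : x ^ q ^ f = x := pow_eq_self hV hA f hf hx
  have hne : x ^ (q ^ f - 1) ≠ 0 := by
    intro h
    apply hx0
    rw [← hxQ, show q ^ f = q ^ f - 1 + 1 by omega, pow_succ, h, zero_mul]
  have hsq : x ^ (q ^ f - 1) * x ^ (q ^ f - 1) = x ^ (q ^ f - 1) := by
    calc x ^ (q ^ f - 1) * x ^ (q ^ f - 1) = x ^ q ^ f * x ^ (q ^ f - 2) := by
          rw [← pow_add, ← pow_add]; congr 1; omega
      _ = x ^ (q ^ f - 1) := by rw [hxQ, ← pow_succ']; congr 1; omega
  have h1 := hcon _ (pow_mem hx _) hsq hne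
  apply hy0
  rw [← one_mul y, ← h1, show q ^ f - 1 = q ^ f - 2 + 1 by omega, pow_succ, mul_assoc, hxy, mul_zero]

/-- Without zero divisors, the group of operators is cyclic. -/
theorem isCyclic_of_noZeroDivisors [Finite H] [Nontrivial V] [FaithfulSMul H V] {A : Subgroup H}
    (hA : ∀ a ∈ A, ∀ b ∈ A, a * b = b * a)
    (hnz : ∀ x ∈ span V A, ∀ y ∈ span V A, x * y = 0 → x = 0 ∨ y = 0) : IsCyclic A := by
  haveI := charP_end hV
  letI : CommRing (span V A) :=
    { (inferInstance : Ring (span V A)) with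
      mul_comm := fun x y => Subtype.ext (span_comm hA x.2 y.2) }
  haveI : Nontrivial (AddMonoid.End V) := CharP.nontrivial_of_char_ne_one hq.out.ne_one
  haveI : Nontrivial (span V A) := ⟨0, 1, fun h => one_ne_zero (congrArg Subtype.val h).symm⟩
  haveI : NoZeroDivisors (span V A) := ⟨fun {x y} h =>
    (hnz x x.2 y y.2 (congrArg Subtype.val h)).imp Subtype.ext Subtype.ext⟩
  haveI : IsDomain (span V A) := NoZeroDivisors.to_isDomain _
  exact isCyclic_of_injective_ringHom
    (((op V).comp A.subtype).codRestrict (span V A).toSubmonoid fun a => op_mem_span a.2)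
    (fun a b h => Subtype.ext (op_injective (congrArg Subtype.val h)))

end Cfsg.Agent.H79.PPowerOrbits
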