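import Cfsg.Agent.H79.Deg22Graph
import Cfsg.Agent.H78.SylowFifteen
import Cfsg.Agent.H36.PermNormalizer

/-!
No finite simple group has exactly 22 Sylow 3-subgroups.
-/

set_option autoImplicit false
set_option linter.style.haveILetI false

namespace Cfsg.Agent.H79.Deg22

open Subgroup MulAction
open scoped Pointwise

theorem prime_dvd_ncard {p : ℕ} [Fact p.Prime] {K X : Type*} [Group K] [MulAction K X] [Finite X]
    (hK : IsPGroup p K) (F : Set X) (hF : ∀ k : K, ∀ a ∈ F, k • a ∈ F)
    (hfix : ∀ a ∈ F, ∃ k : K, k • a ≠ a) : p ∣ F.ncard := by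
  let Y : SubMulAction K X := ⟨F, fun k {a} => hF k a⟩
  have : IsEmpty (fixedPoints K Y) := ⟨fun y => by
    obtain ⟨k, hk⟩ := hfix y.1.1 y.1.2
    exact hk (congrArg Subtype.val (y.2 k))⟩
  have h := hK.card_modEq_card_fixedPoints Y
  rw [Nat.card_of_isEmpty (α := fixedPoints K Y), Nat.modEq_zero_iff_dvd] at h
  rwa [← Nat.card_coe_set_eq]

theorem dvd_card_of_forall {K Y : Type*} [Group K] [MulAction K Y] [Finite Y] (m : ℕ)
    (h : ∀ y : Y, Nat.card (orbit K y) = m) :
    Nat.card Y = Nat.card (orbitRel.Quotient K Y) * m := by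
  classical
  have := Fintype.ofFinite (orbitRel.Quotient K Y)
  rw [Nat.card_congr (selfEquivSigmaOrbits K Y), Nat.card_sigma,
    Finset.sum_congr rfl (fun ω _ => h ω.out), Finset.sum_const, Finset.card_univ,
    ← Nat.card_eq_fintype_card, smul_eq_mul]

theorem perm7_false {α : Type*} [Fintype α] [DecidableEq α] (hα : Fintype.card α = 7)
    (I : Subgroup (Equiv.Perm α))
    (hc : Nat.card I = 35 ∨ Nat.card I = 112 ∨ Nat.card I = 280 ∨ Nat.card I = 560) : False := by
  haveI : Fact (Nat.Prime 7) := ⟨by norm_num⟩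
  haveI : Fact (Nat.Prime 2) := ⟨Nat.prime_two⟩
  have h5040 : Nat.card (Equiv.Perm α) = 5040 := by
    rw [Nat.card_eq_fintype_card, Fintype.card_perm, hα]; decide
  obtain ⟨y, hy⟩ := exists_prime_orderOf_dvd_card' (G := I) 7 (by omega)
  rw [← orderOf_coe] at hy
  rcases hc with hc | hc | hc | hc
  case' inr.inl =>
    obtain ⟨P2⟩ : Nonempty (Sylow 2 I) := inferInstance
    have hP2 : Nat.card (P2.1.map I.subtype) = 2 ^ 4 := by
      rw [Nat.card_congr (equivMapOfInjective _ _ I.subtype_injective).toEquiv.symm,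
        P2.card_eq_multiplicity, hc]
      rw [show (112 : ℕ) = 2 ^ 4 * 7 by norm_num, Nat.factorization_mul (by norm_num) (by norm_num),
        Finsupp.add_apply, Nat.Prime.factorization_pow Nat.prime_two,
        Finsupp.single_eq_same, Nat.factorization_eq_zero_of_not_dvd (by norm_num)]
    obtain ⟨a, b, hab⟩ := Fintype.exists_pair_of_one_lt_card (α := α) (by omega)
    have ht : IsPGroup 2 (zpowers (Equiv.swap a b)) := by
      refine IsPGroup.of_card (n := 1) ?_
      rw [Nat.card_zpowers, pow_one]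
      exact orderOf_eq_prime (by rw [pow_two, Equiv.swap_mul_self])
        (fun e => hab (by simpa using (congrFun (congrArg DFunLike.coe e) a).symm))
    obtain ⟨Q, hQ⟩ := ht.exists_le_sylow
    have hR : (2 : ℕ) ^ (Nat.card (Equiv.Perm α)).factorization 2 = 2 ^ 4 := by
      rw [h5040, show (5040 : ℕ) = 2 ^ 4 * 315 by norm_num,
        Nat.factorization_mul (by norm_num) (by norm_num),
        Finsupp.add_apply, Nat.Prime.factorization_pow Nat.prime_two,
        Finsupp.single_eq_same, Nat.factorization_eq_zero_of_not_dvd (by norm_num)]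
    let R : Sylow 2 (Equiv.Perm α) := Sylow.ofCard (P2.1.map I.subtype) (hP2.trans hR.symm)
    obtain ⟨g, hg⟩ := MulAction.exists_smul_eq (Equiv.Perm α) Q R
    have hmem : g * Equiv.swap a b * g⁻¹ ∈ I := by
      have h1 : MulAut.conj g • Equiv.swap a b ∈ (R : Subgroup (Equiv.Perm α)) := by
        rw [← hg, Sylow.coe_subgroup_smul]
        exact smul_mem_pointwise_smul _ _ _ (hQ (mem_zpowers _))
      rw [MulAut.smul_def, MulAut.conj_apply] at h1
      exact map_subtype_le _ h1
    have hcy : (y : Equiv.Perm α).IsCycle :=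
      Equiv.Perm.isCycle_of_prime_order' (hy ▸ by norm_num) (by rw [hy, hα]; norm_num)
    have hsupp : (y : Equiv.Perm α).support = Finset.univ :=
      Finset.eq_univ_of_card _ (by rw [← hcy.orderOf, hy, hα])
    have htop := Equiv.Perm.closure_prime_cycle_swap (hα ▸ by norm_num) hcy hsupp
      (τ := g * Equiv.swap a b * g⁻¹)
      (show (g * Equiv.swap a b * g⁻¹).IsSwap from ⟨g a, g b, g.injective.ne hab,
        by rw [mul_inv_eq_iff_eq_mul, Equiv.mul_swap_eq_swap_mul]⟩)
    have : I = ⊤ := top_le_iff.1 (htop ▸ (closure_le I).2 (Set.pair_subset y.2 hmem))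
    rw [this, card_top, h5040] at hc
    omega
  all_goals
    obtain ⟨Q7⟩ : Nonempty (Sylow 7 I) := inferInstance
    have hQ7 : Nat.card (Q7.1.map I.subtype) = 7 := by
      rw [Nat.card_congr (equivMapOfInjective _ _ I.subtype_injective).toEquiv.symm]
      obtain ⟨n, hn⟩ := Q7.2.exists_card_eq
      have hd := card_subgroup_dvd_card (Q7 : Subgroup I)
      have h7 := Q7.dvd_card_of_dvd_card (show 7 ∣ Nat.card I by omega)
      rw [hn] at hd h7 ⊢
      rcases n with _ | _ | n
      · norm_num at h7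
      · norm_num
      · exfalso
        have := (pow_dvd_pow 7 (show 2 ≤ n + 1 + 1 by omega)).trans hd
        rw [hc] at this
        norm_num at this
    have hN := H36.card_normalizer_of_card_eq (p := 7) (by omega) _ hQ7
    rw [hα] at hN
    have hle : Nat.card (normalizer (Q7 : Set I)) ∣ 42 := by
      have h1 : (normalizer (Q7 : Set I)).map I.subtype ≤
          normalizer ((Q7.1.map I.subtype : Subgroup (Equiv.Perm α)) : Set (Equiv.Perm α)) :=
        le_normalizer_map _
      have h2 := card_dvd_of_le h1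
      rw [Nat.card_congr (equivMapOfInjective _ _ I.subtype_injective).toEquiv.symm, hN] at h2
      exact h2
    have hn := card_sylow_modEq_one 7 I
    have heq := card_mul_index (normalizer (Q7 : Set I))
    rw [← Q7.card_eq_index_normalizer, hc] at heq
    have hle' : Nat.card (normalizer (Q7 : Set I)) ≤ 42 := Nat.le_of_dvd (by norm_num) hle
    rw [Nat.ModEq] at hn
    generalize Nat.card (normalizer (Q7 : Set I)) = u at heq hle hle'
    interval_cases u <;> omega

section simple

variable {S : Type*} [Group S] [Finite S] [IsSimpleGroup S]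

theorem noncomm22 (h22 : Nat.card (Sylow 3 S) = 22) : ¬ IsMulCommutative S := by
  haveI : Fact (Nat.Prime 3) := ⟨by norm_num⟩
  intro h
  obtain ⟨P⟩ : Nonempty (Sylow 3 S) := inferInstance
  have hPn : (P : Subgroup S).Normal := ⟨fun a ha g => by
    rw [h.is_comm.comm g a, mul_inv_cancel_right]; exact ha⟩
  have := Sylow.unique_of_normal P hPn
  rw [Nat.card_unique] at h22
  omega

theorem faithful22 (h22 : Nat.card (Sylow 3 S) = 22) {g : S} (hg : ∀ R : Sylow 3 S, g • R = R) :
    g = 1 := by
  haveI : Fact (Nat.Prime 3) := ⟨by norm_num⟩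
  have hK : (MulAction.toPermHom S (Sylow 3 S)).ker = ⊥ := by
    rcases IsSimpleGroup.eq_bot_or_eq_top_of_normal
      (MulAction.toPermHom S (Sylow 3 S)).ker inferInstance with h | h
    · exact h
    · exfalso
      obtain ⟨P⟩ : Nonempty (Sylow 3 S) := inferInstance
      have : Subsingleton (Sylow 3 S) := ⟨fun A B => by
        obtain ⟨g, rfl⟩ := MulAction.exists_smul_eq S A B
        exact (Equiv.Perm.ext_iff.mp (MonoidHom.mem_ker.1 (h ▸ mem_top g)) A).symm⟩
      rw [Nat.card_eq_one_iff_unique.mpr ⟨this, ⟨P⟩⟩] at h22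
      omega
  rw [← mem_bot, ← hK, MonoidHom.mem_ker]
  exact Equiv.Perm.ext hg

theorem card_eq22 (h22 : Nat.card (Sylow 3 S) = 22) (P : Sylow 3 S) :
    Nat.card S = 22 * Nat.card (stabilizer S P) := by
  haveI : Fact (Nat.Prime 3) := ⟨by norm_num⟩
  rw [← card_mul_index (stabilizer S P), index_stabilizer_of_transitive, h22, mul_comm]

omit [IsSimpleGroup S] in
/-- A Sylow 3-subgroup fixes only itself. -/
theorem mem_of_smul_eq {P Q : Sylow 3 S} {σ : S} (hσ : σ ∈ (P : Subgroup S)) (h : σ • Q = Q) :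
    σ ∈ (Q : Subgroup S) := by
  haveI : Fact (Nat.Prime 3) := ⟨by norm_num⟩
  have h3 : σ ∈ (P : Subgroup S) ⊓ normalizer (Q : Set S) :=
    ⟨hσ, Sylow.smul_eq_iff_mem_normalizer.mp h⟩
  rw [P.2.inf_normalizer_sylow Q] at h3
  exact h3.2

omit [IsSimpleGroup S] in
theorem exists_moves {P Q : Sylow 3 S} (h : Q ≠ P) : ∃ σ : (P : Subgroup S), σ • Q ≠ Q := by
  by_contra h'
  exact h (Sylow.ext (P.is_maximal' Q.2
    (fun σ hσ => mem_of_smul_eq hσ (not_not.1 (not_exists.1 h' ⟨σ, hσ⟩)))))

omit [IsSimpleGroup S] in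
theorem smul_self_eq {P : Sylow 3 S} (σ : (P : Subgroup S)) : (σ : S) • P = P :=
  Sylow.smul_eq_iff_mem_normalizer.mpr (le_normalizer σ.2)

theorem not_eleven_dvd (h22 : Nat.card (Sylow 3 S) = 22) (P : Sylow 3 S) :
    ¬ 11 ∣ Nat.card (stabilizer S P) := by
  haveI : Fact (Nat.Prime 3) := ⟨by norm_num⟩
  haveI : Fact (Nat.Prime 11) := ⟨by norm_num⟩
  intro h
  obtain ⟨⟨y, hyP⟩, hy⟩ := exists_prime_orderOf_dvd_card' 11 h
  rw [← orderOf_coe] at hy
  change orderOf y = 11 at hy
  set F : Set (Sylow 3 S) := {a | y • a = a} with hF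
  have hy11 : IsPGroup 11 (zpowers y) :=
    IsPGroup.of_card (n := 1) (by rw [Nat.card_zpowers, hy, pow_one])
  have hmod : 11 ∣ F.ncard := by
    have e : fixedPoints (zpowers y) (Sylow 3 S) = F := by
      ext a
      refine ⟨fun h => h ⟨y, mem_zpowers y⟩, fun h g => ?_⟩
      exact (zpowers_le.2 (show y ∈ stabilizer S a from h)) g.2
    have := hy11.card_modEq_card_fixedPoints (Sylow 3 S)
    rw [e, h22, Nat.card_coe_set_eq, Nat.ModEq] at this
    omega
  have hPF : P ∈ F := hyP
  have hpos : 0 < F.ncard := (Set.ncard_pos (Set.toFinite _)).2 ⟨P, hPF⟩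
  have hle : F.ncard ≤ 22 := h22 ▸ Set.ncard_le_card _
  have hlt : F.ncard ≠ 22 := by
    intro he
    have : F = Set.univ := Set.eq_of_subset_of_ncard_le (Set.subset_univ _)
      (by rw [Set.ncard_univ, h22, he])
    have := faithful22 h22 (g := y) fun R => (this ▸ Set.mem_univ R : R ∈ F)
    rw [this, orderOf_one] at hy
    omega
  have h10 : (F \ {P}).ncard = 10 := by
    rw [Set.ncard_sdiff_singleton_of_mem hPF]
    omega
  have h3 : 3 ∣ (F \ {P}).ncard := by
    refine prime_dvd_ncard P.2 _ (fun σ β hβ => ?_) (fun β hβ => exists_moves hβ.2)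
    refine ⟨?_, fun h => hβ.2 ?_⟩
    swap
    · exact smul_left_cancel σ (h.trans (smul_self_eq σ).symm)
    set O := orbit (P : Subgroup S) β with hO
    have hOle : O.ncard ≤ 9 := by
      have hd : O.ncard ∣ Nat.card (P : Subgroup S) := by
        rw [hO, ← index_stabilizer]; exact index_dvd_card _
      obtain ⟨n, hn⟩ := P.2.exists_card_eq
      rw [hn] at hd
      obtain ⟨i, -, hi⟩ := (Nat.dvd_prime_pow (by norm_num)).1 hd
      have : O.ncard ≤ 21 := by
        refine (Set.ncard_le_ncard (t := {P}ᶜ) ?_).trans ?_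
        · rintro c ⟨τ, rfl⟩ hc
          exact hβ.2 (smul_left_cancel (τ : S) ((show (τ : S) • β = P from hc).trans
            (smul_self_eq τ).symm))
        · rw [Set.ncard_compl, h22, Set.ncard_singleton]
      rw [hi] at this ⊢
      have : i ≤ 2 := by
        by_contra h
        have := Nat.pow_le_pow_right (show 0 < 3 by norm_num) (show 3 ≤ i by omega)
        omega
      interval_cases i <;> norm_num
    have hz : ∀ g : zpowers y, (g : S) ∈ stabilizer S P ∧ (g : S) • β = β := fun g =>
      ⟨zpowers_le.2 hyP g.2, zpowers_le.2 (show y ∈ stabilizer S β from hβ.1) g.2⟩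
    have h11 : 11 ∣ (O \ F).ncard := by
      refine prime_dvd_ncard hy11 _ (fun g c hc => ⟨?_, fun h => hc.2 ?_⟩) (fun c hc => ?_)
      · obtain ⟨τ, rfl⟩ := hc.1
        refine ⟨⟨(g : S) * τ * (g : S)⁻¹,
          (mem_normalizer_iff.1 (Sylow.smul_eq_iff_mem_normalizer.mp (hz g).1) _).1 τ.2⟩, ?_⟩
        show ((g : S) * τ * (g : S)⁻¹) • β = (g : S) • (τ : S) • β
        conv_lhs => rw [← (hz g).2, ← mul_smul, inv_mul_cancel_right, mul_smul]
      · obtain ⟨k, hk⟩ := mem_zpowers_iff.1 g.2
        have hc' : Commute y (g : S) := hk ▸ Commute.zpow_right rfl k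
        exact smul_left_cancel (g : S)
          (by rw [← mul_smul, ← hc'.eq, mul_smul]; exact h)
      · exact ⟨⟨y, mem_zpowers y⟩, hc.2⟩
    by_contra hσ
    have hne : (O \ F).Nonempty := ⟨σ • β, ⟨σ, rfl⟩, hσ⟩
    have := Nat.le_of_dvd ((Set.ncard_pos (Set.toFinite _)).2 hne) h11
    have := Set.ncard_le_ncard (Set.sdiff_subset : O \ F ⊆ O)
    omega
  omega

theorem exists_eleven (h22 : Nat.card (Sylow 3 S) = 22) :
    ∃ x : S, orderOf x = 11 ∧ ∀ R : Sylow 3 S, x • R ≠ R := by
  haveI : Fact (Nat.Prime 11) := ⟨by norm_num⟩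
  haveI : Fact (Nat.Prime 3) := ⟨by norm_num⟩
  obtain ⟨P⟩ : Nonempty (Sylow 3 S) := inferInstance
  obtain ⟨x, hx⟩ := exists_prime_orderOf_dvd_card' (G := S) 11
    (by rw [card_eq22 h22 P]; omega)
  refine ⟨x, hx, fun R hR => not_eleven_dvd h22 R ?_⟩
  rw [← hx, ← orderOf_mk x (show x ∈ stabilizer S R from hR)]
  exact orderOf_dvd_natCard _

/-- The normalizer of a Sylow 3-subgroup is transitive on the other 21. -/
theorem transitive21 (h22 : Nat.card (Sylow 3 S) = 22) {P Q R : Sylow 3 S} (hQ : Q ≠ P)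
    (hR : R ≠ P) : ∃ g : S, g • P = P ∧ g • Q = R := by
  classical
  haveI : Fact (Nat.Prime 3) := ⟨by norm_num⟩
  have := Fintype.ofFinite (Sylow 3 S)
  obtain ⟨x, hx, hfix⟩ := exists_eleven h22
  let Rel : Sylow 3 S → Sylow 3 S → Prop := fun a b =>
    ∃ g : S, (g • P = a ∧ g • Q = b) ∨ (g • Q = a ∧ g • P = b)
  have hsymm : ∀ a b, Rel a b → Rel b a := fun a b ⟨g, h⟩ =>
    ⟨g, h.symm.imp And.symm And.symm⟩
  have hirr : ∀ a, ¬ Rel a a := by
    rintro a ⟨g, ⟨h1, h2⟩ | ⟨h1, h2⟩⟩
    · exact hQ (smul_left_cancel g (h2.trans h1.symm))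
    · exact hQ (smul_left_cancel g (h1.trans h2.symm))
  have hinv : ∀ (g : S) a b, Rel a b → Rel (g • a) (g • b) := by
    rintro g a b ⟨u, h | h⟩
    · exact ⟨g * u, Or.inl ⟨by rw [mul_smul, h.1], by rw [mul_smul, h.2]⟩⟩
    · exact ⟨g * u, Or.inr ⟨by rw [mul_smul, h.1], by rw [mul_smul, h.2]⟩⟩
  have hk := graph22 (noncomm22 h22) (by rw [← Nat.card_eq_fintype_card, h22])
    (by rw [card_eq22 h22 P]; omega) x hx hfix Rel hsymm hirr hinv P
  set N := Finset.univ.filter (Rel P) with hN
  have hQN : Q ∈ N := by simpa [hN] using ⟨1, Or.inl ⟨one_smul _ _, one_smul _ _⟩⟩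
  have hNinv : ∀ σ : (P : Subgroup S), ∀ c, c ∈ N → (σ : S) • c ∈ N := by
    intro σ c hc
    simp only [hN, Finset.mem_filter, Finset.mem_univ, true_and] at hc ⊢
    have := hinv (σ : S) _ _ hc
    rwa [smul_self_eq] at this
  have hall : ∀ c, c ≠ P → c ∈ N := by
    simp only [Finset.mem_insert, Finset.mem_singleton] at hk
    rcases hk with h | h | h | h
    · exact absurd hQN (by rw [Finset.card_eq_zero.1 h]; simp)
    · exfalso
      obtain ⟨σ, hσ⟩ := exists_moves hQ
      exact hσ ((Finset.card_le_one.1 h.le) _ (hNinv σ Q hQN) _ hQN)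
    · exfalso
      have hc1 : (Nᶜ.erase P).card = 1 := by
        rw [Finset.card_erase_of_mem (by simpa [hN] using hirr P), Finset.card_compl,
          ← Nat.card_eq_fintype_card, h22, h]
      obtain ⟨d, hd⟩ := Finset.card_eq_one.1 hc1
      have hd' : d ∈ Nᶜ.erase P := by rw [hd]; simp
      simp only [Finset.mem_erase, Finset.mem_compl] at hd'
      obtain ⟨σ, hσ⟩ := exists_moves hd'.1
      apply hσ
      have : (σ : S) • d ∈ Nᶜ.erase P := by
        simp only [Finset.mem_erase, Finset.mem_compl]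
        refine ⟨fun h => hd'.1 (smul_left_cancel (σ : S) (h.trans (smul_self_eq σ).symm)),
          fun h => hd'.2 ?_⟩
        simpa using hNinv σ⁻¹ _ h
      rw [hd, Finset.mem_singleton] at this
      exact this
    · intro c hc
      have hsub : N ⊆ Finset.univ.erase P := fun b hb => by
        simp only [hN, Finset.mem_filter] at hb
        exact Finset.mem_erase.2 ⟨fun e => hirr P (e ▸ hb.2), Finset.mem_univ _⟩
      rw [Finset.eq_of_subset_of_card_le hsub (by
        rw [Finset.card_erase_of_mem (Finset.mem_univ _), Finset.card_univ,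
          ← Nat.card_eq_fintype_card, h22, h])]
      exact Finset.mem_erase.2 ⟨hc, Finset.mem_univ _⟩
  -- the two paired orbits of the normalizer
  set H := stabilizer S P with hH
  obtain ⟨u, hu⟩ := exists_smul_eq S Q P
  have hcover : ∀ c, c ≠ P → c ∈ orbit H Q ∪ orbit H (u • P) := by
    intro c hc
    have h1 := hall c hc
    simp only [hN, Finset.mem_filter, Finset.mem_univ, true_and] at h1
    obtain ⟨g, ⟨h2, h3⟩ | ⟨h2, h3⟩⟩ := h1
    · exact Or.inl ⟨⟨g, h2⟩, h3⟩
    · refine Or.inr ⟨⟨g * u⁻¹, ?_⟩, ?_⟩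
      · show (g * u⁻¹) • P = P
        conv_lhs => rw [← hu, mul_smul, inv_smul_smul, h2]
      · show (g * u⁻¹) • u • P = c
        rw [mul_smul, inv_smul_smul, h3]
  have hcards : (orbit H Q).ncard = (orbit H (u • P)).ncard := by
    have hcard : ∀ c : Sylow 3 S, (orbit H c).ncard * Nat.card ↥(H ⊓ stabilizer S c) =
        Nat.card H := by
      intro c
      rw [← index_stabilizer, ← Nat.card_congr (subgroupOfEquivOfLe
          (inf_le_left : H ⊓ stabilizer S c ≤ H)).toEquiv, inf_subgroupOf_left,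
        show (stabilizer S c).subgroupOf H = stabilizer H c from rfl, mul_comm, card_mul_index]
    have he : Nat.card ↥(H ⊓ stabilizer S (u • P)) = Nat.card ↥(H ⊓ stabilizer S Q) := by
      have h1 : H ⊓ stabilizer S (u • P) =
          (stabilizer S Q ⊓ H).map (MulAut.conj u).toMonoidHom := by
        rw [map_inf _ _ _ (MulAut.conj u).injective, ← stabilizer_smul_eq_stabilizer_map_conj,
          hH, ← stabilizer_smul_eq_stabilizer_map_conj, hu]
      rw [h1, inf_comm H]
      exact (Nat.card_congr (equivMapOfInjective (stabilizer S Q ⊓ H)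
        (MulAut.conj u).toMonoidHom (MulAut.conj u).injective).toEquiv).symm
    have h2 := (hcard Q).trans (hcard (u • P)).symm
    rw [he] at h2
    exact Nat.eq_of_mul_eq_mul_right Nat.card_pos h2
  have huP : u • P ≠ P := fun h => hQ (smul_left_cancel u (hu.trans h.symm))
  have hmem : u • P ∈ orbit H Q := by
    by_contra hne
    have hdisj : Disjoint (orbit H Q) (orbit H (u • P)) := by
      rw [Set.disjoint_left]
      intro c h1 h2
      rw [← orbit_eq_iff] at h1 h2
      exact hne (by rw [← h1, h2]; exact mem_orbit_self _)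
    have hU : orbit H Q ∪ orbit H (u • P) = {P}ᶜ := by
      refine Set.Subset.antisymm (fun c hc hcP => ?_) hcover
      rw [Set.mem_singleton_iff] at hcP
      rcases hc with ⟨g, rfl⟩ | ⟨g, rfl⟩
      · exact hQ (smul_left_cancel (g : S) (hcP.trans g.2.symm))
      · exact huP (smul_left_cancel (g : S) (hcP.trans g.2.symm))
    have := Set.ncard_union_eq hdisj
    rw [hU, Set.ncard_compl, h22, Set.ncard_singleton, hcards] at this
    omega
  have hcQ : orbit H (u • P) = orbit H Q := orbit_eq_iff.2 hmem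
  obtain ⟨g, hg⟩ : R ∈ orbit H Q := by
    rcases hcover R hR with h | h
    · exact h
    · exact hcQ ▸ h
  exact ⟨g, g.2, hg⟩

/-- Two distinct Sylow 3-subgroups meet in a subgroup of index 3. -/
theorem orbit_three (h22 : Nat.card (Sylow 3 S) = 22) {P Q : Sylow 3 S} (hQ : Q ≠ P) :
    (orbit (P : Subgroup S) Q).ncard = 3 ∧
      Nat.card ↥((P : Subgroup S) ⊓ (Q : Subgroup S)) * 3 = Nat.card (P : Subgroup S) := by
  classical
  haveI : Fact (Nat.Prime 3) := ⟨by norm_num⟩
  set m := (orbit (P : Subgroup S) Q).ncard with hm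
  let Y : SubMulAction (P : Subgroup S) (Sylow 3 S) :=
    ⟨{P}ᶜ, fun σ {c} hc h => hc (smul_left_cancel (σ : S)
      ((show (σ : S) • c = P from h).trans (smul_self_eq σ).symm))⟩
  have hY : ∀ c : Y, Nat.card (orbit (P : Subgroup S) c) = m := by
    rintro ⟨c, hc⟩
    rw [Nat.card_coe_set_eq, ← Set.ncard_image_of_injective _ Subtype.val_injective,
      SubMulAction.val_image_orbit]
    obtain ⟨g, hgP, hg⟩ := transitive21 h22 hQ hc
    have himg : orbit (P : Subgroup S) c = (fun a => g • a) '' orbit (P : Subgroup S) Q := by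
      have hn := Sylow.smul_eq_iff_mem_normalizer.mp hgP
      ext d
      constructor
      · rintro ⟨τ, rfl⟩
        refine ⟨(g⁻¹ * τ * g) • Q, ⟨⟨_, (mem_normalizer_iff''.1 hn _).1 τ.2⟩, rfl⟩, ?_⟩
        show g • (g⁻¹ * (τ : S) * g) • Q = (τ : S) • c
        rw [← mul_smul, mul_assoc g⁻¹, mul_inv_cancel_left, mul_smul, hg]
      · rintro ⟨_, ⟨τ, rfl⟩, rfl⟩
        refine ⟨⟨g * τ * g⁻¹, (mem_normalizer_iff.1 hn _).1 τ.2⟩, ?_⟩
        show (g * (τ : S) * g⁻¹) • c = g • (τ : S) • Q
        rw [← hg, ← mul_smul, inv_mul_cancel_right, mul_smul]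
    show (orbit (P : Subgroup S) c).ncard = m
    rw [himg, Set.ncard_image_of_injective _ (MulAction.injective g)]
  have h21 : m ∣ 21 := by
    have h := dvd_card_of_forall m hY
    have : Nat.card Y = 21 := by
      show Nat.card ↥({P}ᶜ : Set (Sylow 3 S)) = 21
      rw [Nat.card_coe_set_eq, Set.ncard_compl, h22, Set.ncard_singleton]
    exact ⟨_, by rw [← this, h, mul_comm]⟩
  have hidx : (stabilizer (P : Subgroup S) Q).index = m := index_stabilizer _ _
  have hstab : stabilizer (P : Subgroup S) Q = (Q : Subgroup S).subgroupOf P := by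
    ext σ
    exact ⟨fun h => mem_of_smul_eq σ.2 h, fun h => smul_self_eq (P := Q) ⟨(σ : S), h⟩⟩
  have hcard : Nat.card (stabilizer (P : Subgroup S) Q) * m = Nat.card (P : Subgroup S) := by
    rw [← hidx, card_mul_index]
  have h3 : m = 3 := by
    obtain ⟨n, hn⟩ := P.2.exists_card_eq
    obtain ⟨i, -, hi⟩ := (Nat.dvd_prime_pow (by norm_num)).1
      (show m ∣ 3 ^ n from hn ▸ ⟨_, (hcard.symm.trans (mul_comm _ _))⟩)
    rcases i with _ | _ | i
    · exfalso
      obtain ⟨σ, hσ⟩ := exists_moves hQ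
      obtain ⟨c, hc⟩ := Set.ncard_eq_one.1 hi
      have h1 : σ • Q ∈ orbit (P : Subgroup S) Q := mem_orbit _ _
      have h2 : Q ∈ orbit (P : Subgroup S) Q := mem_orbit_self _
      rw [hc, Set.mem_singleton_iff] at h1 h2
      exact hσ (h1.trans h2.symm)
    · simpa using hi
    · exfalso
      have := (pow_dvd_pow 3 (show 2 ≤ i + 1 + 1 by omega)).trans (hi ▸ h21)
      norm_num at this
  refine ⟨h3, ?_⟩
  rw [← hcard, h3, hstab, ← inf_subgroupOf_left,
    Nat.card_congr (subgroupOfEquivOfLe inf_le_left).toEquiv]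

/-- A Sylow 3-subgroup of a simple group with 22 of them has order 3. -/
theorem card_sylow_three (h22 : Nat.card (Sylow 3 S) = 22) (P : Sylow 3 S) :
    Nat.card (P : Subgroup S) = 3 := by
  classical
  haveI : Fact (Nat.Prime 3) := ⟨by norm_num⟩
  have := Fintype.ofFinite (Sylow 3 S)
  have hX : Fintype.card (Sylow 3 S) = 22 := by rw [← Nat.card_eq_fintype_card, h22]
  let pts : Subgroup S → Finset (Sylow 3 S) := fun D => Finset.univ.filter fun c => D ≤ ↑c
  let I : Sylow 3 S → Sylow 3 S → Subgroup S := fun a b => (a : Subgroup S) ⊓ b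
  have hinf : ∀ {a b c d : Sylow 3 S}, a ≠ b → c ≠ d → c ∈ pts (I a b) → d ∈ pts (I a b) →
      I c d = I a b := by
    intro a b c d hab hcd hc hd
    simp only [pts, Finset.mem_filter, Finset.mem_univ, true_and] at hc hd
    refine (eq_of_le_of_card_ge (le_inf hc hd) (le_of_eq ?_)).symm
    have h1 := (orbit_three h22 hab.symm).2
    have h2 := (orbit_three h22 hcd.symm).2
    rw [a.card_eq_multiplicity] at h1
    rw [c.card_eq_multiplicity] at h2
    show Nat.card ↥((c : Subgroup S) ⊓ d) = Nat.card ↥((a : Subgroup S) ⊓ b)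
    omega
  have hsmul : ∀ (g : S) (a b : Sylow 3 S), MulAut.conj g • I a b = I (g • a) (g • b) := by
    intro g a b
    show MulAut.conj g • ((a : Subgroup S) ⊓ b) = _
    rw [smul_inf, ← Sylow.coe_subgroup_smul, ← Sylow.coe_subgroup_smul]
  have hpts : ∀ (g : S) (a b : Sylow 3 S), (pts (I (g • a) (g • b))).card = (pts (I a b)).card := by
    intro g a b
    refine (Finset.card_equiv (MulAction.toPerm g) fun c => ?_).symm
    simp only [pts, Finset.mem_filter, Finset.mem_univ, true_and, MulAction.toPerm_apply]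
    rw [← hsmul, Sylow.coe_subgroup_smul, pointwise_smul_le_pointwise_smul_iff]
  have : Nontrivial (Sylow 3 S) := Finite.one_lt_card_iff_nontrivial.1 (by omega)
  obtain ⟨Q, hQ⟩ := exists_ne P
  set k := (pts (I P Q)).card with hk
  have hconst : ∀ a b : Sylow 3 S, a ≠ b → (pts (I a b)).card = k := by
    intro a b hab
    obtain ⟨g, hg⟩ := exists_smul_eq S P a
    obtain ⟨h, hP, hhQ⟩ := transitive21 h22 hQ (R := g⁻¹ • b)
      (fun e => hab (by rw [← hg, ← e, smul_inv_smul]))
    rw [hk, ← hpts (g * h) P Q, mul_smul, mul_smul, hP, hhQ, hg, smul_inv_smul]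
  have hmemP : ∀ a b : Sylow 3 S, a ∈ pts (I a b) ∧ b ∈ pts (I a b) := fun a b =>
    ⟨by simp [pts, I], by simp [pts, I]⟩
  have h21 : k - 1 ∣ 21 := by
    have h := Finset.card_eq_sum_card_image (fun b => I P b) (Finset.univ.erase P)
    rw [Finset.card_erase_of_mem (Finset.mem_univ _), Finset.card_univ, hX,
      Finset.sum_const_nat (m := k - 1)] at h
    · exact ⟨_, h.trans (mul_comm _ _)⟩
    intro D hD
    simp only [Finset.mem_image, Finset.mem_erase] at hD
    obtain ⟨b, ⟨hb, -⟩, rfl⟩ := hD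
    rw [← hconst P b (Ne.symm hb), ← Finset.card_erase_of_mem (hmemP P b).1]
    congr 1
    ext c
    simp only [Finset.mem_filter, Finset.mem_erase, Finset.mem_univ, and_true]
    refine ⟨fun ⟨hc, e⟩ => ⟨hc, e ▸ (hmemP P c).2⟩, fun ⟨hc, hc'⟩ => ⟨hc, ?_⟩⟩
    exact hinf (Ne.symm hb) (Ne.symm hc) (hmemP P b).1 hc'
  have h462 : k * k - k ∣ 462 := by
    have h := Finset.card_eq_sum_card_image (fun e => I e.1 e.2)
      (Finset.univ : Finset (Sylow 3 S)).offDiag
    rw [Finset.offDiag_card, Finset.card_univ, hX, Finset.sum_const_nat (m := k * k - k)] at h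
    · exact ⟨_, h.trans (mul_comm _ _)⟩
    intro D hD
    simp only [Finset.mem_image, Finset.mem_offDiag] at hD
    obtain ⟨⟨a, b⟩, ⟨-, -, hab⟩, rfl⟩ := hD
    rw [← hconst a b hab, ← Finset.offDiag_card]
    congr 1
    ext ⟨c, d⟩
    simp only [Finset.mem_filter, Finset.mem_offDiag, Finset.mem_univ, true_and]
    exact ⟨fun ⟨hcd, e⟩ => ⟨e ▸ (hmemP c d).1, e ▸ (hmemP c d).2, hcd⟩,
      fun ⟨hc, hd, hcd⟩ => ⟨hcd, hinf hab hcd hc hd⟩⟩
  have h3 : 3 ∣ k - 1 := by
    rw [hk, ← Finset.card_erase_of_mem (hmemP P Q).1, ← Set.ncard_coe_finset]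
    refine prime_dvd_ncard P.2 _ (fun σ c hc => ?_) (fun c hc => exists_moves ?_)
    swap
    · exact (Finset.mem_erase.1 hc).1
    obtain ⟨hcP, hc⟩ := Finset.mem_erase.1 hc
    refine Finset.mem_erase.2 ⟨fun h => hcP (smul_left_cancel (σ : S)
      ((show (σ : S) • c = P from h).trans (smul_self_eq σ).symm)), ?_⟩
    have hn : (stabilizer (P : Subgroup S) c).Normal := by
      apply normal_of_index_eq_minFac_card
      obtain ⟨n, hn⟩ := P.2.exists_card_eq
      rw [index_stabilizer, (orbit_three h22 hcP).1, hn, Nat.pow_minFac, Nat.Prime.minFac_eq]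
      · norm_num
      · rintro rfl
        have := (orbit_three h22 hcP).2
        rw [hn] at this
        omega
    have hD : I P c = I P Q := hinf (Ne.symm hQ) (Ne.symm hcP) (hmemP P Q).1 hc
    simp only [pts, Finset.mem_filter, Finset.mem_univ, true_and]
    rw [← hD]
    intro d hd
    refine mem_of_smul_eq hd.1 ?_
    have hdc : (⟨d, hd.1⟩ : (P : Subgroup S)) ∈ stabilizer (P : Subgroup S) c :=
      smul_self_eq (P := c) ⟨d, hd.2⟩
    have := hn.conj_mem _ hdc σ⁻¹
    rw [inv_inv, mem_stabilizer_iff, mul_smul, mul_smul] at this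
    exact (inv_smul_eq_iff (g := σ)).1 this
  have hk22 : k ≤ 22 := hX ▸ Finset.card_le_univ _
  have hk2 : 2 ≤ k := Finset.one_lt_card.2 ⟨P, (hmemP P Q).1, Q, (hmemP P Q).2, Ne.symm hQ⟩
  have hk' : k = 22 := by
    clear_value k
    interval_cases k <;> first | rfl | (revert h21 h462 h3; decide)
  have huniv : ∀ c, c ∈ pts (I P Q) := fun c => by
    rw [Finset.eq_univ_of_card _ (hk.symm.trans (hk'.trans hX.symm))]; exact Finset.mem_univ c
  have hnormal : (I P Q).Normal := by
    refine ⟨fun d hd g => ?_⟩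
    have h1 : g * d * g⁻¹ ∈ MulAut.conj g • I P Q := smul_mem_pointwise_smul d _ _ hd
    rw [hsmul] at h1
    rwa [hinf (Ne.symm hQ) (fun e => hQ (smul_left_cancel g e).symm) (huniv _) (huniv _)] at h1
  rcases hnormal.eq_bot_or_eq_top with h | h
  · have := (orbit_three h22 hQ).2
    rw [show (P : Subgroup S) ⊓ Q = ⊥ from h, card_bot, one_mul] at this
    exact this.symm
  · exfalso
    have hP : (P : Subgroup S) = ⊤ := top_le_iff.1 (h ▸ inf_le_left)
    exact hQ (Sylow.ext (Q.is_maximal' P.2 (hP ▸ le_top)).symm)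

/-- The centralizer of a subgroup of order 11. -/
theorem normalizer_eleven (h22 : Nat.card (Sylow 3 S) = 22) (c : ℕ)
    (hS : Nat.card S = 132 * c) (h121 : ¬ 11 ∣ c) :
    c % 11 = 2 ∨ c % 11 = 5 ∨ c % 11 = 10 := by
  classical
  haveI : Fact (Nat.Prime 11) := ⟨by norm_num⟩
  haveI : Fact (Nat.Prime 2) := ⟨Nat.prime_two⟩
  haveI : Fact (Nat.Prime 3) := ⟨by norm_num⟩
  have := Fintype.ofFinite (Sylow 3 S)
  obtain ⟨x, hx, hfix⟩ := exists_eleven h22
  set A := zpowers x with hA
  have hA11 : Nat.card A = 11 := by rw [hA, Nat.card_zpowers, hx]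
  have horb : ∀ a : Sylow 3 S, (orbit A a).ncard = 11 := by
    intro a
    have hd : (orbit A a).ncard ∣ 11 := by
      rw [← index_stabilizer, ← hA11]; exact index_dvd_card _
    rcases (Nat.dvd_prime (by norm_num)).1 hd with h | h
    · exfalso
      obtain ⟨b, hb⟩ := Set.ncard_eq_one.1 h
      have h1 : x • a ∈ orbit A a := ⟨⟨x, mem_zpowers x⟩, rfl⟩
      have h2 : a ∈ orbit A a := mem_orbit_self _
      rw [hb, Set.mem_singleton_iff] at h1 h2
      exact hfix a (h1.trans h2.symm)
    · exact h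
  set C := centralizer (A : Set S) with hC
  have hsemi : ∀ h ∈ C, ∀ a : Sylow 3 S, h • a = a → h = 1 := by
    intro h hh a ha
    have hcomm : ∀ g : A, h * g = g * h := fun g => (mem_centralizer_iff.1 hh g g.2).symm
    have hfixA : ∀ b ∈ orbit A a, h • b = b := by
      rintro _ ⟨g, rfl⟩
      show h • (g : S) • a = (g : S) • a
      rw [← mul_smul, hcomm, mul_smul, ha]
    have h11 : h ^ 11 = 1 := by
      refine faithful22 h22 fun b => ?_
      by_cases hb : b ∈ orbit A a
      · exact pow_mem (show h ∈ stabilizer S b from hfixA b hb) 11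
      have hdisj : Disjoint (orbit A a) (orbit A b) := by
        rw [Set.disjoint_left]
        intro z hz1 hz2
        rw [← orbit_eq_iff] at hz1 hz2
        exact hb (by rw [← hz1, hz2]; exact mem_orbit_self b)
      have huniv : orbit A a ∪ orbit A b = Set.univ := by
        refine Set.eq_of_subset_of_ncard_le (Set.subset_univ _) ?_
        rw [Set.ncard_univ, h22, Set.ncard_union_eq hdisj, horb, horb]
      rcases (huniv ▸ Set.mem_univ (h • b) : h • b ∈ orbit A a ∪ orbit A b) with h1 | h1
      · exfalso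
        exact hb (smul_left_cancel h ((hfixA _ h1).symm ▸ rfl : h • b = h • (h • b)) ▸ h1)
      · obtain ⟨g, hg⟩ := h1
        change (g : S) • b = h • b at hg
        have hpow : ∀ n : ℕ, h ^ n • b = (g : S) ^ n • b := by
          intro n
          induction n with
          | zero => simp
          | succ n ih =>
            rw [pow_succ, mul_smul, ← hg, ← mul_smul,
              ((show Commute h (g : S) from hcomm g).pow_left n).eq, mul_smul, ih, ← mul_smul,
              ← pow_succ']
        have hg11 : (g : S) ^ 11 = 1 := by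
          rw [← hA11, ← SubmonoidClass.coe_pow, pow_card_eq_one', OneMemClass.coe_one]
        rw [hpow, hg11, one_smul]
    rcases (Nat.dvd_prime (by norm_num)).1 (orderOf_dvd_of_pow_eq_one h11) with h1 | h1
    · exact orderOf_eq_one_iff.1 h1
    · exfalso
      refine not_eleven_dvd h22 a ?_
      rw [← h1, ← orderOf_mk h (show h ∈ stabilizer S a from ha)]
      exact orderOf_dvd_natCard _
  have horbC : ∀ a : Sylow 3 S, Nat.card (orbit C a) = Nat.card C := by
    intro a
    have : stabilizer C a = ⊥ := (eq_bot_iff_forall _).2 fun g hg =>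
      Subtype.ext (hsemi g g.2 a hg)
    rw [Nat.card_coe_set_eq, ← index_stabilizer, this, index_bot]
  have hC22 : Nat.card C ∣ 22 := by
    have := dvd_card_of_forall _ horbC
    rw [h22] at this
    exact ⟨_, this.trans (mul_comm _ _)⟩
  have hAC : A ≤ C := by
    rw [hC, hA, H36.centralizer_zpowers]
    exact zpowers_le.2 (mem_centralizer_singleton_iff.2 rfl)
  have hC11 : Nat.card C = 11 := by
    obtain ⟨e, he⟩ : 11 ∣ Nat.card C := hA11 ▸ card_dvd_of_le hAC
    have : e = 1 ∨ e = 2 := by
      have := Nat.le_of_dvd (by norm_num) hC22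
      have := Nat.card_pos (α := C)
      omega
    rcases this with rfl | rfl
    · omega
    exfalso
    obtain ⟨⟨h, hh⟩, hho⟩ := exists_prime_orderOf_dvd_card' (G := C) 2 (by omega)
    rw [← orderOf_coe] at hho
    change orderOf h = 2 at hho
    have hne : h ≠ 1 := fun e => by rw [e, orderOf_one] at hho; omega
    refine H78.false_of_involution (G := S) ?_ (MulAction.toPermHom S (Sylow 3 S)) h ?_ 5 ?_
    · have : 0 < c := by
        by_contra h0
        exact absurd hS (by rw [show c = 0 by omega]; exact Nat.card_pos.ne')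
      omega
    · rw [orderOf_injective _ ?_, hho]
      intro u v huv
      exact inv_mul_eq_one.1 (faithful22 h22 fun R => by
        rw [mul_smul, show u⁻¹ • v • R = R from inv_smul_eq_iff.2
          (congrFun (congrArg DFunLike.coe huv) R).symm])
    · have hs : (MulAction.toPermHom S (Sylow 3 S) h).support = Finset.univ := by
        ext R
        simp only [Equiv.Perm.mem_support, Finset.mem_univ, iff_true]
        exact fun hR => hne (hsemi h hh R hR)
      rw [hs, Finset.card_univ, ← Nat.card_eq_fintype_card, h22]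
  obtain ⟨Q, hQ⟩ := (IsPGroup.of_card (n := 1) (by rw [hA11, pow_one]) : IsPGroup 11 A).exists_le_sylow
  have hQA : (Q : Subgroup S) = A := by
    refine (eq_of_le_of_card_ge hQ ?_).symm
    obtain ⟨n, hn⟩ := Q.2.exists_card_eq
    have hd := card_subgroup_dvd_card (Q : Subgroup S)
    rw [hn, hS] at hd
    rw [hn, hA11]
    rcases n with _ | _ | n
    · norm_num
    · norm_num
    · exfalso
      have h2 := (pow_dvd_pow 11 (show 2 ≤ n + 1 + 1 by omega)).trans hd
      exact h121 (by omega)
  set j := C.relIndex (normalizer (A : Set S)) with hj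
  have hN : Nat.card (normalizer (A : Set S)) = 11 * j := by
    rw [H36.card_normalizer_eq_mul, ← hC, hC11]
  have hj10 : j ∣ 10 := H36.relIndex_centralizer_dvd_of_prime (p := 11) (by norm_num) A hA11
  have hj1 : j ≠ 1 := by
    intro h1
    refine H78.false_of_normalizer_le_centralizer Q (by omega) ?_ ?_
    · rw [hQA, hA11]; omega
    · show normalizer ((Q : Subgroup S) : Set S) ≤ centralizer ((Q : Subgroup S) : Set S)
      rw [hQA]
      exact relIndex_eq_one.1 h1
  have hn := card_sylow_modEq_one 11 S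
  have heq := card_mul_index (normalizer (A : Set S))
  rw [hN, show (normalizer (A : Set S)).index = Nat.card (Sylow 11 S) by
    rw [Q.card_eq_index_normalizer, ← hQA]; rfl, hS] at heq
  rw [Nat.ModEq] at hn
  have := Nat.le_of_dvd (by norm_num) hj10
  interval_cases j <;> omega

theorem false_of_card_sylow (h22 : Nat.card (Sylow 3 S) = 22) : False := by
  classical
  haveI : Fact (Nat.Prime 3) := ⟨by norm_num⟩
  obtain ⟨P⟩ : Nonempty (Sylow 3 S) := inferInstance
  have hP3 := card_sylow_three h22 P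
  set H := stabilizer S P with hH
  set C := centralizer ((P : Subgroup S) : Set S) with hC
  have hHN : H = normalizer ((P : Subgroup S) : Set S) := Sylow.stabilizer_eq_normalizer P
  have hS := card_eq22 h22 P
  rw [← hH] at hS
  have hPC : (P : Subgroup S) ≤ C := by
    haveI : IsCyclic (P : Subgroup S) := isCyclic_of_prime_card hP3
    obtain ⟨g, hg⟩ := IsCyclic.exists_generator (α := (P : Subgroup S))
    intro a ha
    rw [hC, mem_centralizer_iff]
    intro b hb
    obtain ⟨i, hi⟩ := mem_zpowers_iff.1 (hg ⟨a, ha⟩)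
    obtain ⟨j, hj⟩ := mem_zpowers_iff.1 (hg ⟨b, hb⟩)
    have := (((Commute.refl g).zpow_zpow j i).eq)
    rw [hi, hj] at this
    exact congrArg Subtype.val this
  have hCP : ∀ g ∈ C, g • P = P := fun g hg =>
    Sylow.smul_eq_iff_mem_normalizer.mpr (centralizer_le_normalizer _ hg)
  have hHC : Nat.card H = 2 * Nat.card C := by
    have hd := H36.relIndex_centralizer_dvd_of_prime (p := 3) (by norm_num) (P : Subgroup S) hP3
    have h := H36.card_normalizer_eq_mul (P : Subgroup S)
    rw [← hHN, ← hC] at h hd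
    rcases (Nat.dvd_prime Nat.prime_two).1 hd with h1 | h1
    · exfalso
      refine H78.false_of_normalizer_le_centralizer P (hP3 ▸ card_subgroup_dvd_card _) ?_ ?_
      · rw [hP3, hS]; omega
      · rw [hH] at h1
        exact (Sylow.stabilizer_eq_normalizer P).symm.trans_le (relIndex_eq_one.1 h1)
    · rw [h, h1, mul_comm]
  -- action of the centralizer on the orbits
  let Y : SubMulAction (P : Subgroup S) (Sylow 3 S) :=
    ⟨{P}ᶜ, fun σ {c} hc h => hc (smul_left_cancel (σ : S)
      ((show (σ : S) • c = P from h).trans (smul_self_eq σ).symm))⟩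
  have hY21 : Nat.card Y = 21 := by
    show Nat.card ↥({P}ᶜ : Set (Sylow 3 S)) = 21
    rw [Nat.card_coe_set_eq, Set.ncard_compl, h22, Set.ncard_singleton]
  have hΩ : Nat.card (orbitRel.Quotient (P : Subgroup S) Y) = 7 := by
    have := dvd_card_of_forall (K := (P : Subgroup S)) (Y := Y) 3 fun c => by
      rw [Nat.card_coe_set_eq, ← Set.ncard_image_of_injective _ Subtype.val_injective,
        SubMulAction.val_image_orbit]
      exact (orbit_three h22 c.2).1
    omega
  have hcomm : ∀ g ∈ C, ∀ σ : (P : Subgroup S), g * σ = σ * g := fun g hg σ =>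
    (mem_centralizer_iff.mp hg σ σ.2).symm
  let f : C → Y → Y := fun g c => ⟨(g : S) • (c : Sylow 3 S), fun h =>
    c.2 (smul_left_cancel (g : S) ((show (g : S) • (c : Sylow 3 S) = P from h).trans
      (hCP g g.2).symm))⟩
  have hf : ∀ g : C, ∀ a b : Y, (orbitRel (P : Subgroup S) Y) a b →
      (orbitRel (P : Subgroup S) Y) (f g a) (f g b) := by
    rintro g a b ⟨σ, rfl⟩
    refine ⟨σ, Subtype.ext ?_⟩
    show (σ : S) • (g : S) • (b : Sylow 3 S) = (g : S) • (σ : S) • (b : Sylow 3 S)
    rw [← mul_smul, ← hcomm g g.2, mul_smul]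
  let act : MulAction C (orbitRel.Quotient (P : Subgroup S) Y) :=
    { smul := fun g => Quotient.map (f g) (hf g)
      one_smul := fun q => Quotient.inductionOn q fun a =>
        congrArg (Quotient.mk _) (Subtype.ext (one_smul S (a : Sylow 3 S)))
      mul_smul := fun g h q => Quotient.inductionOn q fun a =>
        congrArg (Quotient.mk _) (Subtype.ext (mul_smul (g : S) (h : S) (a : Sylow 3 S))) }
  let φ : C →* Equiv.Perm (orbitRel.Quotient (P : Subgroup S) Y) :=
    MulAction.toPermHom C (orbitRel.Quotient (P : Subgroup S) Y)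
  have hK3 : ∀ g : C, g ∈ φ.ker → (g : S) ^ 3 = 1 := by
    intro g hg
    refine faithful22 h22 fun b => ?_
    by_cases hb : b = P
    · exact hb ▸ hCP _ (pow_mem g.2 3)
    have h1 : (Quotient.mk'' (f g ⟨b, hb⟩) : orbitRel.Quotient (P : Subgroup S) Y) =
        Quotient.mk'' ⟨b, hb⟩ :=
      Equiv.Perm.ext_iff.1 (MonoidHom.mem_ker.1 hg)
        (Quotient.mk'' ⟨b, hb⟩ : orbitRel.Quotient (P : Subgroup S) Y)
    obtain ⟨σ, hσ⟩ := Quotient.eq''.1 h1
    have hσ' : (σ : S) • b = (g : S) • b := congrArg Subtype.val hσ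
    have hpow : ∀ n : ℕ, (g : S) ^ n • b = (σ : S) ^ n • b := by
      intro n
      induction n with
      | zero => simp
      | succ n ih =>
        rw [pow_succ, mul_smul, ← hσ', ← mul_smul,
          ((show Commute (g : S) (σ : S) from hcomm g g.2 σ).pow_left n).eq, mul_smul, ih,
          ← mul_smul, ← pow_succ']
    have h3 : (σ : S) ^ 3 = 1 := by
      have := pow_card_eq_one' (x := σ)
      rw [hP3] at this
      exact congrArg Subtype.val this
    rw [hpow, h3, one_smul]
  have hker : φ.ker.map C.subtype = (P : Subgroup S) := by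
    refine P.is_maximal' ?_ ?_
    · rintro ⟨_, g, hg, rfl⟩
      exact ⟨1, Subtype.ext (by rw [pow_one]; exact hK3 g hg)⟩
    · intro a ha
      refine ⟨⟨a, hPC ha⟩, MonoidHom.mem_ker.2 (Equiv.Perm.ext fun q => ?_), rfl⟩
      induction q using Quotient.inductionOn' with
      | h c => exact Quotient.sound' ⟨⟨a, ha⟩, Subtype.ext rfl⟩
  set c := Nat.card φ.range with hc
  have hCc : Nat.card C = 3 * c := by
    rw [← card_mul_index φ.ker, index_ker, ← hc,
      Nat.card_congr (equivMapOfInjective _ _ C.subtype_injective).toEquiv, hker, hP3]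
  have hS' : Nat.card S = 132 * c := by rw [hS, hHC, hCc]; ring
  have : Fintype (orbitRel.Quotient (P : Subgroup S) Y) := Fintype.ofFinite _
  have hα : Fintype.card (orbitRel.Quotient (P : Subgroup S) Y) = 7 := by
    rw [← Nat.card_eq_fintype_card, hΩ]
  have h5040 : c ∣ 5040 := by
    have := card_subgroup_dvd_card φ.range
    rw [Nat.card_eq_fintype_card (α := Equiv.Perm _), Fintype.card_perm, hα] at this
    exact this
  have h3c : ¬ 3 ∣ c := by
    intro h
    have h1 := P.not_dvd_index
    have h2 := card_mul_index (P : Subgroup S)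
    rw [hP3, hS'] at h2
    omega
  have h7c : 7 ∣ c := by
    have : Nontrivial (Sylow 3 S) := Finite.one_lt_card_iff_nontrivial.mp (by omega)
    obtain ⟨Q, hQ⟩ := exists_ne P
    have horb : orbit H Q = {P}ᶜ := by
      ext R
      constructor
      · rintro ⟨g, rfl⟩ h
        exact hQ (smul_left_cancel (g : S) ((show (g : S) • Q = P from h).trans g.2.symm))
      · intro hR
        obtain ⟨g, hgP, hg⟩ := transitive21 h22 hQ hR
        exact ⟨⟨g, hgP⟩, hg⟩
    have h21 : 21 ∣ Nat.card H := by
      have := index_dvd_card (stabilizer H Q)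
      rwa [index_stabilizer, horb, Set.ncard_compl, h22, Set.ncard_singleton] at this
    omega
  have h11 := normalizer_eleven h22 c hS' (fun h => by
    have : 11 ∣ 5040 := h.trans h5040
    omega)
  refine perm7_false hα φ.range ?_
  rw [← hc]
  have h560 : c ∣ 560 := by
    have hco : Nat.Coprime c 9 := by
      have := (Nat.prime_three.coprime_iff_not_dvd.2 h3c).symm
      simpa using this.pow_right 2
    exact hco.dvd_of_dvd_mul_left (show c ∣ 9 * 560 by norm_num; exact h5040)
  have hmem : c ∈ (560 : ℕ).divisors := Nat.mem_divisors.2 ⟨h560, by norm_num⟩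
  have key : ∀ d ∈ (560 : ℕ).divisors, 7 ∣ d → (d % 11 = 2 ∨ d % 11 = 5 ∨ d % 11 = 10) →
      d = 35 ∨ d = 112 ∨ d = 280 ∨ d = 560 := by decide +kernel
  exact key c hmem h7c h11

end simple

end Cfsg.Agent.H79.Deg22
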