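import Mathlib
import Cfsg.Agent.H79.FixedHalf
import Cfsg.Agent.PGroups.Basic

/-!
# Lifting two conjugate generators through a module

If `A = ⟨x, axa⁻¹⟩` acts irreducibly on an elementary abelian group `W` so that a normal `r`-subgroup
of `A` moves it, some `⟨x, (av)x(av)⁻¹⟩` is all of `W ⋊ A`: the complements containing `x` are too
few, as `x` fixes less than half of `W`.
-/

set_option autoImplicit false
set_option maxHeartbeats 1600000
set_option linter.style.haveILetI false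

namespace Cfsg.Agent.H79.TwoGenerated

open Cfsg.Agent.H79
open scoped commutatorElement

universe u

variable {H : Type u} [Group H]

/-- Elements of coprime order: if `g w g⁻¹ w⁻¹` commutes with `g` then it is trivial. -/
theorem eq_one_of_comm {g w : H} {n m : ℕ} (hg : g ^ n = 1)
    (hu : (g * w * g⁻¹ * w⁻¹) ^ m = 1) (hcop : n.Coprime m)
    (hcomm : g * (g * w * g⁻¹ * w⁻¹) = g * w * g⁻¹ * w⁻¹ * g) : g * w * g⁻¹ * w⁻¹ = 1 := by
  set u := g * w * g⁻¹ * w⁻¹ with hu'
  have hiter : ∀ i : ℕ, g ^ i * w * (g ^ i)⁻¹ = u ^ i * w := by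
    intro i
    induction i with
    | zero => simp
    | succ i ih =>
      have hc : g * u ^ i = u ^ i * g := (show Commute g u from hcomm).pow_right i
      calc g ^ (i + 1) * w * (g ^ (i + 1))⁻¹ = g * (g ^ i * w * (g ^ i)⁻¹) * g⁻¹ := by
            rw [pow_succ']; group
        _ = g * u ^ i * w * g⁻¹ := by rw [ih]; group
        _ = u ^ i * g * w * g⁻¹ := by rw [hc]
        _ = u ^ (i + 1) * w := by rw [pow_succ, hu']; group
  have h := hiter n
  rw [hg, inv_one, one_mul, mul_one, right_eq_mul] at h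
  have h2 := Nat.dvd_gcd (orderOf_dvd_of_pow_eq_one h) (orderOf_dvd_of_pow_eq_one hu)
  rw [hcop.gcd_eq_one, Nat.dvd_one, orderOf_eq_one_iff] at h2
  exact h2

/-- The fixed points of `x` on a module on which its conjugates act irreducibly and not trivially. -/
theorem sq_card_fixed_lt [Finite H] [Group.IsSolvable H] {p q : ℕ} [Fact p.Prime] [Fact q.Prime]
    (hp5 : 5 ≤ p) {A W : Subgroup H} [W.Normal] (hWc : ∀ v ∈ W, ∀ w ∈ W, v * w = w * v)
    (hWq : ∀ w ∈ W, w ^ q = 1)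
    (hirr : ∀ U : Subgroup H, U ≤ W → (∀ a ∈ A, ∀ u ∈ U, a * u * a⁻¹ ∈ U) → U = ⊥ ∨ U = W)
    {x a : H} (hx : orderOf x = p) (ha : a ∈ A) (hA : A = Subgroup.closure {x, a * x * a⁻¹})
    (hmove : ∃ g ∈ A, ∃ w ∈ W, g * w ≠ w * g) :
    Nat.card {w : W // x * (w : H) = w * x} * Nat.card {w : W // x * (w : H) = w * x} <
      Nat.card W := by
  classical
  letI : CommGroup W :=
    { (inferInstance : Group W) with mul_comm := fun v w => Subtype.ext (hWc v v.2 w w.2) }
  haveI : Nontrivial W := by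
    obtain ⟨g, _, w, hw, hne⟩ := hmove
    refine ⟨⟨w, hw⟩, 1, fun h => hne ?_⟩
    rw [show w = 1 from congrArg Subtype.val h, mul_one, one_mul]
  have hz : ∀ v : Additive W, q • v = 0 := fun v =>
    Additive.toMul.injective (Subtype.ext (hWq _ (Additive.toMul v).2))
  letI : Module (ZMod q) (Additive W) := by exact AddCommGroup.zmodModule hz
  have hxA : x ∈ A := hA ▸ Subgroup.subset_closure (Or.inl rfl)
  let act : A →* MulAut W := (MulAut.conjNormal (H := W)).comp A.subtype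
  have hact : ∀ (g : A) (w : W), ((act g w : W) : H) = g * w * (g : H)⁻¹ := fun g w =>
    MulAut.conjNormal_apply (g : H) w
  let σ₀ : act.range → Module.End (ZMod q) (Additive W) := fun φ =>
    (MonoidHom.toAdditive (φ : MulAut W).toMonoidHom).toZModLinearMap q
  have h1 : σ₀ 1 = 1 := by
    refine LinearMap.ext fun v => ?_
    rw [Module.End.one_apply]
    rfl
  have h2 : ∀ φ φ', σ₀ (φ * φ') = σ₀ φ * σ₀ φ' := by
    intro φ φ'
    refine LinearMap.ext fun v => ?_
    rw [Module.End.mul_apply]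
    rfl
  let σ : act.range →* Module.End (ZMod q) (Additive W) :=
    { toFun := σ₀
      map_one' := h1
      map_mul' := h2 }
  have hσinj : Function.Injective σ := fun φ φ' h =>
    Subtype.ext (MulEquiv.ext fun w =>
      congrArg (fun T : Module.End (ZMod q) (Additive W) =>
        Additive.toMul (T (Additive.ofMul w))) h)
  have hσirr : FixedHalf.Irr σ := by
    intro S hS
    let S' : Subgroup W :=
      { carrier := {w | Additive.ofMul w ∈ S}
        one_mem' := S.zero_mem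
        mul_mem' := fun ha hb => S.add_mem ha hb
        inv_mem' := fun ha => S.neg_mem ha }
    rcases hirr (S'.map W.subtype) (Subgroup.map_subtype_le _) (by
      rintro g hg _ ⟨w, hw, rfl⟩
      exact ⟨act ⟨g, hg⟩ w, hS ⟨_, ⟨g, hg⟩, rfl⟩ _ hw, hact _ _⟩) with h | h
    · left
      rw [Submodule.eq_bot_iff]
      intro v hv
      have h3 : ((Additive.toMul v : W) : H) ∈ S'.map W.subtype := ⟨_, hv, rfl⟩
      rw [h, Subgroup.mem_bot] at h3
      exact Additive.toMul.injective (Subtype.ext h3)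
    · right
      rw [eq_top_iff]
      intro v _
      obtain ⟨w, hw, hwv⟩ : ((Additive.toMul v : W) : H) ∈ S'.map W.subtype := by
        rw [h]; exact (Additive.toMul v).2
      have : v = Additive.ofMul w := congrArg Additive.ofMul (Subtype.ext hwv.symm)
      exact this ▸ hw
  have hgenA : Subgroup.normalClosure ({(⟨x, hxA⟩ : A)} : Set A) = ⊤ := by
    rw [eq_top_iff]
    intro g _
    have hle : A ≤ (Subgroup.normalClosure ({(⟨x, hxA⟩ : A)} : Set A)).map A.subtype := by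
      conv_lhs => rw [hA]
      rw [Subgroup.closure_le]
      intro t ht
      rcases ht with rfl | rfl
      · exact ⟨_, Subgroup.subset_normalClosure (Set.mem_singleton _), rfl⟩
      · exact ⟨⟨a, ha⟩ * ⟨x, hxA⟩ * ⟨a, ha⟩⁻¹, (Subgroup.normalClosure_normal.conj_mem _
          (Subgroup.subset_normalClosure (Set.mem_singleton _)) _), rfl⟩
    obtain ⟨g', hg', he⟩ := hle g.2
    rwa [show g = g' from Subtype.ext he.symm]
  have hgen : Subgroup.normalClosure ({act.rangeRestrict ⟨x, hxA⟩} : Set act.range) = ⊤ := by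
    rw [← Set.image_singleton, ← Subgroup.map_normalClosure _ _ act.rangeRestrict_surjective,
      hgenA, Subgroup.map_top_of_surjective _ act.rangeRestrict_surjective]
  have hne1 : act ⟨x, hxA⟩ ≠ 1 := by
    intro h
    have hker : act.ker = ⊤ := by
      rw [eq_top_iff, ← hgenA]
      exact Subgroup.normalClosure_le_normal (Set.singleton_subset_iff.mpr h)
    obtain ⟨g, hg, w, hw, hne⟩ := hmove
    refine hne (mul_inv_eq_iff_eq_mul.mp ?_)
    rw [← hact ⟨g, hg⟩ ⟨w, hw⟩, MonoidHom.mem_ker.mp (hker ▸ Subgroup.mem_top _ : _ ∈ act.ker)]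
    rfl
  have hord : orderOf (act.rangeRestrict ⟨x, hxA⟩) = p := by
    refine orderOf_eq_prime ?_ fun h => hne1 (congrArg Subtype.val h)
    rw [← map_pow, show (⟨x, hxA⟩ : A) ^ p = 1 from Subtype.ext (hx ▸ pow_orderOf_eq_one x),
      map_one]
  haveI : Group.IsSolvable act.range :=
    Group.isSolvable_of_surjective act.rangeRestrict_surjective
  have hlt := FixedHalf.two_mul_lt hσirr hσinj hp5 hord hgen
  have e1 : Nat.card (FixedHalf.fixedSub σ (act.rangeRestrict ⟨x, hxA⟩)) =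
      Nat.card {w : W // x * (w : H) = w * x} :=
    Nat.card_congr (Equiv.subtypeEquiv
      (p := fun v => v ∈ FixedHalf.fixedSub σ (act.rangeRestrict ⟨x, hxA⟩))
      Additive.toMul fun v => by
        rw [FixedHalf.mem_fixedSub, ← mul_inv_eq_iff_eq_mul, ← hact ⟨x, hxA⟩]
        exact ⟨fun h => congrArg (fun u => ((Additive.toMul u : W) : H)) h,
          fun h => congrArg Additive.ofMul (Subtype.ext h :)⟩)
  have e2 : Nat.card W = q ^ Module.finrank (ZMod q) (Additive W) := by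
    rw [← Nat.card_congr (Additive.ofMul (α := W)).symm,
      Module.natCard_eq_pow_finrank (K := ZMod q), Nat.card_zmod]
  rw [← e1, e2, Module.natCard_eq_pow_finrank (K := ZMod q), Nat.card_zmod, ← pow_add]
  exact Nat.pow_lt_pow_right (Fact.out : q.Prime).one_lt (by omega)

/-- Some pair of conjugates of `x` generates everything. -/
theorem exists_generating [Finite H] [Group.IsSolvable H] {p q r : ℕ} [Fact p.Prime]
    [Fact q.Prime] [Fact r.Prime] (hp5 : 5 ≤ p) (hrq : r ≠ q) {A W R : Subgroup H} [W.Normal]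
    (hWc : ∀ v ∈ W, ∀ w ∈ W, v * w = w * v) (hWq : ∀ w ∈ W, w ^ q = 1) (hdisj : A ⊓ W = ⊥)
    (hsup : A ⊔ W = ⊤) (hRA : R ≤ A) (hRn : A ≤ Subgroup.normalizer (R : Set H))
    (hR : IsPGroup r R)
    (hirr : ∀ U : Subgroup H, U ≤ W → (∀ a ∈ A, ∀ u ∈ U, a * u * a⁻¹ ∈ U) → U = ⊥ ∨ U = W)
    (hne : ∃ g ∈ R, ∃ w ∈ W, g * w ≠ w * g)
    {x a : H} (hx : orderOf x = p) (ha : a ∈ A) (hA : A = Subgroup.closure {x, a * x * a⁻¹}) :
    ∃ v ∈ W, Subgroup.closure {x, a * v * x * (a * v)⁻¹} = ⊤ := by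
  classical
  by_contra hcon
  push Not at hcon
  have hxA : x ∈ A := hA ▸ Subgroup.subset_closure (Or.inl rfl)
  have hW : W.Normal := inferInstance
  have hdecomp : ∀ h : H, ∃ b ∈ A, ∃ w ∈ W, h = b * w := fun h => by
    obtain ⟨b, hb, w, hw, e⟩ := Subgroup.mem_sup_of_normal_right.mp
      (show h ∈ A ⊔ W from hsup ▸ Subgroup.mem_top h)
    exact ⟨b, hb, w, hw, e.symm⟩
  -- R fixes nothing
  have hC : ∀ w ∈ W, (∀ g ∈ R, g * w = w * g) → w = 1 := by
    intro w hw hwc
    rcases hirr (W ⊓ Subgroup.centralizer (R : Set H)) inf_le_left (fun b hb u hu =>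
      ⟨hW.conj_mem _ hu.1 b, Subgroup.mem_centralizer_iff.mpr fun g hg => by
        have h1 : b⁻¹ * g * b ∈ R := by
          have := (Subgroup.mem_normalizer_iff.mp (inv_mem (hRn hb)) g).mp hg
          rwa [inv_inv] at this
        have h2 := Subgroup.mem_centralizer_iff.mp hu.2 _ h1
        calc g * (b * u * b⁻¹) = b * (b⁻¹ * g * b * u) * b⁻¹ := by group
          _ = b * (u * (b⁻¹ * g * b)) * b⁻¹ := by rw [h2]
          _ = b * u * b⁻¹ * g := by group⟩) with h | h
    · have : w ∈ W ⊓ Subgroup.centralizer (R : Set H) :=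
        ⟨hw, Subgroup.mem_centralizer_iff.mpr fun g hg => hwc g hg⟩
      rwa [h, Subgroup.mem_bot] at this
    · exfalso
      obtain ⟨g, hg, v, hv, hgv⟩ := hne
      rw [← h] at hv
      exact hgv (Subgroup.mem_centralizer_iff.mp hv.2 g hg)
  have hNA : ∀ h ∈ Subgroup.normalizer (R : Set H), h ∈ A := by
    intro h hh
    obtain ⟨b, hb, w, hw, rfl⟩ := hdecomp h
    have hwn : w ∈ Subgroup.normalizer (R : Set H) := by
      have := mul_mem (inv_mem (hRn hb)) hh
      rwa [inv_mul_cancel_left] at this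
    rw [hC w hw fun g hg => ?_, mul_one]
    · exact hb
    · have h1 : w * g * w⁻¹ ∈ R := (Subgroup.mem_normalizer_iff.mp hwn g).mp hg
      have h2 : g⁻¹ * (w * g * w⁻¹) ∈ A ⊓ W := by
        refine Subgroup.mem_inf.mpr ⟨hRA (R.mul_mem (R.inv_mem hg) h1), ?_⟩
        have := W.mul_mem (hW.conj_mem w hw g⁻¹) (inv_mem hw)
        rwa [inv_inv, show g⁻¹ * w * g * w⁻¹ = g⁻¹ * (w * g * w⁻¹) by group] at this
      rw [hdisj, Subgroup.mem_bot, inv_mul_eq_one, eq_mul_inv_iff_mul_eq] at h2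
      exact h2
  -- the lifts are complements
  let Y : H → Subgroup H := fun v => Subgroup.closure {x, a * v * x * (a * v)⁻¹}
  have hxY : ∀ v, x ∈ Y v := fun v => Subgroup.subset_closure (Or.inl rfl)
  have hyY : ∀ v, a * v * x * (a * v)⁻¹ ∈ Y v := fun v => Subgroup.subset_closure (Or.inr rfl)
  have hYW : ∀ v ∈ W, Y v ⊔ W = ⊤ := by
    intro v hv
    rw [eq_top_iff, ← hsup]
    refine sup_le ?_ le_sup_right
    conv_lhs => rw [hA]
    rw [Subgroup.closure_le]
    intro t ht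
    rcases ht with rfl | rfl
    · exact Subgroup.mem_sup_left (hxY v)
    · have h1 : (a * v * a⁻¹)⁻¹ ∈ Y v ⊔ W := Subgroup.mem_sup_right (inv_mem (hW.conj_mem v hv a))
      have h2 : a * v * a⁻¹ ∈ Y v ⊔ W := Subgroup.mem_sup_right (hW.conj_mem v hv a)
      have h3 := mul_mem (mul_mem h1 (Subgroup.mem_sup_left (hyY v))) h2
      rwa [show (a * v * a⁻¹)⁻¹ * (a * v * x * (a * v)⁻¹) * (a * v * a⁻¹) = a * x * a⁻¹ by group]
        at h3
  have hYd : ∀ v ∈ W, Y v ⊓ W = ⊥ := by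
    intro v hv
    refine (hirr _ inf_le_right fun b hb u hu => ?_).resolve_right fun h => hcon v hv ?_
    · obtain ⟨y, hy, w, hw, e⟩ := Subgroup.mem_sup_of_normal_right.mp
        (show b ∈ Y v ⊔ W from (hYW v hv).symm ▸ Subgroup.mem_top b)
      rw [← e, show y * w * u * (y * w)⁻¹ = y * (w * u * w⁻¹) * y⁻¹ by group,
        show w * u * w⁻¹ = u by rw [hWc w hw u hu.2, mul_inv_cancel_right]]
      exact Subgroup.mem_inf.mpr ⟨mul_mem (mul_mem hy hu.1) (inv_mem hy), hW.conj_mem u hu.2 y⟩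
    · show Y v = ⊤
      rw [← hYW v hv]
      exact (sup_eq_left.mpr (h ▸ inf_le_left)).symm
  -- they are conjugates of A by elements commuting with x
  have hconj : ∀ v ∈ W, ∃ c : {w : W // x * (w : H) = w * x},
      Y v = A.map (MulAut.conj ((c : W) : H)).toMonoidHom := by
    intro v hv
    haveI hNn : (R ⊔ W).Normal := ⟨fun n hn h => by
      obtain ⟨g, hg, w, hw, rfl⟩ := Subgroup.mem_sup_of_normal_right.mp hn
      obtain ⟨b, hb, w', hw', rfl⟩ := hdecomp h
      have h1 : w' * g * w'⁻¹ ∈ R ⊔ W := mul_mem (mul_mem (Subgroup.mem_sup_right hw')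
        (Subgroup.mem_sup_left hg)) (inv_mem (Subgroup.mem_sup_right hw'))
      obtain ⟨g', hg', w'', hw'', e⟩ := Subgroup.mem_sup_of_normal_right.mp
        (mul_mem h1 (Subgroup.mem_sup_right (hW.conj_mem w hw w')))
      rw [show b * w' * (g * w) * (b * w')⁻¹ = b * (w' * g * w'⁻¹ * (w' * w * w'⁻¹)) * b⁻¹ by group,
        ← e, show b * (g' * w'') * b⁻¹ = b * g' * b⁻¹ * (b * w'' * b⁻¹) by group]
      exact Subgroup.mul_mem_sup ((Subgroup.mem_normalizer_iff.mp (hRn hb) g').mp hg')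
        (hW.conj_mem w'' hw'' b)⟩
    set N := R ⊔ W with hN
    set RY := N ⊓ Y v with hRY
    have hRW : R ⊓ W = ⊥ := le_bot_iff.mp (hdisj ▸ inf_le_inf_right W hRA)
    have hcomp1 : Subgroup.IsComplement' (W.subgroupOf N) (R.subgroupOf N) := by
      refine Subgroup.isComplement'_of_disjoint_and_mul_eq_univ ?_ ?_
      · rw [disjoint_iff, eq_bot_iff]
        rintro ⟨g, hg⟩ ⟨h1, h2⟩
        have : g ∈ R ⊓ W := ⟨h2, h1⟩
        rw [hRW, Subgroup.mem_bot] at this
        exact Subgroup.mem_bot.mpr (Subtype.ext this)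
      · refine Set.eq_univ_of_forall fun g => ?_
        obtain ⟨w, hw, g', hg', e⟩ := Subgroup.mem_sup_of_normal_left.mp
          (show (g : H) ∈ W ⊔ R from sup_comm R W ▸ g.2)
        exact ⟨⟨w, Subgroup.mem_sup_right hw⟩, hw, ⟨g', Subgroup.mem_sup_left hg'⟩, hg',
          Subtype.ext e⟩
    have hcomp2 : Subgroup.IsComplement' (W.subgroupOf N) (RY.subgroupOf N) := by
      refine Subgroup.isComplement'_of_disjoint_and_mul_eq_univ ?_ ?_
      · rw [disjoint_iff, eq_bot_iff]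
        rintro ⟨g, hg⟩ ⟨h1, h2⟩
        have : g ∈ Y v ⊓ W := ⟨h2.2, h1⟩
        rw [hYd v hv, Subgroup.mem_bot] at this
        exact Subgroup.mem_bot.mpr (Subtype.ext this)
      · refine Set.eq_univ_of_forall fun g => ?_
        obtain ⟨w, hw, y, hy, e⟩ := Subgroup.mem_sup_of_normal_left.mp
          (show (g : H) ∈ W ⊔ Y v from (sup_comm W (Y v)).trans (hYW v hv) ▸ Subgroup.mem_top _)
        have hyN : y ∈ N := by
          have := mul_mem (inv_mem (Subgroup.mem_sup_right hw : w ∈ R ⊔ W)) g.2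
          rwa [← e, inv_mul_cancel_left] at this
        exact ⟨⟨w, Subgroup.mem_sup_right hw⟩, hw, ⟨y, hyN⟩, ⟨hyN, hy⟩, Subtype.ext e⟩
    have hWp : IsPGroup q W := fun w => ⟨1, by
      rw [pow_one]; exact Subtype.ext (hWq _ w.2)⟩
    obtain ⟨eW, heW⟩ := IsPGroup.iff_card.mp hWp
    obtain ⟨eR, heR⟩ := IsPGroup.iff_card.mp hR
    have cW : Nat.card (W.subgroupOf N) = q ^ eW :=
      (Nat.card_congr (Subgroup.subgroupOfEquivOfLe le_sup_right).toEquiv).trans heW
    have cR : Nat.card (R.subgroupOf N) = r ^ eR :=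
      (Nat.card_congr (Subgroup.subgroupOfEquivOfLe le_sup_left).toEquiv).trans heR
    have hcq : ¬ r ∣ q ^ eW := fun h => hrq
      ((Nat.prime_dvd_prime_iff_eq Fact.out Fact.out).mp
        ((Fact.out : r.Prime).dvd_of_dvd_pow h))
    have cRY : Nat.card (RY.subgroupOf N) = r ^ eR := by
      have e := hcomp1.card_mul_card.trans hcomp2.card_mul_card.symm
      rw [cR] at e
      exact (mul_left_cancel₀ (Nat.card_pos.ne') e).symm
    let S1 : Sylow r N := (IsPGroup.of_card cR).toSylow (by rw [hcomp1.index_eq_card, cW]; exact hcq)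
    let S2 : Sylow r N :=
      (IsPGroup.of_card cRY).toSylow (by rw [hcomp2.index_eq_card, cW]; exact hcq)
    obtain ⟨g, hg⟩ := MulAction.exists_smul_eq N S1 S2
    obtain ⟨gw, hgw, gr, hgr, eg⟩ := Subgroup.mem_sup_of_normal_left.mp
      (show (g : H) ∈ W ⊔ R from sup_comm R W ▸ g.2)
    -- Y normalises the conjugate of R
    have hRYeq : ∀ t : H, t ∈ RY ↔ gw⁻¹ * t * gw ∈ R := by
      intro t
      constructor
      · intro ht
        have h1 : (⟨t, ht.1⟩ : N) ∈ (S2 : Subgroup N) := ht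
        rw [← hg, Sylow.coe_subgroup_smul, Subgroup.mem_pointwise_smul_iff_inv_smul_mem] at h1
        have h2 : ((g : H))⁻¹ * t * g ∈ R := by simpa using Subgroup.mem_subgroupOf.mp h1
        have h3 := mul_mem (mul_mem hgr h2) (inv_mem hgr)
        rwa [← eg, show gr * ((gw * gr)⁻¹ * t * (gw * gr)) * gr⁻¹ = gw⁻¹ * t * gw by group] at h3
      · intro ht
        have hgN : gw ∈ N := Subgroup.mem_sup_right hgw
        have htN : t ∈ N := by
          have := mul_mem (mul_mem hgN (Subgroup.mem_sup_left ht : _ ∈ N)) (inv_mem hgN)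
          rwa [show gw * (gw⁻¹ * t * gw) * gw⁻¹ = t by group] at this
        have h1 : (⟨t, htN⟩ : N) ∈ (S2 : Subgroup N) := by
          rw [← hg, Sylow.coe_subgroup_smul, Subgroup.mem_pointwise_smul_iff_inv_smul_mem]
          refine Subgroup.mem_subgroupOf.mpr ?_
          have h3 := mul_mem (mul_mem (inv_mem hgr) ht) hgr
          rw [show gr⁻¹ * (gw⁻¹ * t * gw) * gr = ((g : H))⁻¹ * t * g by rw [← eg]; group] at h3
          simpa using h3
        exact Subgroup.mem_subgroupOf.mp h1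
    have hcv : ∀ y ∈ Y v, gw⁻¹ * y * gw ∈ A := by
      intro y hy
      refine hNA _ (Subgroup.mem_normalizer_iff.mpr fun t => ?_)
      have hnorm : ∀ s : H, s ∈ RY ↔ y * s * y⁻¹ ∈ RY := fun s => by
        refine ⟨fun hs => ⟨hNn.conj_mem s hs.1 y, (Y v).mul_mem ((Y v).mul_mem hy hs.2) ((Y v).inv_mem hy)⟩,
          fun hs => ?_⟩
        have := (⟨hNn.conj_mem _ hs.1 y⁻¹, mul_mem (mul_mem (inv_mem hy) hs.2)
          (inv_mem (inv_mem hy))⟩ : _ ∧ _)
        rwa [inv_inv, show y⁻¹ * (y * s * y⁻¹) * y = s by group] at this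
      have h1 := (hRYeq (gw * t * gw⁻¹)).symm
      rw [show gw⁻¹ * (gw * t * gw⁻¹) * gw = t by group, hnorm,
        hRYeq] at h1
      rw [h1]
      constructor <;> intro h <;>
        simpa [mul_assoc] using h
    have hcw : x * gw = gw * x := by
      have h2 : x⁻¹ * (gw⁻¹ * x * gw) ∈ A ⊓ W := by
        refine Subgroup.mem_inf.mpr ⟨mul_mem (inv_mem hxA) (hcv x (hxY v)), ?_⟩
        have := W.mul_mem (hW.conj_mem _ (inv_mem hgw) x⁻¹) hgw
        rwa [inv_inv, show x⁻¹ * gw⁻¹ * x * gw = x⁻¹ * (gw⁻¹ * x * gw) by group] at this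
      rw [hdisj, Subgroup.mem_bot, inv_mul_eq_one] at h2
      conv_rhs => rw [h2]
      group
    refine ⟨⟨⟨gw, hgw⟩, hcw⟩, le_antisymm (fun y hy => ⟨_, hcv y hy, by simp [mul_assoc]⟩) ?_⟩
    rintro _ ⟨b, hb, rfl⟩
    show gw * b * gw⁻¹ ∈ Y v
    obtain ⟨y, hy, w, hw, e⟩ := Subgroup.mem_sup_of_normal_right.mp
      (show gw * b * gw⁻¹ ∈ Y v ⊔ W from (hYW v hv).symm ▸ Subgroup.mem_top _)
    have h1 := hcv y hy
    have h2 : gw⁻¹ * w * gw ∈ A ⊓ W := by
      refine ⟨?_, ?_⟩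
      · have := mul_mem (inv_mem h1) hb
        rwa [show (gw⁻¹ * y * gw)⁻¹ * b = gw⁻¹ * y⁻¹ * (gw * b * gw⁻¹) * gw by group, ← e,
          show gw⁻¹ * y⁻¹ * (y * w) * gw = gw⁻¹ * w * gw by group] at this
      · have := hW.conj_mem w hw gw⁻¹
        rwa [inv_inv] at this
    rw [hdisj, Subgroup.mem_bot] at h2
    have hw1 : w = 1 := by
      calc w = gw * (gw⁻¹ * w * gw) * gw⁻¹ := by group
        _ = 1 := by rw [h2]; group
    rw [← e, hw1, mul_one]
    exact hy
  -- counting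
  choose c hc using hconj
  let C := {w : W // x * (w : H) = w * x}
  let g₁ : W → C := fun v => c v v.2
  have hfib : ∀ v v' : W, g₁ v = g₁ v' → x * ((v : H)⁻¹ * v') = (v : H)⁻¹ * v' * x := by
    intro v v' h
    have hYeq : Y v = Y v' := by
      rw [hc v v.2, hc v' v'.2]
      show A.map (MulAut.conj ((g₁ v : W) : H)).toMonoidHom = _
      rw [h]
    have h1 : ((a * v * x * (a * v)⁻¹)⁻¹ * (a * v' * x * (a * v')⁻¹)) ∈ Y v ⊓ W := by
      refine Subgroup.mem_inf.mpr ⟨mul_mem (inv_mem (hyY v)) (hYeq ▸ hyY v'), ?_⟩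
      rw [← QuotientGroup.eq_one_iff]
      simp only [QuotientGroup.mk_mul, QuotientGroup.mk_inv,
        (QuotientGroup.eq_one_iff _).mpr v.2, (QuotientGroup.eq_one_iff _).mpr v'.2, mul_one]
      exact inv_mul_cancel _
    rw [hYd v v.2, Subgroup.mem_bot, inv_mul_eq_one] at h1
    have h2 : (v : H) * x * (v : H)⁻¹ = (v' : H) * x * (v' : H)⁻¹ := by
      calc (v : H) * x * (v : H)⁻¹ = a⁻¹ * (a * v * x * (a * v)⁻¹) * a := by group
        _ = a⁻¹ * (a * v' * x * (a * v')⁻¹) * a := by rw [h1]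
        _ = _ := by group
    calc x * ((v : H)⁻¹ * v') = (v : H)⁻¹ * ((v : H) * x * (v : H)⁻¹) * v' := by group
      _ = (v : H)⁻¹ * ((v' : H) * x * (v' : H)⁻¹) * v' := by rw [h2]
      _ = _ := by group
  haveI : Nonempty W := ⟨1⟩
  let emb : W → C × C := fun v => (g₁ v,
    ⟨(Function.invFun g₁ (g₁ v))⁻¹ * v, hfib _ _ (Function.invFun_eq ⟨v, rfl⟩)⟩)
  have hemb : Function.Injective emb := by
    intro v v' h
    have h1 : g₁ v = g₁ v' := congrArg Prod.fst h
    have h2 := congrArg (fun t : C × C => (t.2 : W)) h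
    simp only [emb, h1] at h2
    exact mul_left_cancel h2
  have hle := Nat.card_le_card_of_injective emb hemb
  rw [Nat.card_prod] at hle
  obtain ⟨g, hg, w, hw, hgw⟩ := hne
  exact absurd hle (not_le.mpr
    (sq_card_fixed_lt hp5 hWc hWq hirr hx ha hA ⟨g, hRA hg, w, hw, hgw⟩))

/-- A normal `r`-subgroup of a maximal solvable two-generated `A` centralises every `q`-group
normalised by `A`, for `q ≠ r`. -/
theorem centralizes {G : Type u} [Group G] [Finite G] {p q r : ℕ} [Fact p.Prime] [Fact q.Prime]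
    [Fact r.Prime] (hp5 : 5 ≤ p) (hrq : r ≠ q) {A R : Subgroup G} (hAsol : Group.IsSolvable A)
    {x a : G} (hx : orderOf x = p) (ha : a ∈ A) (hA : A = Subgroup.closure {x, a * x * a⁻¹})
    (hmax : ∀ b : G, b ∈ Subgroup.closure {x, b * x * b⁻¹} →
      A ≤ Subgroup.closure {x, b * x * b⁻¹} →
      Group.IsSolvable ↥(Subgroup.closure {x, b * x * b⁻¹}) →
      Subgroup.closure {x, b * x * b⁻¹} = A)
    (hRA : R ≤ A) (hRn : A ≤ Subgroup.normalizer (R : Set G)) (hR : IsPGroup r R) :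
    ∀ V : Subgroup G, IsPGroup q V → A ≤ Subgroup.normalizer (V : Set G) →
      ∀ g ∈ R, ∀ v ∈ V, g * v = v * g := by
  classical
  by_contra hcon
  push Not at hcon
  obtain ⟨V₀, hV₀, hAV₀, g₀, hg₀, v₀, hv₀, hne₀⟩ := hcon
  let Pr : ℕ → Prop := fun n => ∃ V : Subgroup G, IsPGroup q V ∧
    A ≤ Subgroup.normalizer (V : Set G) ∧ (∃ g ∈ R, ∃ v ∈ V, g * v ≠ v * g) ∧ Nat.card V = n
  have hex : ∃ n, Pr n := ⟨_, V₀, hV₀, hAV₀, ⟨g₀, hg₀, v₀, hv₀, hne₀⟩, rfl⟩
  obtain ⟨V, hV, hAV, hne, hVc⟩ := Nat.find_spec hex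
  have hmin : ∀ U : Subgroup G, U < V → A ≤ Subgroup.normalizer (U : Set G) →
      ∀ g ∈ R, ∀ u ∈ U, g * u = u * g := by
    intro U hU hAU g hg u hu
    by_contra hgu
    have h := Nat.find_min' hex ⟨U, hV.to_le hU.le, hAU, ⟨g, hg, u, hu, hgu⟩, rfl⟩
    rw [← hVc] at h
    exact hU.ne (Subgroup.eq_of_le_of_card_ge hU.le h)
  have hcop : ∀ g ∈ R, ∀ u ∈ V, (orderOf g).Coprime (orderOf u) := by
    intro g hg u hu
    obtain ⟨i, hi⟩ := hR ⟨g, hg⟩
    obtain ⟨j, hj⟩ := hV ⟨u, hu⟩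
    exact Nat.Coprime.of_dvd (orderOf_dvd_of_pow_eq_one (congrArg Subtype.val hi :))
      (orderOf_dvd_of_pow_eq_one (congrArg Subtype.val hj :))
      (Nat.Coprime.pow i j ((Nat.coprime_primes Fact.out Fact.out).mpr hrq))
  -- the group A V
  set H := A ⊔ V
  set V' := V.subgroupOf H
  set A' := A.subgroupOf H
  set R' := R.subgroupOf H
  haveI hV'n : V'.Normal := by
    rw [Subgroup.normal_subgroupOf_iff_le_normalizer le_sup_right]
    exact sup_le hAV Subgroup.le_normalizer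
  have hV'p : IsPGroup q V' :=
    hV.of_equiv (Subgroup.subgroupOfEquivOfLe (le_sup_right : V ≤ H)).symm
  have hdecomp : ∀ h : H, ∃ b ∈ A', ∃ w ∈ V', h = b * w := by
    intro h
    obtain ⟨b, hb, w, hw, e⟩ : ∃ b ∈ A, ∃ w ∈ V, b * w = (h : G) := by
      have h2 := h.2
      rw [← SetLike.mem_coe, Subgroup.coe_mul_of_left_le_normalizer_right A V hAV] at h2
      exact Set.mem_mul.mp h2
    exact ⟨⟨b, Subgroup.mem_sup_left hb⟩, hb, ⟨w, Subgroup.mem_sup_right hw⟩, hw, Subtype.ext e.symm⟩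
  haveI hHsol : Group.IsSolvable H := by
    haveI := hAsol
    haveI : Group.IsSolvable V' := by
      haveI := hV'p.isNilpotent
      infer_instance
    let π : A →* H ⧸ V' := (QuotientGroup.mk' V').comp (Subgroup.inclusion le_sup_left)
    have hπ : Function.Surjective π := by
      intro c
      obtain ⟨h, rfl⟩ := QuotientGroup.mk_surjective c
      obtain ⟨b, hb, w, hw, rfl⟩ := hdecomp h
      exact ⟨⟨b, hb⟩, by
        show ((b : H) : H ⧸ V') = ((b * w : H) : H ⧸ V')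
        rw [QuotientGroup.mk_mul, (QuotientGroup.eq_one_iff w).mpr hw, mul_one]⟩
    haveI : Group.IsSolvable (H ⧸ V') := Group.isSolvable_of_surjective hπ
    exact Group.isSolvable_of_ker_le_range V'.subtype (QuotientGroup.mk' V')
      (by rw [QuotientGroup.ker_mk', Subgroup.range_subtype])
  set Φ := (frattini V').map V'.subtype with hΦ
  haveI hΦn : Φ.Normal := inferInstance
  have hΦle : Φ ≤ V' := Subgroup.map_subtype_le _
  let μ := QuotientGroup.mk' Φ
  set W := V'.map μ with hW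
  haveI : W.Normal := hV'n.map μ (QuotientGroup.mk'_surjective _)
  have hμΦ : ∀ h, μ h = 1 ↔ h ∈ Φ := fun h => QuotientGroup.eq_one_iff h
  have hWc : ∀ v ∈ W, ∀ w ∈ W, v * w = w * v := by
    rintro _ ⟨v, hv, rfl⟩ _ ⟨w, hw, rfl⟩
    rw [← map_mul, ← map_mul]
    refine (QuotientGroup.eq.mpr ?_)
    refine ⟨(⟨v, hv⟩ * ⟨w, hw⟩)⁻¹ * (⟨w, hw⟩ * ⟨v, hv⟩), ?_, rfl⟩
    refine PGroups.commutator_le_frattini hV'p ?_
    rw [show ((⟨v, hv⟩ * ⟨w, hw⟩)⁻¹ * (⟨w, hw⟩ * ⟨v, hv⟩) : V') =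
      ⁅(⟨w, hw⟩ : V')⁻¹, (⟨v, hv⟩ : V')⁻¹⁆ by simp only [commutatorElement_def]; group]
    exact Subgroup.commutator_mem_commutator (Subgroup.mem_top _) (Subgroup.mem_top _)
  have hWq : ∀ w ∈ W, w ^ q = 1 := by
    rintro _ ⟨w, hw, rfl⟩
    rw [← map_pow, hμΦ]
    exact ⟨⟨w, hw⟩ ^ q, PGroups.pow_mem_frattini hV'p _, rfl⟩
  -- A-invariant subgroups between Φ and V
  have hdown : ∀ U : Subgroup H, U ≤ V' → U ≠ V' → (∀ b ∈ A', ∀ u ∈ U, b * u * b⁻¹ ∈ U) →
      ∀ g ∈ R', ∀ u ∈ U, g * u = u * g := by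
    intro U hU hUne hUA g hg u hu
    refine Subtype.ext (hmin (U.map H.subtype) (lt_of_le_of_ne ?_ ?_) ?_ g hg u ⟨u, hu, rfl⟩)
    · rintro _ ⟨t, ht, rfl⟩
      exact hU ht
    · intro he
      refine hUne (le_antisymm hU fun t ht => ?_)
      obtain ⟨t', ht', e⟩ : (t : G) ∈ U.map H.subtype := by rw [he]; exact ht
      rwa [show t = t' from Subtype.ext e.symm]
    · intro b hb
      rw [Subgroup.mem_normalizer_iff]
      intro t
      constructor
      · rintro ⟨t', ht', rfl⟩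
        exact ⟨⟨b, Subgroup.mem_sup_left hb⟩ * t' * ⟨b, Subgroup.mem_sup_left hb⟩⁻¹,
          hUA _ hb t' ht', rfl⟩
      · rintro ⟨t', ht', e⟩
        refine ⟨(⟨b, Subgroup.mem_sup_left hb⟩ : H)⁻¹ * t' *
          ((⟨b, Subgroup.mem_sup_left hb⟩ : H)⁻¹)⁻¹, hUA _ (A'.inv_mem hb) t' ht', ?_⟩
        show b⁻¹ * (t' : G) * b⁻¹⁻¹ = t
        rw [show (t' : G) = b * t * b⁻¹ from e]
        group
  have hVne : Φ ≠ V' := by
    intro he
    have htop : frattini V' = ⊤ := by
      rw [eq_top_iff]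
      rintro t -
      obtain ⟨t', ht', e⟩ : (t : H) ∈ Φ := by rw [he]; exact t.2
      rwa [show t = t' from Subtype.ext e.symm]
    obtain ⟨g, hg, v, hv, hgv⟩ := hne
    have hbot : (⊥ : Subgroup V') = ⊤ :=
      frattini_nongenerating (by rw [bot_sup_eq]; exact htop)
    have h1 : (⟨⟨v, Subgroup.mem_sup_right hv⟩, hv⟩ : V') ∈ (⊥ : Subgroup V') :=
      hbot ▸ Subgroup.mem_top _
    rw [Subgroup.mem_bot] at h1
    have h2 : v = 1 := congrArg (fun t : V' => ((t : H) : G)) h1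
    exact hgv (by rw [h2, mul_one, one_mul])
  have hΦA : ∀ b ∈ A', ∀ u ∈ Φ, b * u * b⁻¹ ∈ Φ := fun b _ u hu => hΦn.conj_mem u hu b
  -- generated by commutators
  let U₀ : Subgroup H := Φ ⊔ Subgroup.closure {t | ∃ g ∈ R', ∃ w ∈ V', t = g * w * g⁻¹ * w⁻¹}
  have hcomV : ∀ g : H, ∀ w ∈ V', g * w * g⁻¹ * w⁻¹ ∈ V' := fun g w hw =>
    V'.mul_mem (hV'n.conj_mem w hw g) (V'.inv_mem hw)
  have hU₀ : U₀ = V' := by
    have hle : U₀ ≤ V' := sup_le hΦle ((Subgroup.closure_le _).mpr (by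
      rintro _ ⟨g, hg, w, hw, rfl⟩
      exact hcomV g w hw))
    by_contra hne'
    have hinv : ∀ b ∈ A', ∀ u ∈ U₀, b * u * b⁻¹ ∈ U₀ := by
      intro b hb u hu
      have hle' : U₀ ≤ U₀.comap (MulAut.conj b).toMonoidHom := by
        refine sup_le (fun u hu => Subgroup.mem_sup_left (hΦA b hb u hu))
          ((Subgroup.closure_le _).mpr ?_)
        rintro _ ⟨g, hg, w, hw, rfl⟩
        refine Subgroup.mem_sup_right (Subgroup.subset_closure
          ⟨b * g * b⁻¹, ?_, b * w * b⁻¹, hV'n.conj_mem w hw b, ?_⟩)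
        · exact (Subgroup.mem_normalizer_iff.mp (hRn hb) g).mp hg
        · show b * (g * w * g⁻¹ * w⁻¹) * b⁻¹ = _
          group
      exact hle' hu
    have hc := hdown U₀ hle hne' hinv
    obtain ⟨g, hg, v, hv, hgv⟩ := hne
    let g' : H := ⟨g, Subgroup.mem_sup_left (hRA hg)⟩
    let v' : H := ⟨v, Subgroup.mem_sup_right hv⟩
    have hcm := hc g' hg (g' * v' * g'⁻¹ * v'⁻¹)
      (Subgroup.mem_sup_right (Subgroup.subset_closure ⟨g', hg, v', hv, rfl⟩))
    have h1 := eq_one_of_comm (g := g') (w := v') (pow_orderOf_eq_one g') (pow_orderOf_eq_one _)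
      (by
        rw [← Subgroup.orderOf_coe g', ← Subgroup.orderOf_coe (g' * v' * g'⁻¹ * v'⁻¹)]
        exact hcop g hg _ (hcomV g' v' hv)) hcm
    exact hgv (mul_inv_eq_iff_eq_mul.mp (mul_inv_eq_one.mp (congrArg Subtype.val h1 :)))
  -- R fixes nothing modulo Φ
  have hfix : ∀ w ∈ V', (∀ g ∈ R', μ g * μ w = μ w * μ g) → μ w = 1 := by
    haveI := Fintype.ofFinite R'
    letI : CommGroup W :=
      { (inferInstance : Group W) with mul_comm := fun v w => Subtype.ext (hWc v v.2 w w.2) }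
    have hmem : ∀ (g : H) (w : W), μ g * (w : H ⧸ Φ) * (μ g)⁻¹ ∈ W := fun g w =>
      (inferInstance : W.Normal).conj_mem _ w.2 _
    let c : R' → W → W := fun g w => ⟨μ g * (w : H ⧸ Φ) * (μ g)⁻¹, hmem g w⟩
    let Nm : W →* W :=
      { toFun := fun w => ∏ g : R', c g w
        map_one' := Finset.prod_eq_one fun g _ => Subtype.ext (by simp [c])
        map_mul' := fun v w => by
          rw [← Finset.prod_mul_distrib]
          refine Finset.prod_congr rfl fun g _ => Subtype.ext ?_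
          show μ g * ((v : H ⧸ Φ) * w) * (μ g)⁻¹ =
            μ g * v * (μ g)⁻¹ * (μ g * w * (μ g)⁻¹)
          group }
    have hNm : ∀ t ∈ U₀, ∀ ht : μ t ∈ W, Nm ⟨μ t, ht⟩ = 1 := by
      let S : Subgroup H := ((Nm.ker).map W.subtype).comap μ
      have hS : ∀ t ∈ S, ∀ ht : μ t ∈ W, Nm ⟨μ t, ht⟩ = 1 := by
        rintro t ⟨w, hw, e⟩ ht
        rwa [show (⟨μ t, ht⟩ : W) = w from Subtype.ext e.symm]
      refine fun t ht => hS t ?_
      have hle : U₀ ≤ S := by
        refine sup_le (fun t ht => ⟨1, one_mem _, ((hμΦ t).mpr ht).symm⟩)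
          ((Subgroup.closure_le _).mpr ?_)
        rintro _ ⟨g, hg, w, hw, rfl⟩
        let w' : W := ⟨μ w, w, hw, rfl⟩
        refine ⟨c ⟨g, hg⟩ w' * w'⁻¹, ?_, ?_⟩
        · rw [SetLike.mem_coe, MonoidHom.mem_ker, map_mul, map_inv, mul_inv_eq_one]
          refine Fintype.prod_equiv (Equiv.mulRight (⟨g, hg⟩ : R')) _ _ fun h => Subtype.ext ?_
          show μ h * (μ g * μ w * (μ g)⁻¹) * (μ h)⁻¹ =
            μ ((h : H) * g) * μ w * (μ ((h : H) * g))⁻¹
          rw [map_mul, mul_inv_rev]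
          simp only [mul_assoc]
        · show μ g * μ w * (μ g)⁻¹ * (μ w)⁻¹ = μ (g * w * g⁻¹ * w⁻¹)
          simp
      exact hle ht
    intro w hw hcom
    let w' : W := ⟨μ w, w, hw, rfl⟩
    have h1 : Nm w' = w' ^ Nat.card R' := by
      show ∏ g : R', c g w' = _
      rw [Finset.prod_congr rfl fun g _ => show c g w' = w' from
        Subtype.ext (mul_inv_eq_iff_eq_mul.mpr (hcom g g.2))]
      rw [Finset.prod_const, Finset.card_univ, Nat.card_eq_fintype_card]
    have h2 : w' ^ Nat.card R' = 1 := h1 ▸ hNm w (hU₀ ▸ hw) w'.2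
    have h3 : w' ^ q = 1 := Subtype.ext (hWq _ w'.2)
    obtain ⟨i, hi⟩ := IsPGroup.iff_card.mp
      (hR.of_equiv (Subgroup.subgroupOfEquivOfLe (hRA.trans le_sup_left : R ≤ H)).symm)
    have h4 := Nat.dvd_gcd (orderOf_dvd_of_pow_eq_one h2) (orderOf_dvd_of_pow_eq_one h3)
    rw [hi, (((Nat.coprime_primes Fact.out Fact.out).mpr hrq).pow_left i).gcd_eq_one,
      Nat.dvd_one, orderOf_eq_one_iff] at h4
    exact congrArg Subtype.val h4
  have hcommR : ∀ g ∈ R', ∀ u ∈ A' ⊓ V', g * u = u * g := by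
    intro g hg u hu
    have h1 : g * u * g⁻¹ * u⁻¹ ∈ R' := by
      have := (Subgroup.mem_normalizer_iff.mp (hRn hu.1) (g⁻¹ : H)).mp (R'.inv_mem hg :)
      have h2 := R'.mul_mem hg (show u * g⁻¹ * u⁻¹ ∈ R' from this)
      rwa [show g * (u * g⁻¹ * u⁻¹) = g * u * g⁻¹ * u⁻¹ by group] at h2
    have h2 := hcop _ h1 _ (hcomV g u hu.2)
    rw [Nat.coprime_self, orderOf_eq_one_iff] at h2
    have h3 : g * u * g⁻¹ * u⁻¹ = 1 := Subtype.ext h2
    exact mul_inv_eq_iff_eq_mul.mp (mul_inv_eq_one.mp h3)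
  have hdisj : A'.map μ ⊓ W = ⊥ := by
    rw [eq_bot_iff]
    rintro _ ⟨⟨b, hb, rfl⟩, w, hw, e⟩
    rw [Subgroup.mem_bot]
    have hbV : b ∈ V' := by
      have h1 : w⁻¹ * b ∈ Φ := (QuotientGroup.eq.mp e :)
      have := V'.mul_mem hw (hΦle h1)
      rwa [mul_inv_cancel_left] at this
    exact hfix b hbV fun g hg => by
      rw [← map_mul, ← map_mul, hcommR g hg b ⟨hb, hbV⟩]
  have hsup : A'.map μ ⊔ W = ⊤ := by
    rw [eq_top_iff]
    rintro c -
    obtain ⟨h, rfl⟩ := QuotientGroup.mk'_surjective Φ c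
    obtain ⟨b, hb, w, hw, rfl⟩ := hdecomp h
    rw [map_mul]
    exact Subgroup.mul_mem_sup ⟨b, hb, rfl⟩ ⟨w, hw, rfl⟩
  have hirr : ∀ U : Subgroup (H ⧸ Φ), U ≤ W → (∀ b ∈ A'.map μ, ∀ u ∈ U, b * u * b⁻¹ ∈ U) →
      U = ⊥ ∨ U = W := by
    intro U hU hUA
    by_cases he : U.comap μ = V'
    · exact Or.inr (by
        rw [hW, ← he, Subgroup.map_comap_eq_self_of_surjective (QuotientGroup.mk'_surjective _)])
    · refine Or.inl (eq_bot_iff.mpr ?_)
      have hle : U.comap μ ≤ V' := by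
        intro t ht
        obtain ⟨w, hw, e⟩ := hU ht
        have h1 : w⁻¹ * t ∈ Φ := (QuotientGroup.eq.mp e :)
        have := V'.mul_mem hw (hΦle h1)
        rwa [mul_inv_cancel_left] at this
      have hc := hdown _ hle he fun b hb u hu => by
        show μ (b * u * b⁻¹) ∈ U
        rw [map_mul, map_mul, map_inv]
        exact hUA _ ⟨b, hb, rfl⟩ _ hu
      intro u hu
      obtain ⟨t, rfl⟩ := QuotientGroup.mk'_surjective Φ u
      rw [Subgroup.mem_bot]
      exact hfix t (hle hu) fun g hg => by rw [← map_mul, ← map_mul, hc g hg t hu]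
  have hmove : ∃ g ∈ R'.map μ, ∃ w ∈ W, g * w ≠ w * g := by
    by_contra hall
    push Not at hall
    refine hVne (le_antisymm hΦle fun w hw => (hμΦ w).mp ?_)
    exact hfix w hw fun g hg => hall _ ⟨g, hg, rfl⟩ _ ⟨w, hw, rfl⟩
  have hRn' : A'.map μ ≤ Subgroup.normalizer (R'.map μ : Set (H ⧸ Φ)) := by
    refine le_trans (Subgroup.map_mono ?_) (Subgroup.le_normalizer_map μ)
    intro b hb
    rw [Subgroup.mem_normalizer_iff]
    exact fun t => Subgroup.mem_normalizer_iff.mp (hRn hb) t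
  have hxA : x ∈ A := hA ▸ Subgroup.subset_closure (Or.inl rfl)
  let x' : H := ⟨x, Subgroup.mem_sup_left hxA⟩
  let a' : H := ⟨a, Subgroup.mem_sup_left ha⟩
  have hA' : A' = Subgroup.closure {x', a' * x' * a'⁻¹} := by
    refine Subgroup.map_injective (f := H.subtype) Subtype.val_injective ?_
    rw [Subgroup.map_subgroupOf_eq_of_le le_sup_left, MonoidHom.map_closure, Set.image_pair, hA]
    rfl
  have hxord : orderOf (μ x') = p := by
    have hd : orderOf (μ x') ∣ p := by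
      have h := orderOf_map_dvd μ x'
      rwa [← Subgroup.orderOf_coe x', show orderOf ((x' : H) : G) = p from hx] at h
    refine ((Nat.dvd_prime Fact.out).mp hd).resolve_left fun h1 => ?_
    rw [orderOf_eq_one_iff] at h1
    obtain ⟨g, ⟨g', hg', rfl⟩, w, hw, hgw⟩ := hmove
    apply hgw
    have : A'.map μ = ⊥ := by
      rw [hA', MonoidHom.map_closure, Set.image_pair, map_mul, map_mul, h1, mul_one, map_inv,
        mul_inv_cancel, Set.insert_eq_of_mem (Set.mem_singleton _), Subgroup.closure_singleton_one]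
    have h2 : μ g' ∈ A'.map μ := ⟨g', hRA hg', rfl⟩
    rw [this, Subgroup.mem_bot] at h2
    rw [h2, one_mul, mul_one]
  haveI : Group.IsSolvable (H ⧸ Φ) := Group.isSolvable_of_surjective (QuotientGroup.mk'_surjective Φ)
  obtain ⟨_, ⟨v, hv, rfl⟩, hgen⟩ := exists_generating (p := p) (q := q) (r := r) hp5 hrq hWc hWq
    hdisj hsup (Subgroup.map_mono fun g hg => hRA hg) hRn'
    ((hR.of_equiv (Subgroup.subgroupOfEquivOfLe (hRA.trans le_sup_left : R ≤ H)).symm).map μ)
    hirr hmove hxord (show μ a' ∈ A'.map μ from ⟨a', ha, rfl⟩)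
    (by rw [hA', MonoidHom.map_closure, Set.image_pair]; simp)
  -- lift
  set Y : Subgroup H := Subgroup.closure {x', a' * v * x' * (a' * v)⁻¹}
  have hYμ : Y.map μ = ⊤ := by
    rw [← hgen, MonoidHom.map_closure, Set.image_pair]
    simp
  have hYΦ : Y ⊔ Φ = ⊤ := by
    have h := congrArg (Subgroup.comap μ) hYμ
    rwa [Subgroup.comap_map_eq, QuotientGroup.ker_mk', Subgroup.comap_top] at h
  have hVY : V' ≤ Y := by
    have hK : Y.subgroupOf V' ⊔ frattini V' = ⊤ := by
      rw [eq_top_iff]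
      rintro t -
      obtain ⟨y, hy, f, hf, e⟩ := Subgroup.mem_sup_of_normal_right.mp
        (show (t : H) ∈ Y ⊔ Φ from hYΦ.symm ▸ Subgroup.mem_top _)
      have hyV : y ∈ V' := by
        have := V'.mul_mem t.2 (V'.inv_mem (hΦle hf))
        rwa [← e, mul_inv_cancel_right] at this
      obtain ⟨f', hf', rfl⟩ := hf
      rw [show t = ⟨y, hyV⟩ * f' from Subtype.ext e.symm]
      exact Subgroup.mul_mem_sup hy hf'
    exact Subgroup.subgroupOf_eq_top.mp (frattini_nongenerating hK)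
  have hYtop : Y = ⊤ := top_le_iff.mp (hYΦ ▸ sup_le le_rfl (hΦle.trans hVY))
  have hcl : Subgroup.closure {x, a * (v : G) * x * (a * (v : G))⁻¹} = H := by
    have h := congrArg (Subgroup.map H.subtype) hYtop
    rw [MonoidHom.map_closure, Set.image_pair, ← MonoidHom.range_eq_map, Subgroup.range_subtype] at h
    exact h
  have heq : H = A := by
    have h1 : a * (v : G) ∈ Subgroup.closure {x, a * (v : G) * x * (a * (v : G))⁻¹} := by
      rw [hcl]
      exact Subgroup.mul_mem_sup ha hv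
    have h2 : A ≤ Subgroup.closure {x, a * (v : G) * x * (a * (v : G))⁻¹} := by
      rw [hcl]
      exact le_sup_left
    have h3 : Group.IsSolvable
        ↥(Subgroup.closure {x, a * (v : G) * x * (a * (v : G))⁻¹}) := by
      rw [hcl]
      exact hHsol
    exact hcl.symm.trans (hmax _ h1 h2 h3)
  obtain ⟨g, hg, w, hw, hgw⟩ := hne
  refine hgw (congrArg Subtype.val
    (hcommR ⟨g, Subgroup.mem_sup_left (hRA hg)⟩ hg ⟨w, Subgroup.mem_sup_right hw⟩ ⟨?_, hw⟩))
  show w ∈ A
  exact heq ▸ Subgroup.mem_sup_right hw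

end Cfsg.Agent.H79.TwoGenerated
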